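import Cfsg.Agent.Lib.SecondMain.Contribution
import Cfsg.Agent.Lib.SecondMain.Contributions
import Cfsg.Agent.Lib.SecondMain.Sections

/-!
# Heights through contributions at major subsections

* `exists_div` : a contribution of `χ` is divisible by `p ^ height χ`;
* `contribution_self_ne_zero` : at a major subsection `χ` has a non-zero contribution;
* `exists_poly_pow` : contributions at the powers of `x` are values of one integral polynomial;
* `card_mul_le_sum_roots` : the average over the primitive roots of the absolute values of a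
  polynomial divisible by `p ^ h` is at least `p ^ h`;
* `sum_sections_norm` : the squared norm of an irreducible character, section by section.
-/

set_option autoImplicit false
set_option linter.unusedSectionVars false

open scoped ComplexConjugate

namespace Cfsg.Agent.MajorSub

open Cfsg Cfsg.Agent.Blocks Cfsg.Agent.SecondMain Polynomial

variable {G : Type*} [Group G] [Fintype G] {p : ℕ} {M : Ideal AlgInt} {x : G} {H : Subgroup G}
  [Fintype H] {B : Set (IrrCharacter G)} {b : Set (IrrCharacter H)} [Fintype b]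

/-- A contribution through scaled scalar products and coefficients. -/
theorem contribution_expand (hM : IsPModular p M) (hH : ∀ g, g ∈ H ↔ Commute x g)
    (hb : IsPBlock M b) (χ ψ : IrrCharacter G) :
    contribution p b x χ ψ = ∑ η ∈ b.toFinset,
      ((p : ℂ) ^ blockDefect p b * regInner p (fun c : H => (χ : G → ℂ) (x * (c : G))) (η : H → ℂ)) *
        conj (classInner (fun c : H => (ψ : G → ℂ) (x * (c : G))) (η : H → ℂ)) := by
  classical
  set θ := fun φ : IrrCharacter G => fun c : H => (φ : G → ℂ) (x * (c : G)) with hθ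
  have hcl : ∀ φ, IsClassFunction H (θ φ) := fun φ =>
    isClassFunction_shift (fun h hh => (hH h).mp hh) (irr_class φ)
  have hr : ∀ φ, ∀ η ∈ b.toFinset, regInner p (θ φ) (η : H → ℂ) = ∑ ζ ∈ b.toFinset,
      classInner (θ φ) (ζ : H → ℂ) * regInner p (ζ : H → ℂ) (η : H → ℂ) := fun φ η hη =>
    regInner_eq_sum_toFinset hM hb (hcl φ) (Set.mem_toFinset.mp hη)
  have hidem : ∀ ζ ∈ b.toFinset, ∀ ξ : IrrCharacter H,
      ∑ η ∈ b.toFinset, regInner p (ζ : H → ℂ) (η : H → ℂ) * regInner p (η : H → ℂ) (ξ : H → ℂ)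
        = regInner p (ζ : H → ℂ) (ξ : H → ℂ) := fun ζ hζ ξ => by
    rw [← finsum_mem_eq_toFinset_sum]
    exact regInner_idem hM hb (Set.mem_toFinset.mp hζ) _
  have hswap : ∀ ξ ∈ b.toFinset,
      ∑ η ∈ b.toFinset, regInner p (θ χ) (η : H → ℂ) * regInner p (η : H → ℂ) (ξ : H → ℂ)
        = regInner p (θ χ) (ξ : H → ℂ) := fun ξ hξ => by
    rw [Finset.sum_congr rfl fun η hη => by rw [hr χ η hη, Finset.sum_mul], Finset.sum_comm,
      hr χ ξ hξ]
    refine Finset.sum_congr rfl fun ζ hζ => ?_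
    rw [← hidem ζ hζ ξ, Finset.mul_sum]
    exact Finset.sum_congr rfl fun η _ => by ring
  unfold contribution
  calc _ = (p : ℂ) ^ blockDefect p b * ∑ η ∈ b.toFinset, regInner p (θ χ) (η : H → ℂ) *
        ∑ ξ ∈ b.toFinset, conj (classInner (θ ψ) (ξ : H → ℂ)) *
          regInner p (η : H → ℂ) (ξ : H → ℂ) := by
        congr 1
        refine Finset.sum_congr rfl fun η hη => ?_
        rw [hr ψ η hη, map_sum]
        simp only [map_mul, conj_regInner, hθ]
    _ = _ := by
        simp only [Finset.mul_sum]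
        rw [Finset.sum_comm]
        refine Finset.sum_congr rfl fun ξ hξ => ?_
        show _ = (p : ℂ) ^ blockDefect p b * regInner p (θ χ) (ξ : H → ℂ) * _
        rw [← hswap ξ hξ, Finset.mul_sum, Finset.sum_mul]
        exact Finset.sum_congr rfl fun η _ => by simp only [hθ]; ring

/-- The sum giving the contributions, up to the factor of the degree. -/
noncomputable def localSum (p : ℕ) (x : G) (B : Set (IrrCharacter G)) (b : Set (IrrCharacter H))
    [Fintype b] (χ ψ : IrrCharacter G) : ℂ :=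
  ∑ η ∈ b.toFinset, omega (χ : G → ℂ) (localCol p x B η) *
    conj (classInner (fun c : H => (ψ : G → ℂ) (x * (c : G))) (η : H → ℂ))

theorem memR_conj_coeff (hM : IsPModular p M) (hH : ∀ g, g ∈ H ↔ Commute x g) (ψ : IrrCharacter G)
    (η : IrrCharacter H) :
    MemLocalRing M (conj (classInner (fun c : H => (ψ : G → ℂ) (x * (c : G))) (η : H → ℂ))) := by
  obtain ⟨l, hl, hlf⟩ := exists_classInner_shift (H := H) hH η
  have hres : IsClassFunction H fun c : H => (ψ : G → ℂ) (c : G) :=
    fun a n => irr_class ψ (a : G) (n : G)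
  obtain ⟨m, hm⟩ := Char.IsGeneralizedCharacter.classInner_int
    (Char.isGeneralizedCharacter_of_isCharacter
      (Char.IsCharacter.restrict (Char.IsIrrCharacter.isCharacter ψ.2) H))
    (Char.isGeneralizedCharacter_of_isCharacter (Char.IsIrrCharacter.isCharacter η.2))
  have h := hlf _ hres
  simp only [Subgroup.coe_mul] at h
  rw [h, hm, map_mul, map_intCast]
  exact memR_mul hM (memR_of_isIntegral hM ((IsIntegral.of_pow (orderOf_pos x)
    (by rw [hl]; exact isIntegral_one)).map ((starRingEnd ℂ).toIntAlgHom : ℂ →ₐ[ℤ] ℂ)))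
    (memR_intCast hM m)

theorem contribution_eq_localSum (hM : IsPModular p M) (hH : ∀ g, g ∈ H ↔ Commute x g)
    (hb : IsPBlock M b) (hd : blockDefect p b = blockDefect p B) {χ : IrrCharacter G} (hχ : χ ∈ B) :
    ∃ u : ℂ, MemLocalRing M u ∧ ∀ ψ, contribution p b x χ ψ =
      (p : ℂ) ^ blockHeight p B (χ : G → ℂ) * (u * localSum p x B b χ ψ) := by
  obtain ⟨q, r, -, hr, h⟩ := exists_degree_eq (p := p) hM.1 hχ
  refine ⟨(q : ℂ) * (r : ℂ)⁻¹, memR_mul hM (memR_natCast hM q) (memR_natCast_inv hM hr),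
    fun ψ => ?_⟩
  rw [contribution_expand hM hH hb, localSum, Finset.mul_sum, Finset.mul_sum]
  refine Finset.sum_congr rfl fun η _ => ?_
  rw [hd, omega_localCol η hχ]
  have := irr_one_ne_zero χ
  have := card_ne_zero_C (G := G)
  rw [← mul_assoc _ ((q : ℂ) * _) _, ← mul_assoc _ (q : ℂ), ← h]
  field_simp

theorem exists_div (hM : IsPModular p M) (hx : ∃ k, orderOf x = p ^ k)
    (hH : ∀ g, g ∈ H ↔ Commute x g) (hind : IsInducedBlock M H b B)
    (hd : blockDefect p b = blockDefect p B) {χ : IrrCharacter G} (hχ : χ ∈ B) (ψ : IrrCharacter G) :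
    MemLocalRing M (contribution p b x χ ψ / (p : ℂ) ^ blockHeight p B (χ : G → ℂ)) := by
  obtain ⟨u, hu, h⟩ := contribution_eq_localSum hM hH hind.1 hd hχ
  rw [h ψ, mul_div_cancel_left₀ _ (pow_ne_zero _ (Nat.cast_ne_zero.mpr hM.1.ne_zero))]
  exact memR_mul hM hu (memR_sum hM _ fun η hη => memR_mul hM
    (memR_omega hM (isClassFunction_localCol η)
      (memR_localCol hM hx hH hind.2.1 hind (Set.mem_toFinset.mp hη)) χ)
    (memR_conj_coeff hM hH ψ η))

theorem contribution_self_eq (χ : IrrCharacter G) :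
    contribution p b x χ χ = (((p : ℝ) ^ blockDefect p b * ∑ η ∈ b.toFinset,
      ‖regInner p (fun c : H => (χ : G → ℂ) (x * (c : G))) (η : H → ℂ)‖ ^ 2 : ℝ) : ℂ) := by
  simp only [contribution, Complex.ofReal_mul, Complex.ofReal_pow, Complex.ofReal_natCast,
    Complex.ofReal_sum, Complex.mul_conj']

theorem contribution_self_ne_zero (hM : IsPModular p M) (hx : ∃ k, orderOf x = p ^ k)
    (hH : ∀ g, g ∈ H ↔ Commute x g) (hind : IsInducedBlock M H b B)
    (hd : blockDefect p b = blockDefect p B) {χ : IrrCharacter G} (hχ : χ ∈ B) :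
    contribution p b x χ χ ≠ 0 := by
  intro h0
  rw [contribution_self_eq, Complex.ofReal_eq_zero, mul_eq_zero] at h0
  have h1 := (Finset.sum_eq_zero_iff_of_nonneg fun η _ => sq_nonneg _).mp
    (h0.resolve_left (pow_ne_zero _ (Nat.cast_ne_zero.mpr hM.1.ne_zero)))
  obtain ⟨φ, hφ, hφ0⟩ := exists_height_zero hM hind.2.1
  obtain ⟨u, hu, h⟩ := contribution_eq_localSum hM hH hind.1 hd hφ
  refine contribution_not_memI hM hx hH hind hφ hφ hφ0 hφ0 ?_
  rw [h φ, hφ0, pow_zero, one_mul]
  refine memI_mul_left hM hu (memI_sum hM _ fun η hη => ?_)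
  have h2 : regInner p (fun c : H => (χ : G → ℂ) (x * (c : G))) (η : H → ℂ) = 0 := by
    simpa using h1 η hη
  have h3 : MemLocalIdeal M (omega (φ : G → ℂ) (localCol p x B η)) := by
    have h4 := intRing_congr hM (omega_mem_intRing hM (isClassFunction_localCol η)
      (memR_localCol hM hx hH hind.2.1 hind (Set.mem_toFinset.mp hη)))
      (sameBlock_of_mem hM hind.2.1 hφ hχ)
    have h5 : omega (χ : G → ℂ) (localCol p x B η) = 0 := by rw [omega_localCol η hχ, h2, mul_zero]
    simpa only [omegaFun, h5, sub_zero] using h4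
  exact memI_mul_right hM h3 (memR_conj_coeff hM hH φ η)

/-- The contributions at the powers of `x`, in the same block, are values of one polynomial. -/
theorem exists_poly_pow (hM : IsPModular p M) (hH : ∀ g, g ∈ H ↔ Commute x g)
    (hb : IsPBlock M b) {N : ℕ} (hN : N ≠ 0) (hxN : x ^ N = 1) (χ : IrrCharacter G) :
    ∃ P : ℤ[X], ∀ k : ℕ, (∀ g, g ∈ H ↔ Commute (x ^ k) g) →
      contribution p b (x ^ k) χ χ = aeval (GaloisAvg.zeta N ^ k) P := by
  classical
  have : NeZero N := ⟨hN⟩
  have hz := GaloisAvg.zeta_isPrimitiveRoot hN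
  set ζ := GaloisAvg.zeta N
  choose l hl1 hl using fun η => exists_classInner_shift (H := H) hH η
  choose m hm using fun η : IrrCharacter H =>
    Char.IsGeneralizedCharacter.classInner_int
      (Char.isGeneralizedCharacter_of_isCharacter
        (Char.IsCharacter.restrict (Char.IsIrrCharacter.isCharacter χ.2) H))
      (Char.isGeneralizedCharacter_of_isCharacter (Char.IsIrrCharacter.isCharacter η.2))
  choose n hn using fun (η : IrrCharacter H) (ξ : b) => RegPart.exists_int_defect hM hb η ξ.2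
  have hcl : ∀ k : ℕ, IsClassFunction H fun c : H => (χ : G → ℂ) (x ^ k * (c : G)) := fun k =>
    isClassFunction_shift (fun h hh => ((hH h).mp hh).pow_left k) (irr_class χ)
  have hcoef : ∀ (k : ℕ) (η : IrrCharacter H),
      classInner (fun c : H => (χ : G → ℂ) (x ^ k * (c : G))) (η : H → ℂ) = l η ^ k * m η := by
    intro k η
    induction k with
    | zero => simp only [pow_zero, one_mul]; exact hm η
    | succ k ih =>
      have h := hl η _ (hcl k)
      simp only [Subgroup.coe_mul, ← mul_assoc, ← pow_succ] at h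
      rw [h, ih]; ring
  choose i hi using fun η : IrrCharacter H => hz.eq_pow_of_pow_eq_one (show l η ^ N = 1 by
    obtain ⟨a, ha⟩ := orderOf_dvd_of_pow_eq_one hxN
    rw [ha, pow_mul, hl1, one_pow])
  let P : ℤ[X] := ∑ η ∈ b.toFinset, ∑ ξ ∈ b.toFinset,
    if hη : η ∈ b then C (m ξ * n ξ ⟨η, hη⟩ * m η) * X ^ (i ξ + (N - 1) * i η) else 0
  refine ⟨P, fun k hk => ?_⟩
  rw [contribution_expand hM hk hb, map_sum]
  refine Finset.sum_congr rfl fun η hη => ?_
  have hηb := Set.mem_toFinset.mp hη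
  rw [regInner_eq_sum_toFinset hM hb (hcl k) hηb, map_sum, Finset.mul_sum, Finset.sum_mul]
  refine Finset.sum_congr rfl fun ξ _ => ?_
  rw [hcoef, hcoef, dif_pos hηb, map_mul, map_pow, map_intCast, ← (hi η).2, map_pow,
    ← (hi ξ).2, map_mul (aeval _), aeval_C, map_pow, aeval_X, eq_intCast]
  push_cast
  rw [← hn ξ ⟨η, hηb⟩]
  have hc : conj ζ = ζ ^ (N - 1) := by
    rw [← Complex.inv_eq_conj (hz.norm'_eq_one hN)]
    refine inv_eq_of_mul_eq_one_left ?_
    rw [← pow_succ, Nat.sub_add_cancel (Nat.one_le_iff_ne_zero.mpr hN), hz.pow_eq_one]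
  rw [hc]
  simp only [regInner]
  ring

/-- The product over the primitive roots is a rational integer. -/
theorem exists_int_prod {N : ℕ} [NeZero N] (P : ℤ[X]) :
    ∃ n : ℤ, ∏ z ∈ primitiveRoots N ℂ, aeval z P = (n : ℂ) := by
  classical
  have : NeZero (N : ℚ) := NeZero.charZero
  have : IsCyclotomicExtension {N} ℚ (CyclotomicField N ℚ) :=
    CyclotomicField.isCyclotomicExtension N ℚ
  have hK : IsPrimitiveRoot (IsCyclotomicExtension.zeta N ℚ (CyclotomicField N ℚ)) N :=
    IsCyclotomicExtension.zeta_spec N ℚ (CyclotomicField N ℚ)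
  set z0 := IsCyclotomicExtension.zeta N ℚ (CyclotomicField N ℚ)
  let e := hK.embeddingsEquivPrimitiveRoots ℂ (cyclotomic.irreducible_rat (NeZero.pos N))
  haveI : FiniteDimensional ℚ (CyclotomicField N ℚ) :=
    IsCyclotomicExtension.finiteDimensional {N} ℚ (CyclotomicField N ℚ)
  have h3 : IsIntegral ℤ (Algebra.norm ℚ (aeval z0 P)) :=
    Algebra.isIntegral_norm ℚ (IsIntegral.map_of_comp_eq (RingHom.id ℤ)
      (RingHom.id (CyclotomicField N ℚ)) rfl
      ((adjoin_le_integralClosure (hK.isIntegral (NeZero.pos N)))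
        (aeval_mem_adjoin_singleton ℤ z0)))
  obtain ⟨n, hn⟩ := IsIntegrallyClosed.isIntegral_iff.mp h3
  refine ⟨n, ?_⟩
  have h2 : ∏ σ : CyclotomicField N ℚ →ₐ[ℚ] ℂ, σ (aeval z0 P)
      = ∏ z : primitiveRoots N ℂ, aeval (z : ℂ) P := by
    refine Fintype.prod_equiv e _ _ fun σ => ?_
    rw [show ((e σ : primitiveRoots N ℂ) : ℂ) = σ z0 from rfl]
    exact (aeval_algHom_apply (σ.restrictScalars ℤ) z0 P).symm
  rw [← Finset.prod_coe_sort (primitiveRoots N ℂ) fun z => aeval z P, ← h2,
    ← Algebra.norm_eq_prod_embeddings ℚ ℂ, ← hn]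
  simp

theorem card_mul_le_sum_roots (hM : IsPModular p M) {N : ℕ} [NeZero N] (P : ℤ[X]) (h : ℕ)
    (hne : ∀ z ∈ primitiveRoots N ℂ, aeval z P ≠ 0)
    (hdiv : ∀ z ∈ primitiveRoots N ℂ, MemLocalRing M (aeval z P / (p : ℂ) ^ h)) :
    ((primitiveRoots N ℂ).card : ℝ) * (p : ℝ) ^ h
      ≤ ∑ z ∈ primitiveRoots N ℂ, ‖aeval z P‖ := by
  set R := primitiveRoots N ℂ
  obtain ⟨n, hn⟩ := exists_int_prod (N := N) P
  have hdvd : (p : ℤ) ^ (h * R.card) ∣ n := by
    refine RegPart.dvd_intCast_of_memR_div hM ?_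
    rw [← hn, pow_mul, ← Finset.prod_const, ← Finset.prod_div_distrib]
    exact memR_prod hM _ hdiv
  have hn0 : n ≠ 0 := fun h0 => Finset.prod_ne_zero_iff.mpr hne (by rw [hn, h0, Int.cast_zero])
  have hp0 : (0 : ℝ) < (p : ℝ) ^ h := pow_pos (Nat.cast_pos.mpr hM.1.pos) _
  have h1 : (1 : ℝ) ≤ ∏ z ∈ R, ‖aeval z P‖ / (p : ℝ) ^ h := by
    rw [Finset.prod_div_distrib, Finset.prod_const, ← pow_mul, le_div_iff₀ (pow_pos
      (Nat.cast_pos.mpr hM.1.pos) _), one_mul, ← norm_prod, hn, Complex.norm_intCast]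
    calc (p : ℝ) ^ (h * R.card) = (((p : ℤ) ^ (h * R.card) : ℤ) : ℝ) := by push_cast; rfl
      _ ≤ ((|n| : ℤ) : ℝ) := Int.cast_le.mpr (Int.le_of_dvd (abs_pos.mpr hn0) ((dvd_abs _ _).mpr hdvd))
      _ = |(n : ℝ)| := Int.cast_abs
  have hpos : ∀ z ∈ R, 0 < ‖aeval z P‖ / (p : ℝ) ^ h := fun z hz =>
    div_pos (norm_pos_iff.mpr (hne z hz)) hp0
  have h2 : 0 ≤ ∑ z ∈ R, Real.log (‖aeval z P‖ / (p : ℝ) ^ h) := by
    rw [← Real.log_prod fun z hz => (hpos z hz).ne']
    exact Real.log_nonneg h1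
  have h3 := h2.trans (Finset.sum_le_sum fun z hz => Real.log_le_sub_one_of_pos (hpos z hz))
  rw [Finset.sum_sub_distrib, Finset.sum_const, nsmul_one, ← Finset.sum_div, sub_nonneg,
    le_div_iff₀ hp0] at h3
  exact h3

theorem regInner_self_eq {K : Type*} [Group K] [Fintype K] [Fintype (IrrCharacter K)] {f : K → ℂ}
    (hf : IsClassFunction K f) : regInner p f f =
      ((∑ η : IrrCharacter K, ‖regInner p f (η : K → ℂ)‖ ^ 2 : ℝ) : ℂ) := by
  simp only [Complex.ofReal_sum, Complex.ofReal_pow, ← Complex.mul_conj']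
  rw [regInner, RegPart.classInner_self_reg,
    Char.classInner_eq_sum (BrauerPairs.isClassFunction_pRegularPart hf)]
  rfl

open scoped Classical in
/-- The squared norm of an irreducible character, section by section. -/
theorem sum_sections_norm [Fact p.Prime] (X : Finset G) (hX : ∀ y ∈ X, ∃ k, orderOf y = p ^ k)
    (hXrep : ∀ g : G, (∃ k : ℕ, orderOf g = p ^ k) → ∃! y, y ∈ X ∧ IsConj g y)
    [∀ y : G, Fintype (IrrCharacter (Subgroup.centralizer ({y} : Set G)))]
    (χ : IrrCharacter G) :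
    ∑ y ∈ X, ∑ η : IrrCharacter (Subgroup.centralizer ({y} : Set G)),
      ‖regInner p (fun c : Subgroup.centralizer ({y} : Set G) => (χ : G → ℂ) (y * (c : G)))
        (η : Subgroup.centralizer ({y} : Set G) → ℂ)‖ ^ 2 = 1 := by
  classical
  refine Complex.ofReal_injective ?_
  rw [Complex.ofReal_sum, Complex.ofReal_one]
  have hf : IsClassFunction G fun g => (χ : G → ℂ) g * conj ((χ : G → ℂ) g) := fun g h => by
    simp only [irr_class χ g h]
  rw [← Char.classInner_irr_self χ.2]
  show _ = (Nat.card G : ℂ)⁻¹ * ∑ g, (fun g => (χ : G → ℂ) g * conj ((χ : G → ℂ) g)) g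
  rw [sum_eq_sum_sections hf X hX hXrep, Finset.mul_sum]
  refine Finset.sum_congr rfl fun y _ => ?_
  rw [← regInner_self_eq (isClassFunction_shift
    (fun h hh => commute_iff_mem_centralizer_singleton.mp hh) (irr_class χ)), regInner_eq_sum,
    Finset.sum_filter, mul_assoc (Nat.card G : ℂ), inv_mul_cancel_left₀ card_ne_zero_C]

end Cfsg.Agent.MajorSub
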