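import Cfsg.Agent.Lib.BlocksNormal.Cover
import Cfsg.Agent.Lib.SecondMain.Second

/-!
# Blocks of `Q C(Q)`; the extended first main theorem

* `isInducedBlock_of_cover`: for a normal subgroup `N` containing the centraliser of a normal
  `p`-subgroup, covering blocks are the induced ones.
* `isDefectGroup_of_induced`: a block of `H ≤ N(P)` inducing a block with defect group `P ≤ H` has
  defect group `P`.
* `cover_brauerCentralChar`: covering between `L ≤ N ≤ N(P)` respects Brauer central characters.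
* `ext_first_main_conj`: two blocks of `L`, `P C(P) ≤ L`, normal in `N(P)`, inducing the same block
  with defect group `P` are conjugate in `N(P)`.
-/

set_option autoImplicit false

open scoped ComplexConjugate

namespace Cfsg.Agent.BlocksNormal

open Cfsg Cfsg.Agent.Blocks

variable {G : Type*} [Group G] [Fintype G] {p : ℕ} {M : Ideal AlgInt}

theorem isInducedBlock_of_cover [Fact p.Prime] (hM : IsPModular p M) (N : Subgroup G) [N.Normal]
    [Fintype N] {Q : Subgroup G} [Q.Normal] (hQ : IsPGroup p Q)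
    (hCN : Subgroup.centralizer (Q : Set G) ≤ N) {b : Set (IrrCharacter N)} (hb : IsPBlock M b)
    {B : Set (IrrCharacter G)} (hB : IsPBlock M B)
    (hcov : ∃ χ ∈ B, ∃ θ ∈ b, classInner (fun n : N => (χ : G → ℂ) n) (θ : N → ℂ) ≠ 0) :
    IsInducedBlock M N b B := by
  refine ⟨hb, hB, fun ξ hξ χ hχ g => ?_⟩
  by_cases hg : g ∈ N
  · exact memI_sub_comm ((cover_iff_congr N hM hB hb).mp hcov χ hχ ξ hξ ⟨g, hg⟩)
  · have hnot : ∀ x, IsConj g x → x ∉ N := fun x hx hxN => by
      obtain ⟨c, rfl⟩ := isConj_iff.mp hx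
      exact hg (by simpa [mul_assoc] using Subgroup.Normal.conj_mem ‹N.Normal› _ hxN c⁻¹)
    have h0 : inducedCentralChar N (ξ : N → ℂ) g = 0 := by
      rw [inducedCentralChar_eq_omega hM, omega_eq_sum, Finset.sum_eq_zero (fun h _ => ?_), zero_div]
      rw [classInd, if_neg fun hc => hnot _ hc h.2, zero_mul]
    rw [h0, zero_sub]
    exact memI_neg (memI_centralChar_of_forall_notMem hM hQ
      (fun x hx hxC => hnot x hx (hCN hxC)) χ)

theorem isDefectGroup_of_induced [Fact p.Prime] (hM : IsPModular p M) {P H : Subgroup G}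
    (hPH : P ≤ H) (hH : H ≤ Subgroup.normalizer (P : Set G)) {b : Set (IrrCharacter H)}
    {B : Set (IrrCharacter G)} (hind : IsInducedBlock M H b B) (hP : IsDefectGroup p M B P) :
    IsDefectGroup p M b (P.subgroupOf H) := by
  obtain ⟨E, hE⟩ := exists_isDefectGroup hM hind.1
  haveI : (P.subgroupOf H).Normal := Subgroup.normal_subgroupOf_of_le_normalizer hH
  have h1 := normal_le_defectGroup hM
    ((isPGroup_defectGroup hM hP).of_equiv (Subgroup.subgroupOfEquivOfLe hPH).symm) hind.1 hE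
  obtain ⟨E', hE', hEE'⟩ := exists_defectGroup_ge_of_induced hM hind hE
  obtain ⟨x, rfl⟩ := isDefectGroup_conj_eq hM hind.2.1 hP hE'
  have h2 : Nat.card E ≤ Nat.card (P.subgroupOf H) := by
    rw [Nat.card_congr (Subgroup.subgroupOfEquivOfLe hPH).toEquiv, ← card_conjSub x P,
      ← Subgroup.card_map_of_injective (K := E) H.subtype_injective]
    exact Subgroup.card_le_of_le hEE'
  rwa [Subgroup.eq_of_le_of_card_ge h1 h2]

theorem cover_brauerCentralChar [Fact p.Prime] (hM : IsPModular p M) {P N L : Subgroup G}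
    [Fintype N] [(L.subgroupOf N).Normal] [Fintype (L.subgroupOf N)]
    (hN : N ≤ Subgroup.normalizer (P : Set G)) (hC : Subgroup.centralizer (P : Set G) ≤ L)
    (hLN : L ≤ N) {θ : IrrCharacter N} {ξ : IrrCharacter L}
    (hcov : classInner (fun n : L.subgroupOf N => (θ : N → ℂ) n)
      (BrauerPairs.pullIrr (Subgroup.subgroupOfEquivOfLe hLN) ξ : L.subgroupOf N → ℂ) ≠ 0)
    {θ' : IrrCharacter N} (hθ' : θ' ∈ blockOf M (θ : N → ℂ)) (g : G) :
    MemLocalIdeal M (brauerCentralChar P N (θ' : N → ℂ) g -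
      brauerCentralChar P L (ξ : L → ℂ) g) := by
  classical
  have := Fintype.ofFinite (ConjClasses N)
  have := Fintype.ofFinite L
  set ξ' := BrauerPairs.pullIrr (Subgroup.subgroupOfEquivOfLe hLN) ξ with hξ'
  rw [brauerCentralChar_eq_phi hM, brauerCentralChar_eq_phi hM, brauerPhi, brauerPhi,
    ofOmega_omega (isClassFunction_classInd g)]
  set Z := brauerTrunc P N (classInd g) with hZdef
  have hZ : IsClassFunction N Z := isClassFunction_brauerTrunc hN (isClassFunction_classInd g)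
  have hzero : ∀ n : N, n ∉ L.subgroupOf N → Z n = 0 := fun n hn => by
    simp only [hZdef, brauerTrunc]
    rw [if_neg fun h => hn (Subgroup.mem_subgroupOf.mpr (hC h))]
  have hsub : omega (ξ' : L.subgroupOf N → ℂ) (fun m : L.subgroupOf N => Z m) =
      omega (ξ : L → ℂ) (brauerTrunc P L (classInd g)) := by
    rw [omega_eq_sum, omega_eq_sum]
    congr 1
    · exact Fintype.sum_equiv (Subgroup.subgroupOfEquivOfLe hLN).toEquiv _ _ fun m => rfl
  rw [← hsub, SecondMain.omega_restrict_eq_sum hM _ ξ' hZ, omega_eq_sum_classes hZ,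
    ← Finset.sum_sub_distrib]
  refine memI_sum hM _ fun q _ => ?_
  rw [← mul_sub]
  by_cases hq : Quotient.out q ∈ L.subgroupOf N
  · exact memI_mul_left hM (memR_brauerTrunc hM P N (classInd_mem (locRing hM) g) _)
      ((cover_iff_congr (L.subgroupOf N) hM ⟨θ, rfl⟩ ⟨ξ', rfl⟩).mp
        ⟨θ, mem_blockOf_self hM θ, ξ', mem_blockOf_self hM ξ', hcov⟩ θ' hθ' ξ'
        (mem_blockOf_self hM ξ') ⟨_, hq⟩)
  · rw [hzero _ hq, zero_mul]
    exact memI_zero hM

theorem ext_first_main_conj [Fact p.Prime] (hM : IsPModular p M) {P L : Subgroup G}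
    {B : Set (IrrCharacter G)} (hP : IsDefectGroup p M B P) (hPL : P ≤ L)
    (hC : Subgroup.centralizer (P : Set G) ≤ L) (hL : L ≤ Subgroup.normalizer (P : Set G))
    [(L.subgroupOf (Subgroup.normalizer (P : Set G))).Normal]
    {b b' : Set (IrrCharacter L)} (hb : IsInducedBlock M L b B) (hb' : IsInducedBlock M L b' B) :
    ∃ n ∈ Subgroup.normalizer (P : Set G), ∀ θ ∈ b, ∃ θ' ∈ b', ∀ x : L,
      ∀ hx : n * (x : G) * n⁻¹ ∈ L, (θ' : L → ℂ) x = (θ : L → ℂ) ⟨n * (x : G) * n⁻¹, hx⟩ := by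
  classical
  set N := Subgroup.normalizer (P : Set G)
  have := Fintype.ofFinite N
  have := Fintype.ofFinite (L.subgroupOf N)
  set e := Subgroup.subgroupOfEquivOfLe hL
  have hPp := isPGroup_defectGroup hM hP
  have hup : ∀ c : Set (IrrCharacter L), IsInducedBlock M L c B → ∀ ξ ∈ c, ∃ θ : IrrCharacter N,
      classInner (fun n : L.subgroupOf N => (θ : N → ℂ) n)
        (BrauerPairs.pullIrr e ξ : L.subgroupOf N → ℂ) ≠ 0 ∧
      IsInducedBlock M N (blockOf M (θ : N → ℂ)) B := by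
    intro c hc ξ hξ
    obtain ⟨θ, hθ⟩ := exists_over (L.subgroupOf N) (BrauerPairs.pullIrr e ξ)
    refine ⟨θ, hθ, ⟨θ, rfl⟩, hc.2.1, fun θ' hθ' χ hχ g => ?_⟩
    refine memI_sub_trans hM
      (inducedCentralChar_congr_brauer hM hPp Subgroup.le_normalizer le_rfl θ' g) ?_
    refine memI_sub_trans hM (cover_brauerCentralChar hM le_rfl hC hL hθ hθ' g) ?_
    exact memI_sub_trans hM (memI_sub_comm (inducedCentralChar_congr_brauer hM hPp hPL hL ξ g))
      (hc.2.2 ξ hξ χ hχ g)
  obtain ⟨ξ, hξ⟩ := isPBlock_nonempty hM hb.1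
  obtain ⟨η, hη⟩ := isPBlock_nonempty hM hb'.1
  obtain ⟨Θ, hΘ, hΘi⟩ := hup b hb ξ hξ
  obtain ⟨Θ', hΘ', hΘi'⟩ := hup b' hb' η hη
  have heq := first_main_unique hM hPp hΘi hΘi'
    (isDefectGroup_of_induced hM Subgroup.le_normalizer le_rfl hΘi hP)
    (isDefectGroup_of_induced hM Subgroup.le_normalizer le_rfl hΘi' hP)
  have hs : SameBlock M (Θ : N → ℂ) (Θ' : N → ℂ) := by
    have h : Θ' ∈ blockOf M (Θ : N → ℂ) := by rw [heq]; exact mem_blockOf_self hM Θ'
    exact h
  obtain ⟨n, hn⟩ := exists_conjIrr_mem_of_sameBlock (L.subgroupOf N) hM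
    ⟨BrauerPairs.pullIrr e ξ, rfl⟩ hs (mem_blockOf_self hM _) hΘ hΘ'
  refine ⟨n, n.2, fun θ hθ => ?_⟩
  set θ'' := conjIrr (L.subgroupOf N) n⁻¹ (BrauerPairs.pullIrr e θ)
  refine ⟨BrauerPairs.pullIrr e.symm θ'', ?_, fun x hx => ?_⟩
  · have h1 : SameBlock M (BrauerPairs.pullIrr e ξ : L.subgroupOf N → ℂ)
        (BrauerPairs.pullIrr e θ : L.subgroupOf N → ℂ) :=
      (BrauerPairs.sameBlock_comp_equiv e _ _).mpr (sameBlock_of_mem hM hb.1 hξ hθ)
    have h2 := sameBlock_conjIrr (L.subgroupOf N) n⁻¹ (sameBlock_trans hM (sameBlock_symm hn) h1)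
    rw [← conjIrr_mul, inv_mul_cancel, conjIrr_one] at h2
    rw [isPBlock_eq_blockOf hM hb'.1 hη]
    show SameBlock M (η : L → ℂ) (fun y => (θ'' : L.subgroupOf N → ℂ) (e.symm y))
    have h3 := (BrauerPairs.sameBlock_comp_equiv e.symm
      (BrauerPairs.pullIrr e η : L.subgroupOf N → ℂ) (θ'' : L.subgroupOf N → ℂ)).mpr h2
    simp only [BrauerPairs.pullIrr_apply, MulEquiv.apply_symm_apply] at h3
    exact h3
  · show (θ : L → ℂ) (e (MulAut.conjNormal n⁻¹⁻¹ (e.symm x))) = _
    refine congrArg (θ : L → ℂ) (Subtype.ext ?_)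
    simp [e, Subgroup.subgroupOfEquivOfLe, mul_assoc]

end Cfsg.Agent.BlocksNormal
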