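import Cfsg.Agent.Lib.BlocksNormal.Cover
import Cfsg.Agent.Lib.Blocks.Brauer
import Cfsg.Agent.Lib.Blocks.Defect

/-!
# Blocks covering an invariant block of a normal subgroup

* `orbitSet_eq_self`, `inducedCentralChar_eq_sum`.
* `exists_split_defectClass`: a defect class `n` of an invariant block `b` of `N` whose conjugacy
  class in `G` splits into a number of `N`-classes prime to `p`.
* `exists_cover_large`: some block covering `b` has defect `d(b) + v [G : N]`.
* `card_inf_le`: the defect group of a block covering `b` meets `N` in at most `p ^ d(b)` elements.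
-/

set_option autoImplicit false
set_option linter.unusedSectionVars false

open scoped ComplexConjugate

namespace Cfsg.Agent.BlocksNormal

open Cfsg Cfsg.Agent.Blocks

variable {G : Type*} [Group G] [Fintype G] (N : Subgroup G) [hN : N.Normal] [Fintype N] {p : ℕ}
  [hp : Fact p.Prime] {M : Ideal AlgInt}

theorem orbitSet_eq_self {b : Set (IrrCharacter N)}
    (hinv : ∀ g : G, ∀ θ ∈ b, ∀ θ' : IrrCharacter N,
      (∀ n : N, (θ' : N → ℂ) n = (θ : N → ℂ) ⟨g * n * g⁻¹, hN.conj_mem n n.2 g⟩) → θ' ∈ b) :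
    orbitSet N b = b := by
  ext θ
  refine ⟨fun ⟨g, hg⟩ => hinv g _ hg θ fun n => ?_, fun h => ⟨1, by rwa [conjIrr_one]⟩⟩
  show (θ : N → ℂ) n = CliffordChar.conjFun N g (θ : N → ℂ) _
  rw [CliffordChar.conjFun_apply]
  refine congrArg _ (Subtype.ext ?_)
  show (n : G) = g⁻¹ * (g * n * g⁻¹) * g
  group

theorem inducedCentralChar_eq_sum (hM : IsPModular p M) [Fintype (ConjClasses N)]
    (θ : IrrCharacter N) (g : G) :
    inducedCentralChar N (θ : N → ℂ) g =
      ∑ q : ConjClasses N, classInd g ((Quotient.out q : N) : G) *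
        centralChar (θ : N → ℂ) (Quotient.out q) := by
  rw [inducedCentralChar_eq_omega hM,
    omega_eq_sum_classes (isClassFunction_restrict (isClassFunction_classInd g) N)]

theorem centralChar_congr_conj (hM : IsPModular p M) {b : Set (IrrCharacter N)}
    (hb : IsPBlock M b) (hA : orbitSet N b = b) {θ : IrrCharacter N} (hθ : θ ∈ b) (x : G) (m : N) :
    MemLocalIdeal M (centralChar (θ : N → ℂ) (MulAut.conjNormal x m) -
      centralChar (θ : N → ℂ) m) := by
  have hθ' : conjIrr N x⁻¹ θ ∈ b := by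
    rw [← hA]
    exact ⟨x, by rwa [← conjIrr_mul, mul_inv_cancel, conjIrr_one]⟩
  have h := sameBlock_of_mem hM hb hθ' hθ m
  rw [← BrauerPairs.centralChar_comp_equiv (MulAut.conjNormal x : MulAut N) (θ : N → ℂ) m]
  convert h using 3
  funext y
  show _ = CliffordChar.conjFun N x⁻¹ (θ : N → ℂ) y
  rw [CliffordChar.conjFun_apply]
  refine congrArg _ (Subtype.ext ?_)
  simp [MulAut.conjNormal_apply]

/-- A defect class of an invariant block which splits into a number of classes prime to `p`. -/
theorem exists_split_defectClass (hM : IsPModular p M) {b : Set (IrrCharacter N)}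
    (hb : IsPBlock M b) (hA : orbitSet N b = b) :
    ∃ n : N, IsDefectClass M b n ∧
      (∀ θ ∈ b, ¬ MemLocalIdeal M (inducedCentralChar N (θ : N → ℂ) (n : G))) ∧
      (Nat.card (Subgroup.centralizer ({(n : G)} : Set G))).factorization p =
        (Nat.card (Subgroup.centralizer ({n} : Set N))).factorization p +
          N.index.factorization p := by
  classical
  have := Fintype.ofFinite (ConjClasses G)
  have := Fintype.ofFinite (ConjClasses N)
  obtain ⟨θ₀, hθ₀⟩ := isPBlock_nonempty hM hb
  have hz := isClassFunction_orbitFun N b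
  have horb : ∀ m : N, orbitFun N b (m : G) = blockCoeff b m := fun m => by
    rw [orbitFun, Char.extendByZero_coe, hA, blockCoeff_eq_ofOmega]
  -- some class of `G` inside `N`
  have hlin : (1 : ℂ) = ∑ q : ConjClasses G,
      orbitFun N b (Quotient.out q) * inducedCentralChar N (θ₀ : N → ℂ) (Quotient.out q) := by
    have h1 : omega (θ₀ : N → ℂ) (fun m : N => orbitFun N b (m : G)) = 1 := by
      rw [funext horb, blockCoeff_eq_ofOmega, omega_ofOmega, blockInd_of_mem hθ₀]
    rw [← h1]
    simp only [inducedCentralChar_eq_omega hM, omega_eq_sum, ← mul_div_assoc]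
    rw [← Finset.sum_div]
    congr 1
    simp only [Finset.mul_sum]
    rw [Finset.sum_comm]
    refine Finset.sum_congr rfl fun x _ => ?_
    rw [classFunction_eq_sum_classInd hz (x : G), Finset.sum_mul]
    exact Finset.sum_congr rfl fun q _ => by ring
  obtain ⟨g, hg⟩ : ∃ g : G, ¬ MemLocalIdeal M
      (orbitFun N b g * inducedCentralChar N (θ₀ : N → ℂ) g) := by
    by_contra hcon
    push Not at hcon
    exact not_memI_one hM (hlin ▸ memI_sum hM _ fun q _ => hcon _)
  obtain ⟨n, rfl⟩ : ∃ n : N, (n : G) = g := by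
    refine ⟨⟨g, ?_⟩, rfl⟩
    by_contra hgN
    rw [orbitFun, Char.extendByZero_not_mem _ _ hgN, zero_mul] at hg
    exact hg (memI_zero hM)
  have hindR : MemLocalRing M (inducedCentralChar N (θ₀ : N → ℂ) (n : G)) := by
    rw [inducedCentralChar_eq_sum N hM]
    exact memR_sum hM _ fun q _ => memR_mul hM (classInd_mem (locRing hM) _ _)
      (memR_centralChar hM θ₀ _)
  rw [horb] at hg
  have hbn : ¬ MemLocalIdeal M (blockCoeff b n) := fun h => hg (memI_mul_right hM h hindR)
  have hind : ¬ MemLocalIdeal M (inducedCentralChar N (θ₀ : N → ℂ) (n : G)) := fun h =>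
    hg (memI_mul_left hM (memR_blockCoeff hM hb n) h)
  -- the classes of `N` inside the class
  set S := (Finset.univ : Finset (ConjClasses N)).filter
    fun q => IsConj (n : G) ((Quotient.out q : N) : G) with hS
  have hsum : ∀ θ : IrrCharacter N, inducedCentralChar N (θ : N → ℂ) (n : G) =
      ∑ q ∈ S, centralChar (θ : N → ℂ) (Quotient.out q) := fun θ => by
    rw [inducedCentralChar_eq_sum N hM]
    simp only [classInd, ite_mul, one_mul, zero_mul]
    exact (Finset.sum_filter _ _).symm
  have hSconj : ∀ q ∈ S, ∃ x : G, MulAut.conjNormal x n = (Quotient.out q : N) := fun q hq => by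
    obtain ⟨x, hx⟩ := isConj_iff.mp (Finset.mem_filter.mp hq).2
    exact ⟨x, Subtype.ext (by rwa [MulAut.conjNormal_apply])⟩
  have hk : MemLocalIdeal M (inducedCentralChar N (θ₀ : N → ℂ) (n : G) -
      (S.card : ℂ) * centralChar (θ₀ : N → ℂ) n) := by
    rw [hsum, ← nsmul_eq_mul, ← Finset.sum_const, ← Finset.sum_sub_distrib]
    refine memI_sum hM _ fun q hq => ?_
    obtain ⟨x, hx⟩ := hSconj q hq
    rw [← hx]
    exact centralChar_congr_conj N hM hb hA hθ₀ x n
  have hkp : ¬ p ∣ S.card := fun hd => hind (by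
    rw [memI_iff_of_sub hM hk]
    exact memI_mul_right hM ((memI_natCast hM).mpr hd) (memR_centralChar hM θ₀ n))
  have hω : ¬ MemLocalIdeal M (centralChar (θ₀ : N → ℂ) n) := fun h => hind (by
    rw [memI_iff_of_sub hM hk]
    exact memI_mul_left hM (memR_natCast hM _) h)
  have hdef : IsDefectClass M b n := ⟨memR_blockCoeff hM hb n, hbn, fun θ hθ h =>
    hω ((memI_iff_of_sub hM (sameBlock_of_mem hM hb hθ₀ hθ n)).mpr h)⟩
  refine ⟨n, hdef, fun θ hθ h => hind ?_, ?_⟩
  · exact (memI_iff_of_sub hM (inducedCentralChar_congr_sameBlock hM hb hθ₀ hθ (n : G))).mpr h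
  · have e1 : inducedCentralChar N ((BrauerPairs.oneIrr N : IrrCharacter N) : N → ℂ) (n : G) =
        ((Subgroup.centralizer ({(n : G)} : Set G)).index : ℂ) := by
      have hext : ∀ y : G, classInd (n : G) y ≠ 0 → y ∈ N := by
        intro y hy
        by_contra hyN
        refine hy (if_neg fun hc => ?_)
        obtain ⟨c, rfl⟩ := isConj_iff.mp hc
        exact hyN (hN.conj_mem _ n.2 c)
      have e : centralChar ((BrauerPairs.oneIrr G : IrrCharacter G) : G → ℂ) (n : G) =
          ((Subgroup.centralizer ({(n : G)} : Set G)).index : ℂ) := by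
        simp [centralChar, BrauerPairs.oneIrr]
      rw [← e, ← omega_classInd, inducedCentralChar_eq_omega hM, omega_eq_sum, omega_eq_sum]
      simp only [BrauerPairs.oneIrr, mul_one, div_one]
      rw [← Finset.sum_subset (Finset.subset_univ (Finset.univ.filter fun y : G => y ∈ N))
        (fun y _ hy => not_not.mp fun h0 => hy (Finset.mem_filter.mpr ⟨Finset.mem_univ _, hext y h0⟩))]
      exact (Finset.sum_subtype _ (by simp) _).symm
    have e2 : ∀ q ∈ S,
        centralChar ((BrauerPairs.oneIrr N : IrrCharacter N) : N → ℂ) (Quotient.out q) =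
          ((Subgroup.centralizer ({n} : Set N)).index : ℂ) := by
      intro q hq
      obtain ⟨x, hx⟩ := hSconj q hq
      rw [← hx, ← BrauerPairs.centralChar_comp_equiv (MulAut.conjNormal x : MulAut N)]
      simp [centralChar, BrauerPairs.oneIrr]
    have hidx : (Subgroup.centralizer ({(n : G)} : Set G)).index =
        S.card * (Subgroup.centralizer ({n} : Set N)).index := by
      have h := hsum (BrauerPairs.oneIrr N)
      rw [e1, Finset.sum_congr rfl e2, Finset.sum_const, nsmul_eq_mul] at h
      exact_mod_cast h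
    have h1 := congrArg (fun k : ℕ => k.factorization p)
      (Subgroup.card_mul_index (Subgroup.centralizer ({(n : G)} : Set G)))
    have h2 := congrArg (fun k : ℕ => k.factorization p)
      (Subgroup.card_mul_index (Subgroup.centralizer ({n} : Set N)))
    have h3 := congrArg (fun k : ℕ => k.factorization p) (Subgroup.card_mul_index N)
    have hS0 : S.card ≠ 0 := fun h0 => hkp (h0 ▸ dvd_zero p)
    simp only [hidx] at h1
    simp only [Nat.factorization_mul, Nat.card_pos.ne', ne_eq, not_false_eq_true,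
      Subgroup.index_ne_zero_of_finite, mul_eq_zero, or_self, hS0, Finsupp.coe_add,
      Pi.add_apply, Nat.factorization_eq_zero_of_not_dvd hkp, zero_add] at h1 h2 h3
    omega

theorem conv_orbitFun (hM : IsPModular p M) {b : Set (IrrCharacter N)} (hb : IsPBlock M b)
    {B : Set (IrrCharacter G)} (hB : IsPBlock M B)
    (hcov : ∃ χ ∈ B, ∃ θ ∈ b, classInner (fun n : N => (χ : G → ℂ) n) (θ : N → ℂ) ≠ 0) :
    conv (orbitFun N b) (blockCoeff B) = blockCoeff B := by
  refine eq_of_omega_eq (isClassFunction_conv (isClassFunction_orbitFun N b)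
    (isClassFunction_blockCoeff B)) (isClassFunction_blockCoeff B) fun χ => ?_
  rw [omega_conv (isClassFunction_orbitFun N b) (isClassFunction_blockCoeff B),
    blockCoeff_eq_ofOmega, omega_ofOmega]
  by_cases hχ : χ ∈ B
  · obtain ⟨χ₀, hχ₀, θ, hθ, hne⟩ := hcov
    obtain ⟨ψ, hψ⟩ := exists_constituent N χ
    rw [omega_orbitFun N b χ hψ, blockInd_of_mem (show ψ ∈ orbitSet N b from
      exists_conjIrr_mem_of_sameBlock N hM hb (sameBlock_of_mem hM hB hχ₀ hχ) hθ hne hψ), one_mul]
  · rw [blockInd_of_notMem hχ, mul_zero]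

/-- Some block covering an invariant block has the largest possible defect. -/
theorem exists_cover_large (hM : IsPModular p M) {b : Set (IrrCharacter N)} (hb : IsPBlock M b)
    (hA : orbitSet N b = b) :
    ∃ B : Set (IrrCharacter G), IsPBlock M B ∧
      (∃ χ ∈ B, ∃ θ ∈ b, classInner (fun n : N => (χ : G → ℂ) n) (θ : N → ℂ) ≠ 0) ∧
      blockDefect p B = blockDefect p b + N.index.factorization p := by
  classical
  have := Fintype.ofFinite (IrrCharacter G)
  obtain ⟨n, hn, hind, hv⟩ := exists_split_defectClass N hM hb hA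
  set e := orbitFun N b
  have hec : IsClassFunction G e := isClassFunction_orbitFun N b
  obtain ⟨B, hB, hBn, hcov⟩ : ∃ B, IsPBlock M B ∧ ¬ MemLocalIdeal M (blockCoeff B (n : G)) ∧
      ∃ χ ∈ B, ∃ θ ∈ b, classInner (fun m : N => (χ : G → ℂ) m) (θ : N → ℂ) ≠ 0 := by
    by_contra hcon
    push Not at hcon
    refine hn.2.1 ?_
    have hval : e (n : G) = blockCoeff b n := by
      simp only [e, orbitFun, Char.extendByZero_coe]
      rw [hA, blockCoeff_eq_ofOmega]
    rw [← hval, ← ofOmega_omega hec, ← mul_one (omegaFun e), ← sum_blockInd hM, Finset.mul_sum]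
    rw [show ofOmega (∑ B ∈ Finset.univ.image (fun χ : IrrCharacter G => blockOf M (χ : G → ℂ)),
        omegaFun e * blockInd B) (n : G) =
        ∑ B ∈ Finset.univ.image (fun χ : IrrCharacter G => blockOf M (χ : G → ℂ)),
          ofOmega (omegaFun e * blockInd B) (n : G) by
      simp only [ofOmega_eq_sum, Finset.sum_apply, Finset.mul_sum, Finset.sum_mul]
      exact Finset.sum_comm]
    refine memI_sum hM _ fun B hB => ?_
    obtain ⟨χ₀, -, rfl⟩ := Finset.mem_image.mp hB
    have hBb : IsPBlock M (blockOf M (χ₀ : G → ℂ)) := ⟨χ₀, rfl⟩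
    by_cases hcov : ∃ χ ∈ blockOf M (χ₀ : G → ℂ), ∃ θ ∈ b,
        classInner (fun m : N => (χ : G → ℂ) m) (θ : N → ℂ) ≠ 0
    · rw [show omegaFun e * blockInd (blockOf M (χ₀ : G → ℂ)) =
          omegaFun (conv e (blockCoeff (blockOf M (χ₀ : G → ℂ)))) from funext fun χ => by
        rw [omegaFun, omega_conv hec (isClassFunction_blockCoeff _), blockCoeff_eq_ofOmega,
          omega_ofOmega]
        rfl, conv_orbitFun N hM hb hBb hcov, ofOmega_omega (isClassFunction_blockCoeff _)]
      by_contra hne
      obtain ⟨χ, hχ, θ, hθ, hne'⟩ := hcov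
      exact hne' (hcon _ hBb hne χ hχ θ hθ)
    · rw [show omegaFun e * blockInd (blockOf M (χ₀ : G → ℂ)) = 0 from funext fun χ => ?_]
      · simp [ofOmega_eq_sum, memI_zero hM]
      by_cases hχ : χ ∈ blockOf M (χ₀ : G → ℂ)
      · obtain ⟨ψ, hψ⟩ := exists_constituent N χ
        simp only [Pi.mul_apply, Pi.zero_apply, omegaFun, e, omega_orbitFun N b χ hψ]
        rw [blockInd_of_notMem, zero_mul]
        rintro ⟨g, hg⟩
        exact hcov ⟨χ, hχ, _, hg, by rwa [constituent_conjIrr]⟩
      · simp [blockInd_of_notMem hχ]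
  have hdefB : IsDefectClass M B (n : G) := ⟨memR_blockCoeff hM hB _, hBn, fun χ hχ => by
    obtain ⟨θ, hθ⟩ := isPBlock_nonempty hM hb
    exact fun h => hind θ hθ ((memI_iff_of_sub hM
      ((cover_iff_congr N hM hB hb).mp hcov χ hχ θ hθ n)).mp h)⟩
  refine ⟨B, hB, hcov, ?_⟩
  obtain ⟨D, hD⟩ := sylowIn_exists p (Subgroup.centralizer ({(n : G)} : Set G))
  obtain ⟨E, hE⟩ := sylowIn_exists p (Subgroup.centralizer ({n} : Set N))
  have h1 := (card_defectGroup hM hB ⟨_, hdefB, hD⟩).symm.trans (sylowIn_card hD)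
  have h2 := (card_defectGroup hM hb ⟨_, hn, hE⟩).symm.trans (sylowIn_card hE)
  rw [Nat.pow_right_injective hp.out.two_le h1, Nat.pow_right_injective hp.out.two_le h2, hv]

/-- Intersections with `N` of defect groups of covering blocks lie in defect groups below. -/
theorem exists_inf_le_defectGroup (hM : IsPModular p M) {b : Set (IrrCharacter N)}
    (hb : IsPBlock M b) (hA : orbitSet N b = b) {B : Set (IrrCharacter G)} (hB : IsPBlock M B)
    (hcov : ∃ χ ∈ B, ∃ θ ∈ b, classInner (fun n : N => (χ : G → ℂ) n) (θ : N → ℂ) ≠ 0)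
    {P : Subgroup G} (hP : IsDefectGroup p M B P) :
    ∃ E : Subgroup N, IsDefectGroup p M b E ∧ (P ⊓ N).subgroupOf N ≤ E := by
  classical
  obtain ⟨g, hg, hgP⟩ := hP
  set R := P ⊓ N
  have hR : IsPGroup p R := (sylowIn_isPGroup hgP).to_le inf_le_left
  have hgC : g ∈ Subgroup.centralizer (R : Set G) :=
    le_centralizer_singleton.mp (inf_le_left.trans (sylowIn_le hgP))
  have hec := isClassFunction_orbitFun N b
  have h1 := memI_conv_sub_centralizer hM hR (z := orbitFun N b) (w := blockCoeff B)
    (fun u _ x => hec x u) (fun u _ x => isClassFunction_blockCoeff B x u)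
    (memR_orbitFun N hM hb) (memR_blockCoeff hM hB) hgC
  rw [conv_orbitFun N hM hb hB hcov] at h1
  obtain ⟨x, hxR, hx⟩ : ∃ x, x ∈ Subgroup.centralizer (R : Set G) ∧
      ¬ MemLocalIdeal M (orbitFun N b x) := by
    by_contra hcon
    push Not at hcon
    refine hg.2.1 ((memI_iff_of_sub hM h1).mpr (memI_sum hM _ fun x hx => ?_))
    exact memI_mul_right hM (hcon x (Finset.mem_filter.mp hx).2) (memR_blockCoeff hM hB _)
  obtain ⟨m, rfl⟩ : ∃ m : N, (m : G) = x := by
    refine ⟨⟨x, ?_⟩, rfl⟩
    by_contra hxN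
    exact hx (by rw [orbitFun, Char.extendByZero_not_mem _ _ hxN]; exact memI_zero hM)
  rw [orbitFun, Char.extendByZero_coe, hA, ← blockCoeff_eq_ofOmega] at hx
  obtain ⟨θ, hθ⟩ := isPBlock_nonempty hM hb
  obtain ⟨E, hE⟩ := exists_isDefectGroup hM hb
  obtain ⟨k, hk, hkE⟩ := hE
  have hRm : R.subgroupOf N ≤ Subgroup.centralizer ({m} : Set N) := fun r hr =>
    mem_centralizer_singleton.mpr (Subtype.ext (Subgroup.mem_centralizer_iff.mp hxR r
      (Subgroup.mem_subgroupOf.mp hr)))
  obtain ⟨y, hy⟩ := minmax hM hb hθ (hk.2.2 θ hθ) hx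
    (hR.of_equiv (Subgroup.subgroupOfEquivOfLe inf_le_right).symm) hRm hkE
  exact ⟨_, isDefectGroup_conjSub hM ⟨k, hk, hkE⟩ y, hy⟩

end Cfsg.Agent.BlocksNormal
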