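import Cfsg.Agent.Lib.BlocksNormal.Deflate
import Cfsg.Agent.Lib.BrauerPairs.Residue

/-!
# Counting blocks by regular classes

* `memI_centralChar_of_small`: classes of smaller defect than a block are invisible to it.
* `card_blocks_le`: blocks of defect at least `d` are at most regular classes of defect at least `d`.
* `eq_of_regular_of_mem`: a coset of a `p`-subgroup has one regular element centralising it.
* `card_classes_le_blocks`: with a normal Sylow subgroup `P`, there are at least as many blocks as
  regular classes in `C(P)`.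
-/

set_option autoImplicit false

open scoped ComplexConjugate

namespace Cfsg.Agent.BlocksNormal

open Cfsg Cfsg.Agent.Blocks Cfsg.Agent.BrauerPairs

variable {G : Type*} [Group G] [Finite G] {p : ℕ} {M : Ideal AlgInt}

theorem memI_centralChar_of_small [Fact p.Prime] (hM : IsPModular p M)
    {B : Set (IrrCharacter G)} (hB : IsPBlock M B) {χ : IrrCharacter G} (hχ : χ ∈ B) {g : G}
    (hg : (Nat.card (Subgroup.centralizer ({g} : Set G))).factorization p < blockDefect p B) :
    MemLocalIdeal M (centralChar (χ : G → ℂ) g) := by
  by_contra hne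
  obtain ⟨D, hD⟩ := exists_isDefectGroup hM hB
  have hDc := card_defectGroup hM hB hD
  obtain ⟨h, hh, hhD⟩ := hD
  obtain ⟨S, hS⟩ := sylowIn_exists p (Subgroup.centralizer ({g} : Set G))
  obtain ⟨x, hx⟩ := minmax hM hB hχ hne hh.2.1 (sylowIn_isPGroup hhD) (sylowIn_le hhD) hS
  have h1 := Subgroup.card_le_of_le hx
  rw [card_conjSub, hDc, sylowIn_card hS] at h1
  exact absurd ((Nat.pow_le_pow_iff_right (Fact.out : p.Prime).one_lt).mp h1) (not_le.mpr hg)

theorem card_blocks_le [Fact p.Prime] (hM : IsPModular p M) (d : ℕ) :
    Nat.card {B : Set (IrrCharacter G) // IsPBlock M B ∧ d ≤ blockDefect p B} ≤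
      Nat.card {C : ConjClasses G // ∃ g : G, ConjClasses.mk g = C ∧ IsPRegular p g ∧
        d ≤ (Nat.card (Subgroup.centralizer ({g} : Set G))).factorization p} := by
  classical
  have := Fintype.ofFinite G
  have := Fintype.ofFinite (ConjClasses G)
  have := Fintype.ofFinite (IrrCharacter G)
  let P := fun C : ConjClasses G => ∃ g : G, ConjClasses.mk g = C ∧ IsPRegular p g ∧
    d ≤ (Nat.card (Subgroup.centralizer ({g} : Set G))).factorization p
  let T := {B : Set (IrrCharacter G) // IsPBlock M B ∧ d ≤ blockDefect p B}
  let S := {C : ConjClasses G // P C}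
  have := Fintype.ofFinite T
  have := Fintype.ofFinite S
  haveI := res_nontrivial hM
  choose r hr using fun B : T => isPBlock_nonempty hM B.2.1
  let v : T → S → Res M := fun B C => res M (blockCoeff (B : Set _) (Quotient.out (C : ConjClasses G)))
  have key : ∀ B B' : T, ∑ C : S, v B C *
      res M (centralChar (r B' : G → ℂ) (Quotient.out (C : ConjClasses G))) =
        if B = B' then 1 else 0 := by
    intro B B'
    let f := fun C : ConjClasses G => blockCoeff (B : Set _) (Quotient.out C) *
      centralChar (r B' : G → ℂ) (Quotient.out C)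
    have hfR : ∀ C, MemLocalRing M (f C) := fun C =>
      memR_mul hM (memR_blockCoeff hM B.2.1 _) (memR_centralChar hM _ _)
    have hsum : ∑ C : S, f C = ∑ C ∈ Finset.univ.filter P, f C :=
      (Finset.sum_subtype (Finset.univ.filter P) (fun C => by simp) f).symm
    have hout : MemLocalIdeal M ((∑ C, f C) - ∑ C : S, f C) := by
      rw [hsum, ← Finset.sum_filter_add_sum_filter_not Finset.univ P, add_sub_cancel_left]
      refine memI_sum hM _ fun C hC => ?_
      set q := Quotient.out C
      by_cases hq : p ∣ orderOf q
      · simp only [f]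
        rw [blockCoeff_eq_ofOmega,
          ofOmega_singular_eq_zero hM (blockInd_mem_intRing hM B.2.1) hq, zero_mul]
        exact memI_zero hM
      · refine memI_mul_left hM (memR_blockCoeff hM B.2.1 _)
          (memI_centralChar_of_small hM B'.2.1 (hr B') (lt_of_lt_of_le (not_le.mp fun hd =>
            (Finset.mem_filter.mp hC).2 ⟨q, Quotient.out_eq C, hq, hd⟩) B'.2.2))
    have htot : ∑ C, f C = if B = B' then 1 else 0 := by
      rw [← omega_eq_sum_classes (isClassFunction_blockCoeff _), blockCoeff_eq_ofOmega, omega_ofOmega]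
      split_ifs with h
      · subst h
        exact blockInd_of_mem (hr B)
      · exact blockInd_of_notMem fun h' =>
          h (Subtype.ext (isPBlock_eq_of_mem hM B.2.1 B'.2.1 h' (hr B')))
    have h2 := (res_eq_iff hM (memR_sum hM _ fun C _ => hfR C)
      (memR_sum hM _ fun (C : S) _ => hfR C)).mpr hout
    rw [htot, res_sum hM _ fun (C : S) _ => hfR C, Finset.sum_congr rfl fun (C : S) _ =>
      res_mul hM (memR_blockCoeff hM B.2.1 _) (memR_centralChar hM (r B') _)] at h2
    rw [← h2]
    split_ifs
    · exact res_one hM
    · exact res_zero hM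
  have hind : LinearIndependent (Res M) v := by
    rw [Fintype.linearIndependent_iff]
    intro a ha B'
    have h1 := congrArg (fun F : S → Res M =>
      ∑ C : S, F C * res M (centralChar (r B' : G → ℂ) (Quotient.out (C : ConjClasses G)))) ha
    simp only [Finset.sum_apply, Pi.smul_apply, smul_eq_mul, Pi.zero_apply, zero_mul,
      Finset.sum_const_zero, Finset.sum_mul, mul_assoc] at h1
    rw [Finset.sum_comm] at h1
    rw [Finset.sum_congr rfl fun B _ => (Finset.mul_sum _ _ _).symm] at h1
    simp only [key, mul_ite, mul_one, mul_zero] at h1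
    rw [Finset.sum_eq_single B' (fun B _ hne => if_neg hne) (fun h => absurd (Finset.mem_univ _) h),
      if_pos rfl] at h1
    exact h1
  have h := hind.fintype_card_le_finrank
  rw [Module.finrank_fintype_fun_eq_card] at h
  change Nat.card T ≤ Nat.card S
  rwa [Nat.card_eq_fintype_card, Nat.card_eq_fintype_card]

omit [Finite G] in
/-- A coset of a `p`-subgroup contains one `p`-regular element centralising it. -/
theorem eq_of_regular_of_mem (hp : p.Prime) {P : Subgroup G} (hP : IsPGroup p P) {x x' : G}
    (hx : ¬ p ∣ orderOf x) (hx' : ¬ p ∣ orderOf x') (hxC : x ∈ Subgroup.centralizer (P : Set G))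
    (hu : x⁻¹ * x' ∈ P) : x = x' := by
  haveI : Fact p.Prime := ⟨hp⟩
  obtain ⟨j, hj⟩ := IsPGroup.iff_orderOf.mp hP ⟨_, hu⟩
  rw [← Subgroup.orderOf_coe] at hj
  have hcomm : Commute x (x⁻¹ * x') := (Subgroup.mem_centralizer_iff.mp hxC _ hu).symm
  have h1 : orderOf (x⁻¹ * x') ∣ orderOf x * orderOf x' := by
    have h2 : Commute x⁻¹ x' := by simpa using ((Commute.refl x).mul_right hcomm).inv_left
    have h3 := h2.orderOf_mul_dvd_mul_orderOf
    rwa [orderOf_inv] at h3
  rw [hj] at h1
  have hco : (p ^ j).Coprime (orderOf x * orderOf x') :=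
    ((hp.coprime_iff_not_dvd.mpr hx).mul_right (hp.coprime_iff_not_dvd.mpr hx')).pow_left j
  have h4 := Nat.Coprime.eq_one_of_dvd hco h1
  rw [← hj, orderOf_eq_one_iff, inv_mul_eq_one] at h4
  exact h4

open scoped Classical in
theorem card_classes_le_blocks [Fact p.Prime] (hM : IsPModular p M) (P : Subgroup G) [P.Normal]
    (hP : IsPGroup p P) (hidx : ¬ p ∣ P.index) :
    Nat.card {C : ConjClasses G // ∀ n : G, ConjClasses.mk n = C →
        ¬ p ∣ orderOf n ∧ n ∈ Subgroup.centralizer (P : Set G)} ≤
      Nat.card {B : Set (IrrCharacter G) // IsPBlock M B} := by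
  have := Fintype.ofFinite G
  have := Fintype.ofFinite (G ⧸ P)
  have := Fintype.ofFinite (ConjClasses G)
  have := Fintype.ofFinite (IrrCharacter G)
  have := Fintype.ofFinite (IrrCharacter (G ⧸ P))
  let Pr := fun C : ConjClasses G => ∀ n : G, ConjClasses.mk n = C →
    ¬ p ∣ orderOf n ∧ n ∈ Subgroup.centralizer (P : Set G)
  let S := {C : ConjClasses G // Pr C}
  let T := {B : Set (IrrCharacter G) // IsPBlock M B}
  have := Fintype.ofFinite T
  have := Fintype.ofFinite S
  haveI := res_nontrivial hM
  choose r hr using fun B : T => isPBlock_nonempty hM B.2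
  let w : S → T → Res M := fun C B =>
    res M (centralChar (r B : G → ℂ) (Quotient.out (C : ConjClasses G)))
  have hind : LinearIndependent (Res M) w := by
    rw [Fintype.linearIndependent_iff]
    intro a ha C₀
    let f : G → ℂ := fun x => if h : Pr (ConjClasses.mk x) then unres (a ⟨_, h⟩) else 0
    have hf : IsClassFunction G f := fun x t => by
      have hm : ConjClasses.mk (t * x * t⁻¹) = ConjClasses.mk x :=
        ConjClasses.mk_eq_mk_iff_isConj.mpr (isConj_iff.mpr ⟨t⁻¹, by group⟩)
      simp only [f, hm]
    have hfR : ∀ x, MemLocalRing M (f x) := fun x => by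
      simp only [f]
      split_ifs
      · exact memR_unres hM _
      · exact memR_zero hM
    have hω : ∀ χ : IrrCharacter G, MemLocalIdeal M (omega (χ : G → ℂ) f) := by
      intro χ
      let B : T := ⟨blockOf M (χ : G → ℂ), χ, rfl⟩
      refine (memI_iff_of_sub hM (intRing_congr hM (omega_mem_intRing hM hf hfR)
        (show SameBlock M (χ : G → ℂ) (r B : G → ℂ) from hr B))).mpr ?_
      show MemLocalIdeal M (omega (r B : G → ℂ) f)
      rw [← res_eq_zero_iff hM (memR_omega hM hf hfR (r B)), omega_eq_sum_classes hf,
        res_sum hM _ (f := fun C : ConjClasses G =>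
          f (Quotient.out C) * centralChar (r B : G → ℂ) (Quotient.out C))
          fun C _ => memR_mul hM (hfR _) (memR_centralChar hM _ _),
        ← Finset.sum_filter_add_sum_filter_not Finset.univ Pr,
        Finset.sum_eq_zero (s := Finset.univ.filter fun C => ¬ Pr C) fun C hC => ?_, add_zero,
        Finset.sum_subtype (p := Pr) (F := inferInstanceAs (Fintype S)) (Finset.univ.filter Pr)
          (fun C => by simp)]
      · refine Eq.trans ?_ (congrFun ha B)
        rw [Finset.sum_apply]
        refine Finset.sum_congr rfl fun C _ => ?_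
        simp only [Pi.smul_apply, smul_eq_mul, w, f]
        have hm : ConjClasses.mk (Quotient.out (C : ConjClasses G)) = (C : ConjClasses G) :=
          Quotient.out_eq _
        rw [dif_pos (hm.symm ▸ C.2), res_mul hM (memR_unres hM _) (memR_centralChar hM _ _),
          res_unres hM]
        congr 2
        exact Subtype.ext hm
      · simp only [f]
        rw [dif_neg, zero_mul, res_zero hM]
        intro h
        exact (Finset.mem_filter.mp hC).2 (Quotient.out_eq C ▸ h)
    set F := pushFun (QuotientGroup.mk' P) f with hF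
    have hFc := isClassFunction_pushFun (QuotientGroup.mk'_surjective P) hf
    have hFω : ∀ φ : IrrCharacter (G ⧸ P), MemLocalIdeal M (omegaFun F φ) := by
      intro φ
      have h := hω ⟨_, Char.IsIrrCharacter.comp_surjective φ.2 (QuotientGroup.mk' P)
        (QuotientGroup.mk'_surjective P)⟩
      change MemLocalIdeal M (omega (fun g => (φ : G ⧸ P → ℂ) (QuotientGroup.mk' P g)) f) at h
      rwa [omega_comp] at h
    have hFI : ∀ y, MemLocalIdeal M (F y) := by
      intro y
      rw [← ofOmega_omega (z := F) hFc, ofOmega_eq_sum]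
      refine memI_mul_left hM (memR_natCast_inv hM hidx) (memI_sum hM _ fun φ _ => ?_)
      rw [mul_assoc]
      refine memI_mul_right hM (hFω φ) (memR_of_isIntegral hM ((isIntegral_irr φ 1).mul ?_))
      rw [← Char.IsCharacter.apply_inv (Char.IsIrrCharacter.isCharacter φ.2)]
      exact isIntegral_irr φ _
    set x := Quotient.out (C₀ : ConjClasses G) with hx
    have hmx : ConjClasses.mk x = (C₀ : ConjClasses G) := Quotient.out_eq _
    have hval : F (x : G ⧸ P) = f x := by
      rw [hF, pushFun, Finset.sum_eq_single x]
      · simp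
      · intro x' _ hne
        split_ifs with he
        · simp only [f]
          rw [dif_neg]
          intro h
          obtain ⟨h1, h2⟩ := C₀.2 x hmx
          exact hne (eq_of_regular_of_mem Fact.out hP h1 (h x' rfl).1 h2
            (QuotientGroup.eq.mp he.symm)).symm
        · rfl
      · simp
    have h := hFI (x : G ⧸ P)
    rw [hval] at h
    simp only [f] at h
    have hPr : Pr (ConjClasses.mk x) := hmx ▸ C₀.2
    rw [dif_pos hPr, ← res_eq_zero_iff hM (memR_unres hM _), res_unres hM] at h
    rwa [show (⟨_, hPr⟩ : S) = C₀ from Subtype.ext hmx] at h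
  have h := hind.fintype_card_le_finrank
  rw [Module.finrank_fintype_fun_eq_card] at h
  change Nat.card S ≤ Nat.card T
  rwa [Nat.card_eq_fintype_card, Nat.card_eq_fintype_card]

end Cfsg.Agent.BlocksNormal
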