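import Cfsg.Agent.Lib.BlocksNormal.Basic

/-!
# Deflation to the quotient by a defect group; elements with central `p`-part

* `mem_zpowers_mul`: commuting elements of coprime order are powers of their product.
* `pPart_mem_of_pow_mem`: if `x ^ m` lies in a `p`-subgroup, `p ∤ m`, the `p`-part of `x` does.
* `charDegree_congr`, `blockOf_deflation_singleton`: deflations to `G ⧸ Q`, for `Q` a normal
  defect group, have defect zero.
* `exists_centralChar_not_memI_of_induced`: a class seen by the induced central character meets `H`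
  in a class seen by the central character.
* `exists_normalizer_correspondent`: a class seen by a block with defect group `P` meets `C(P)` in
  a class seen by the first main correspondent, with `p`-regular image in `N(P) ⧸ P`.
-/

set_option autoImplicit false

open scoped ComplexConjugate

namespace Cfsg.Agent.BlocksNormal

open Cfsg Cfsg.Agent.Blocks

variable {G : Type*} [Group G]

theorem mem_zpowers_mul {x g : G} (hc : Commute x g) (h : (orderOf x).Coprime (orderOf g)) :
    x ∈ Subgroup.zpowers (x * g) := by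
  have h1 : (x * g) ^ orderOf g = x ^ orderOf g := by
    rw [hc.mul_pow, pow_orderOf_eq_one, mul_one]
  exact Subgroup.zpowers_le.mpr (h1 ▸ pow_mem (Subgroup.mem_zpowers _) _)
    (mem_zpowers_pow_iff.mpr h.symm)

/-- The `p`-part of `x` lies in a `p`-subgroup containing a power of `x` prime to `p`. -/
theorem pPart_mem_of_pow_mem {p : ℕ} (hp : p.Prime) {P : Subgroup G} (hP : IsPGroup p P) {x z : G}
    (hz : IsPPart p x z) {m : ℕ} (hm : ¬ p ∣ m) (hxm : x ^ m ∈ P) :
    z ∈ P ∧ z ∈ Subgroup.zpowers (x ^ m) := by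
  haveI : Fact p.Prime := ⟨hp⟩
  obtain ⟨y, rfl, hc, ⟨k, hk⟩, hy⟩ := hz
  obtain ⟨j, hj⟩ := IsPGroup.iff_orderOf.mp hP ⟨_, hxm⟩
  have h1 : ((z * y) ^ m) ^ p ^ (j + k) = 1 := by
    refine orderOf_dvd_iff_pow_eq_one.mp ?_
    rw [← Subgroup.orderOf_coe] at hj
    exact hj.symm ▸ pow_dvd_pow p (Nat.le_add_right j k)
  rw [← pow_mul, hc.mul_pow, orderOf_dvd_iff_pow_eq_one.mp
    (hk ▸ dvd_mul_of_dvd_right (pow_dvd_pow p (Nat.le_add_left k j)) m), one_mul] at h1
  have h2 : orderOf y ∣ m :=
    ((hp.coprime_iff_not_dvd.mpr hy).pow_left _).symm.dvd_of_dvd_mul_right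
      (orderOf_dvd_of_pow_eq_one h1)
  have h3 : (z * y) ^ m = z ^ m := by
    rw [hc.mul_pow, orderOf_dvd_iff_pow_eq_one.mp h2, mul_one]
  have h4 : z ∈ Subgroup.zpowers ((z * y) ^ m) := by
    rw [h3]
    refine mem_zpowers_pow_iff.mpr ?_
    rw [hk]
    exact ((hp.coprime_iff_not_dvd.mpr hm).pow_left k).symm
  exact ⟨Subgroup.zpowers_le.mpr hxm h4, h4⟩

variable [Finite G] {p : ℕ} {M : Ideal AlgInt}

omit [Finite G] in
theorem charDegree_congr {K : Type*} [Group K] {χ : G → ℂ} {ψ : K → ℂ} (h : χ 1 = ψ 1) :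
    charDegree χ = charDegree ψ := by rw [charDegree, charDegree, h]

/-- Deflation to the quotient by a normal defect group gives defect zero. -/
theorem blockOf_deflation_singleton [Fact p.Prime] (hM : IsPModular p M)
    {B : Set (IrrCharacter G)} {Q : Subgroup G} [Q.Normal]
    (hQ : IsDefectGroup p M B Q) {ψ : IrrCharacter G} (hψ : ψ ∈ B)
    {φ : IrrCharacter (G ⧸ Q)} (hφ : ∀ g : G, (ψ : G → ℂ) g = (φ : G ⧸ Q → ℂ) g) :
    blockOf M (φ : G ⧸ Q → ℂ) = {φ} := by
  have hp : p.Prime := Fact.out
  refine (singleton_iff_not_dvd hM φ).mp fun hdvd => ?_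
  set n := Nat.card (G ⧸ Q) with hn
  have hcard : p ^ n.factorization p * Nat.card Q ∣ Nat.card G :=
    ⟨n / p ^ n.factorization p, by
      rw [Subgroup.card_eq_card_quotient_mul_card_subgroup Q]
      calc n * Nat.card Q
          = p ^ n.factorization p * (n / p ^ n.factorization p) * Nat.card Q := by
            rw [Nat.ordProj_mul_ordCompl_eq_self]
        _ = _ := by ring⟩
  have h1 := pow_dvd_charDegree hM hψ hQ hcard
  rw [charDegree_congr (χ := (ψ : G → ℂ)) (ψ := (φ : G ⧸ Q → ℂ)) (hφ 1)] at h1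
  obtain ⟨r, hr⟩ := h1
  obtain ⟨s, hs⟩ := hdvd
  have hdd := Nat.mul_div_cancel' (charDegree_dvd_card φ)
  rw [← hn, hs, hr] at hdd
  have : p ^ (n.factorization p + 1) ∣ n := ⟨r * s, by rw [pow_succ]; linear_combination -hdd⟩
  have h := (hp.pow_dvd_iff_le_factorization (n := n) (hn ▸ Nat.card_pos.ne')).mp this
  omega

/-- A class seen by the induced central character meets `H` in a class seen by `ξ`. -/
theorem exists_centralChar_not_memI_of_induced (hM : IsPModular p M) {H : Subgroup G}
    (ξ : IrrCharacter H) {q : G}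
    (hq : ¬ MemLocalIdeal M (inducedCentralChar H (ξ : H → ℂ) q)) :
    ∃ r : H, IsConj q (r : G) ∧ ¬ MemLocalIdeal M (centralChar (ξ : H → ℂ) r) := by
  classical
  have := Fintype.ofFinite (ConjClasses H)
  by_contra hcon
  push Not at hcon
  refine hq ?_
  rw [inducedCentralChar_eq_omega hM, omega_eq_sum_classes (z := fun h : H => classInd q (h : G))
    (isClassFunction_restrict (isClassFunction_classInd q) H)]
  refine memI_sum hM _ fun c _ => ?_
  by_cases hc : IsConj q ((Quotient.out c : H) : G)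
  · exact memI_mul_left hM (classInd_mem (locRing hM) q _) (hcon _ hc)
  · simp only [classInd, if_neg hc, zero_mul]
    exact memI_zero hM

/-- A class seen by a block with defect group `P` has a representative centralising `P` with
`p`-regular image in `N(P) ⧸ P`. -/
theorem exists_normalizer_correspondent [Fact p.Prime] (hM : IsPModular p M)
    {B : Set (IrrCharacter G)} (hB : IsPBlock M B) {P : Subgroup G}
    (hP : IsDefectGroup p M B P) {g : G} {χ : IrrCharacter G} (hχ : χ ∈ B)
    (hg : ¬ MemLocalIdeal M (centralChar (χ : G → ℂ) g)) :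
    ∃ x : G, IsConj g x ∧ x ∈ Subgroup.centralizer (P : Set G) ∧
      ∃ m : ℕ, ¬ p ∣ m ∧ x ^ m ∈ P := by
  classical
  have hPp := isPGroup_defectGroup hM hP
  obtain ⟨b, hb, hbD, hind⟩ := first_main_exists hM hPp hB hP
  set N := Subgroup.normalizer (P : Set G) with hN
  set Q := P.subgroupOf N with hQdef
  have hPN : P ≤ N := Subgroup.le_normalizer
  haveI : Q.Normal := Subgroup.normal_in_normalizer
  have hQp : IsPGroup p Q := hPp.of_equiv (Subgroup.subgroupOfEquivOfLe hPN).symm
  obtain ⟨ψ, hψ, hψQ⟩ := exists_mem_trivOn hM hb Q hQp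
  obtain ⟨φ, hφ⟩ := CentralChar.exists_deflation Q ψ hψQ
  have hsing := blockOf_deflation_singleton hM hbD hψ hφ
  have h1 : ¬ MemLocalIdeal M (brauerCentralChar P N (ψ : N → ℂ) g) := fun hI =>
    hg ((memI_iff_of_sub hM (hind.2.2 ψ hψ χ hχ g)).mp ((memI_iff_of_sub hM
      (inducedCentralChar_congr_brauer hM hPp hPN le_rfl ψ g)).mpr hI))
  have := Fintype.ofFinite (ConjClasses N)
  have hcl : IsClassFunction N (brauerTrunc P N (classInd g)) :=
    isClassFunction_brauerTrunc le_rfl (isClassFunction_classInd g)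
  rw [brauerCentralChar_eq_phi hM, brauerPhi, ofOmega_omega (isClassFunction_classInd g),
    omega_eq_sum_classes hcl] at h1
  obtain ⟨w, hw1, hw2, hw3⟩ : ∃ w : N, IsConj g (w : G) ∧
      (w : G) ∈ Subgroup.centralizer (P : Set G) ∧
      ¬ MemLocalIdeal M (centralChar (ψ : N → ℂ) w) := by
    by_contra hcon
    push Not at hcon
    refine h1 (memI_sum hM _ fun c _ => ?_)
    set w : N := Quotient.out c
    simp only [brauerTrunc, classInd]
    by_cases hC : (w : G) ∈ Subgroup.centralizer (P : Set G)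
    · rw [if_pos hC]
      by_cases hcj : IsConj g (w : G)
      · rw [if_pos hcj, one_mul]
        exact hcon w hcj hC
      · rw [if_neg hcj, zero_mul]
        exact memI_zero hM
    · rw [if_neg hC, zero_mul]
      exact memI_zero hM
  refine ⟨w, hw1, hw2, orderOf (w : N ⧸ Q), fun hd => hw3 ?_, ?_⟩
  · have h0 := apply_eq_zero_of_singleton hM hsing hd
    rw [centralChar, hφ w, h0, mul_zero, zero_div]
    exact memI_zero hM
  · have h2 : ((w ^ orderOf (w : N ⧸ Q) : N) : N ⧸ Q) = 1 := by
      rw [QuotientGroup.mk_pow, pow_orderOf_eq_one]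
    have h3 := (QuotientGroup.eq_one_iff _).mp h2
    exact Subgroup.mem_subgroupOf.mp h3

end Cfsg.Agent.BlocksNormal
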