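import Cfsg.Agent.Lib.BlocksNormal.Deflate
import Cfsg.Agent.Lib.RealBlock.Restrict
import Cfsg.Agent.S0963

/-!
# Blocks covering blocks of a normal subgroup

* `conjIrr`, `orbitSet`, `blockInd_orbitSet_mem`, `orbitFun`: the idempotent of the orbit of a
  block of `N`, extended by zero.
* `exists_conjIrr_mem_of_sameBlock`: constituents over characters of one block lie in conjugate
  blocks.
* `cover_iff_congr`: covering through central characters.
* `cover_unique`: over a normal subgroup of `p`-power index a block is covered by one block.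
* `singleton_of_pPrime`, `trivOn_of_sameBlock`: normal subgroups of order prime to `p`.
-/

set_option autoImplicit false

open scoped ComplexConjugate

namespace Cfsg.Agent.BlocksNormal

open Cfsg Cfsg.Agent.Blocks

variable {G : Type*} [Group G] [Fintype G] (N : Subgroup G) [N.Normal] [Fintype N] {p : ℕ}
  {M : Ideal AlgInt}

/-- Conjugate of an irreducible character of a normal subgroup. -/
def conjIrr (g : G) (θ : IrrCharacter N) : IrrCharacter N :=
  ⟨CliffordChar.conjFun N g (θ : N → ℂ), CliffordChar.isIrr_conjFun N g θ.2⟩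

omit [Fintype G] [Fintype N] in
theorem conjIrr_mul (g h : G) (θ : IrrCharacter N) :
    conjIrr N (g * h) θ = conjIrr N g (conjIrr N h θ) :=
  Subtype.ext (CliffordChar.conjFun_mul N g h _)

omit [Fintype G] [Fintype N] in
theorem conjIrr_one (θ : IrrCharacter N) : conjIrr N 1 θ = θ :=
  Subtype.ext (CliffordChar.conjFun_one N _)

omit [Fintype G] [Fintype N] in
theorem sameBlock_conjIrr (g : G) {θ φ : IrrCharacter N}
    (h : SameBlock M (θ : N → ℂ) (φ : N → ℂ)) :
    SameBlock M (conjIrr N g θ : N → ℂ) (conjIrr N g φ : N → ℂ) :=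
  (BrauerPairs.sameBlock_comp_equiv (MulAut.conjNormal g⁻¹ : MulAut N) _ _).mpr h

/-- The union of the conjugates of a set of characters of `N`. -/
def orbitSet (b : Set (IrrCharacter N)) : Set (IrrCharacter N) := {θ | ∃ g, conjIrr N g θ ∈ b}

theorem isPBlock_conjIrr_preimage (hM : IsPModular p M) {b : Set (IrrCharacter N)}
    (hb : IsPBlock M b) (g : G) : IsPBlock M {θ : IrrCharacter N | conjIrr N g θ ∈ b} := by
  obtain ⟨θ₀, hθ₀⟩ := isPBlock_nonempty hM hb
  refine ⟨conjIrr N g⁻¹ θ₀, Set.ext fun θ => ⟨fun h => ?_, fun h => ?_⟩⟩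
  · have h1 := sameBlock_conjIrr N g⁻¹ (sameBlock_of_mem hM hb hθ₀ h)
    rwa [← conjIrr_mul N g⁻¹ g θ, inv_mul_cancel, conjIrr_one] at h1
  · have h1 := sameBlock_conjIrr N g h
    rw [← conjIrr_mul N g g⁻¹ θ₀, mul_inv_cancel, conjIrr_one] at h1
    show conjIrr N g θ ∈ b
    rw [isPBlock_eq_blockOf hM hb hθ₀]
    exact h1

theorem blockInd_orbitSet_mem (hM : IsPModular p M) {b : Set (IrrCharacter N)}
    (hb : IsPBlock M b) : blockInd (orbitSet N b) ∈ intRing hM := by
  classical
  have h : blockInd (orbitSet N b) =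
      1 - ∏ g : G, (1 - blockInd {θ : IrrCharacter N | conjIrr N g θ ∈ b}) := by
    ext θ
    simp only [Pi.sub_apply, Pi.one_apply, Finset.prod_apply]
    by_cases hθ : θ ∈ orbitSet N b
    · obtain ⟨g, hg⟩ := hθ
      rw [blockInd_of_mem (show θ ∈ orbitSet N b from ⟨g, hg⟩), Finset.prod_eq_zero (Finset.mem_univ g), sub_zero]
      rw [blockInd_of_mem (show θ ∈ {θ : IrrCharacter N | conjIrr N g θ ∈ b} from hg), sub_self]
    · rw [blockInd_of_notMem hθ, Finset.prod_eq_one, sub_self]
      intro g _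
      rw [blockInd_of_notMem (show θ ∉ {θ : IrrCharacter N | conjIrr N g θ ∈ b} from fun hg => hθ ⟨g, hg⟩), sub_zero]
  rw [h]
  exact (intRing hM).sub_mem (intRing hM).one_mem ((intRing hM).prod_mem fun g _ =>
    (intRing hM).sub_mem (intRing hM).one_mem
      (blockInd_mem_intRing hM (isPBlock_conjIrr_preimage N hM hb g)))

/-- The idempotent of the orbit of `b`, extended by zero. -/
noncomputable def orbitFun (b : Set (IrrCharacter N)) : G → ℂ :=
  extendByZero N (ofOmega (blockInd (orbitSet N b)))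

theorem conjFun_ofOmega_orbit (b : Set (IrrCharacter N)) (x : G) :
    CliffordChar.conjFun N x (ofOmega (blockInd (orbitSet N b))) =
      ofOmega (blockInd (orbitSet N b)) := by
  classical
  refine eq_of_omega_eq ?_ (isClassFunction_ofOmega _) fun θ => ?_
  · intro n m
    simp only [CliffordChar.conjFun, map_mul, map_inv]
    exact isClassFunction_ofOmega _ _ _
  · rw [omega_ofOmega]
    have h1 : omega (θ : N → ℂ) (CliffordChar.conjFun N x (ofOmega (blockInd (orbitSet N b)))) =
        omega (conjIrr N x⁻¹ θ : N → ℂ) (ofOmega (blockInd (orbitSet N b))) := by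
      rw [omega_eq_sum, omega_eq_sum]
      congr 1
      · refine Fintype.sum_equiv (MulAut.conjNormal x⁻¹ : MulAut N).toEquiv _ _ fun n => ?_
        show _ = _ * (θ : N → ℂ) (MulAut.conjNormal x⁻¹⁻¹ (MulAut.conjNormal x⁻¹ n))
        rw [← MulAut.mul_apply, ← map_mul, inv_mul_cancel, map_one, MulAut.one_apply]
        rfl
      · simp [conjIrr, CliffordChar.conjFun]
    rw [h1, omega_ofOmega]
    have h2 : θ ∈ orbitSet N b ↔ conjIrr N x⁻¹ θ ∈ orbitSet N b :=
      ⟨fun ⟨g, hg⟩ => ⟨g * x, by rwa [← conjIrr_mul, mul_inv_cancel_right]⟩,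
        fun ⟨g, hg⟩ => ⟨g * x⁻¹, by rwa [conjIrr_mul]⟩⟩
    by_cases hθ : θ ∈ orbitSet N b
    · rw [blockInd_of_mem hθ, blockInd_of_mem (h2.mp hθ)]
    · rw [blockInd_of_notMem hθ, blockInd_of_notMem fun h => hθ (h2.mpr h)]

theorem isClassFunction_orbitFun (b : Set (IrrCharacter N)) : IsClassFunction G (orbitFun N b) :=
  RealBlock.isClassFunction_extendByZero N _ (conjFun_ofOmega_orbit N b)

theorem memR_orbitFun (hM : IsPModular p M) {b : Set (IrrCharacter N)} (hb : IsPBlock M b)
    (g : G) : MemLocalRing M (orbitFun N b g) := by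
  by_cases hg : g ∈ N
  · rw [orbitFun, Char.extendByZero_mem _ _ hg]
    exact blockInd_orbitSet_mem N hM hb ⟨g, hg⟩
  · rw [orbitFun, Char.extendByZero_not_mem _ _ hg]
    exact memR_zero hM

theorem omega_orbitFun (b : Set (IrrCharacter N)) (χ : IrrCharacter G) {θ : IrrCharacter N}
    (hθ : classInner (fun n : N => (χ : G → ℂ) n) (θ : N → ℂ) ≠ 0) :
    omega (χ : G → ℂ) (orbitFun N b) = blockInd (orbitSet N b) θ := by
  rw [orbitFun, RealBlock.omega_extendByZero N _ (conjFun_ofOmega_orbit N b) χ θ hθ, omega_ofOmega]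

/-- Constituents of characters in one block lie in conjugate blocks. -/
theorem exists_conjIrr_mem_of_sameBlock (hM : IsPModular p M) {b : Set (IrrCharacter N)}
    (hb : IsPBlock M b) {χ χ' : IrrCharacter G} (h : SameBlock M (χ : G → ℂ) (χ' : G → ℂ))
    {θ ψ : IrrCharacter N} (hθ : θ ∈ b)
    (hcon : classInner (fun n : N => (χ : G → ℂ) n) (θ : N → ℂ) ≠ 0)
    (hψ : classInner (fun n : N => (χ' : G → ℂ) n) (ψ : N → ℂ) ≠ 0) :
    ∃ g, conjIrr N g ψ ∈ b := by
  by_contra hne
  have h1 := intRing_congr hM (omega_mem_intRing hM (isClassFunction_orbitFun N b)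
    (memR_orbitFun N hM hb)) h
  simp only [omegaFun, omega_orbitFun N b χ hcon, omega_orbitFun N b χ' hψ] at h1
  rw [blockInd_of_mem (show θ ∈ orbitSet N b from ⟨1, by rwa [conjIrr_one]⟩),
    blockInd_of_notMem (show ψ ∉ orbitSet N b from hne), sub_zero] at h1
  exact not_memI_one hM h1

theorem constituent_conjIrr (g : G) (χ : IrrCharacter G) (θ : IrrCharacter N) :
    classInner (fun n : N => (χ : G → ℂ) n) (conjIrr N g θ : N → ℂ) =
      classInner (fun n : N => (χ : G → ℂ) n) (θ : N → ℂ) :=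
  CliffordChar.classInner_restrict_conjFun N (irr_class χ) g _

theorem exists_constituent (χ : IrrCharacter G) :
    ∃ θ : IrrCharacter N, classInner (fun n : N => (χ : G → ℂ) n) (θ : N → ℂ) ≠ 0 :=
  CharApp.exists_constituent (Char.IsCharacter.restrict (Char.IsIrrCharacter.isCharacter χ.2) N)
    (irr_one_ne_zero χ)

theorem exists_over (θ : IrrCharacter N) :
    ∃ χ : IrrCharacter G, classInner (fun n : N => (χ : G → ℂ) n) (θ : N → ℂ) ≠ 0 := by
  have hne : indFun N (θ : N → ℂ) 1 ≠ 0 := by
    rw [Char.indFun_one_apply]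
    exact mul_ne_zero (Nat.cast_ne_zero.mpr Subgroup.index_ne_zero_of_finite) (irr_one_ne_zero θ)
  obtain ⟨χ, hχ⟩ := CharApp.exists_constituent
    (Char.IsCharacter.indFun N (Char.IsIrrCharacter.isCharacter θ.2)) hne
  refine ⟨χ, fun h0 => hχ ?_⟩
  rw [Char.frobenius_reciprocity N _ (irr_class χ), ← Char.classInner_conj_symm, h0, map_zero]

/-- Covering, through central characters. -/
theorem cover_iff_congr (hM : IsPModular p M) {B : Set (IrrCharacter G)} (hB : IsPBlock M B)
    {b : Set (IrrCharacter N)} (hb : IsPBlock M b) :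
    (∃ χ ∈ B, ∃ θ ∈ b, classInner (fun n : N => (χ : G → ℂ) n) (θ : N → ℂ) ≠ 0) ↔
      ∀ χ ∈ B, ∀ θ ∈ b, ∀ n : N, MemLocalIdeal M (centralChar (χ : G → ℂ) (n : G) -
        inducedCentralChar N (θ : N → ℂ) (n : G)) := by
  classical
  constructor
  · rintro ⟨χ₀, hχ₀, θ₀, hθ₀, hne⟩ χ hχ θ hθ n
    refine memI_sub_trans hM (sameBlock_of_mem hM hB hχ hχ₀ (n : G)) ?_
    rw [(S0963.result N χ₀ θ₀).mp hne n]
    exact inducedCentralChar_congr_sameBlock hM hb hθ₀ hθ (n : G)
  · intro h
    obtain ⟨χ, hχ⟩ := isPBlock_nonempty hM hB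
    obtain ⟨θ, hθ⟩ := isPBlock_nonempty hM hb
    obtain ⟨ψ, hψ⟩ := exists_constituent N χ
    by_cases hψA : ψ ∈ orbitSet N b
    · obtain ⟨g, hg⟩ := hψA
      exact ⟨χ, hχ, _, hg, by rwa [constituent_conjIrr]⟩
    · exfalso
      have := Fintype.ofFinite (ConjClasses G)
      have hz := isClassFunction_orbitFun N b
      have hlin : omega (θ : N → ℂ) (fun m : N => orbitFun N b (m : G)) = ∑ q : ConjClasses G,
          orbitFun N b (Quotient.out q) * inducedCentralChar N (θ : N → ℂ) (Quotient.out q) := by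
        simp only [inducedCentralChar_eq_omega hM, omega_eq_sum, ← mul_div_assoc]
        rw [← Finset.sum_div]
        congr 1
        simp only [Finset.mul_sum]
        rw [Finset.sum_comm]
        refine Finset.sum_congr rfl fun x _ => ?_
        rw [classFunction_eq_sum_classInd hz (x : G), Finset.sum_mul]
        exact Finset.sum_congr rfl fun q _ => by ring
      have hval : omega (θ : N → ℂ) (fun m : N => orbitFun N b (m : G)) = 1 := by
        simp only [orbitFun, Char.extendByZero_coe]
        rw [omega_ofOmega, blockInd_of_mem (show θ ∈ orbitSet N b from ⟨1, by rwa [conjIrr_one]⟩)]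
      have h1 : MemLocalIdeal M (omega (χ : G → ℂ) (orbitFun N b) -
          omega (θ : N → ℂ) (fun m : N => orbitFun N b (m : G))) := by
        rw [hlin, omega_eq_sum_classes hz, ← Finset.sum_sub_distrib]
        refine memI_sum hM _ fun q _ => ?_
        rw [← mul_sub]
        by_cases hq : Quotient.out q ∈ N
        · exact memI_mul_left hM (memR_orbitFun N hM hb _) (h χ hχ θ hθ ⟨_, hq⟩)
        · rw [orbitFun, Char.extendByZero_not_mem _ _ hq, zero_mul]
          exact memI_zero hM
      rw [omega_orbitFun N b χ hψ, blockInd_of_notMem hψA, hval, zero_sub] at h1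
      exact not_memI_one hM (by simpa using memI_neg h1)

/-- Over a normal subgroup of `p`-power index a block is covered by only one block. -/
theorem cover_unique [Fact p.Prime] (hM : IsPModular p M) {k : ℕ} (hidx : N.index = p ^ k)
    {χ χ' : IrrCharacter G} {θ θ' : IrrCharacter N}
    (h : SameBlock M (θ : N → ℂ) (θ' : N → ℂ))
    (hθ : classInner (fun n : N => (χ : G → ℂ) n) (θ : N → ℂ) ≠ 0)
    (hθ' : classInner (fun n : N => (χ' : G → ℂ) n) (θ' : N → ℂ) ≠ 0) :
    SameBlock M (χ : G → ℂ) (χ' : G → ℂ) := by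
  classical
  set B := blockOf M (χ : G → ℂ) with hBdef
  have hB : IsPBlock M B := ⟨χ, rfl⟩
  set z : N → ℂ := fun n => blockCoeff B (n : G) with hzdef
  have hinv : ∀ x : G, CliffordChar.conjFun N x z = z := fun x => funext fun n => by
    rw [CliffordChar.conjFun_apply]
    simp only [hzdef]
    convert isClassFunction_blockCoeff B (n : G) x⁻¹ using 2
    simp [MulAut.conjNormal_apply]
  have hext : extendByZero N z = blockCoeff B := funext fun g => by
    by_cases hg : g ∈ N
    · rw [Char.extendByZero_mem _ _ hg]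
    · rw [Char.extendByZero_not_mem _ _ hg, eq_comm, blockCoeff_eq_ofOmega]
      refine ofOmega_singular_eq_zero hM (blockInd_mem_intRing hM hB) ?_
      have h1 : orderOf (g : G ⧸ N) ∣ p ^ k := hidx ▸ orderOf_dvd_natCard _
      obtain ⟨j, -, hj⟩ := (Nat.dvd_prime_pow (Fact.out : p.Prime)).mp h1
      refine dvd_trans ?_ (orderOf_map_dvd (QuotientGroup.mk' N) g)
      rw [QuotientGroup.mk'_apply, hj]
      exact dvd_pow_self p fun h0 => hg ((QuotientGroup.eq_one_iff g).mp
        (orderOf_eq_one_iff.mp (by rw [hj, h0, pow_zero])))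
  have h1 := intRing_congr hM (omega_mem_intRing hM
    (isClassFunction_restrict (isClassFunction_blockCoeff B) N)
    (fun n : N => memR_blockCoeff hM hB (n : G))) h
  change MemLocalIdeal M (omega (θ : N → ℂ) z - omega (θ' : N → ℂ) z) at h1
  rw [← RealBlock.omega_extendByZero N z hinv χ θ hθ,
    ← RealBlock.omega_extendByZero N z hinv χ' θ' hθ', hext, blockCoeff_eq_ofOmega,
    omega_ofOmega, omega_ofOmega, blockInd_of_mem (mem_blockOf_self hM χ)] at h1
  by_contra hne
  rw [blockInd_of_notMem (show χ' ∉ B from hne), sub_zero] at h1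
  exact not_memI_one hM h1

theorem singleton_of_pPrime (hM : IsPModular p M) (hN : ¬ p ∣ Nat.card N) (θ : IrrCharacter N) :
    blockOf M (θ : N → ℂ) = {θ} :=
  (singleton_iff_not_dvd hM θ).mp fun h =>
    hN (dvd_trans h (Nat.div_dvd_of_dvd (charDegree_dvd_card θ)))

/-- Characters in the block of one trivial on a normal `p'`-subgroup are trivial there. -/
theorem trivOn_of_sameBlock (hM : IsPModular p M) (hN : ¬ p ∣ Nat.card N) {χ ψ : IrrCharacter G}
    (h : SameBlock M (χ : G → ℂ) (ψ : G → ℂ))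
    (hχ : ∀ n ∈ N, (χ : G → ℂ) n = (χ : G → ℂ) 1) :
    ∀ n ∈ N, (ψ : G → ℂ) n = (ψ : G → ℂ) 1 := by
  let one : IrrCharacter N := ⟨1, Char.isIrrCharacter_one⟩
  obtain ⟨φ, hφ⟩ := exists_constituent N ψ
  have hone : classInner (fun n : N => (χ : G → ℂ) n) (one : N → ℂ) ≠ 0 := by
    rw [CharApp.classInner_trivOn N fun n => hχ n n.2]
    exact irr_one_ne_zero χ
  obtain ⟨g, hg⟩ := exists_conjIrr_mem_of_sameBlock N hM ⟨one, rfl⟩ h
    (mem_blockOf_self hM one) hone hφ
  rw [singleton_of_pPrime N hM hN, Set.mem_singleton_iff] at hg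
  intro n hn
  refine CharApp.trivOn_of_constituent_one N ψ.2 ?_ ⟨n, hn⟩
  rw [← constituent_conjIrr N g] at hφ
  rwa [hg] at hφ

end Cfsg.Agent.BlocksNormal
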