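import Cfsg.Agent.Lib.BlocksNormal.Cover
import Cfsg.Agent.Lib.BlocksNormal.Elem
import Cfsg.Agent.Lib.BlocksNormal.Count
import Cfsg.Agent.Lib.Blocks.HeightZeroValues
import Cfsg.Agent.Lib.CharApp.Schur
import Cfsg.Agent.Lib.Codegree.Basic
import Cfsg.Agent.S0941

/-!
# Blocks with defect group `P` when `G = P C(P)`

* `apply_mul_eq`: `χ (u * b) = χ u * χ b / χ 1` for `u ∈ P`, `b ∈ C(P)`.
* `kernel_eq`: on `p`-regular elements the block kernel is `|P| θ b θ b'`, `θ` trivial on `P`.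
* `apply_regular`: members are proportional to `θ` on `p`-regular elements.
* `card_block_eq_card_classes`: the block has as many members as `P` has classes.
-/

set_option autoImplicit false

open scoped ComplexConjugate

namespace Cfsg.Agent.BlocksNormal

open Cfsg Cfsg.Agent.Blocks

variable {G : Type*} [Group G] [Fintype G] {p : ℕ} {M : Ideal AlgInt} {P : Subgroup G}

omit [Fintype G] in
theorem exists_factor (hG : P ⊔ Subgroup.centralizer (P : Set G) = ⊤) (g : G) :
    ∃ u ∈ P, ∃ c ∈ Subgroup.centralizer (P : Set G), u * c = g := by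
  haveI : P.Normal := by
    rw [← Subgroup.normalizer_eq_top_iff, eq_top_iff, ← hG]
    exact sup_le Subgroup.le_normalizer (Subgroup.centralizer_le_normalizer _)
  exact Subgroup.mem_sup_of_normal_left.mp (hG ▸ Subgroup.mem_top g)

theorem sum_conj_apply (hG : P ⊔ Subgroup.centralizer (P : Set G) = ⊤) [Fintype P]
    (χ : IrrCharacter G) {x y : G} (hx : x ∈ P) (hy : y ∈ P) :
    (χ : G → ℂ) x * (χ : G → ℂ) y = (χ : G → ℂ) 1 * (Nat.card P : ℂ)⁻¹ *
      ∑ q : P, (χ : G → ℂ) ((q : G) * x * (q : G)⁻¹ * y) := by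
  classical
  obtain ⟨n, ρ, hirr, hρ⟩ := χ.2
  have hcy : ∀ c ∈ Subgroup.centralizer (P : Set G), c * x * c⁻¹ = x := fun c hc => by
    rw [← (Subgroup.mem_centralizer_iff.mp hc x hx), mul_inv_cancel_right]
  choose f hf c hc hfc using exists_factor hG
  have h := CharApp.sum_char_conj_mul ρ x y
  have hn : (Module.finrank ℂ (Fin n → ℂ) : ℂ) = (χ : G → ℂ) 1 := by
    rw [← hρ, Representation.char_one]
  rw [hρ, hn] at h
  have h1 : ∀ (q : P), ∑ g : G, (χ : G → ℂ) (q * g * x * g⁻¹ * (q : G)⁻¹ * y)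
      = ∑ g : G, (χ : G → ℂ) (g * x * g⁻¹ * y) := fun q =>
    Fintype.sum_equiv (Equiv.mulLeft (q : G)) _ _ fun g => by
      simp [Equiv.coe_mulLeft, mul_assoc]
  have h2 : ∀ g : G, ∑ q : P, (χ : G → ℂ) (q * g * x * g⁻¹ * (q : G)⁻¹ * y)
      = ∑ q : P, (χ : G → ℂ) ((q : G) * x * (q : G)⁻¹ * y) := by
    intro g
    refine Fintype.sum_equiv (Equiv.mulRight (⟨f g, hf g⟩ : P)) _ _ fun q => ?_
    rw [Equiv.coe_mulRight, Subgroup.coe_mul]
    conv_lhs => rw [← hfc g]
    congr 1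
    rw [show (q : G) * (f g * c g) * x * (f g * c g)⁻¹ * (q : G)⁻¹ * y =
      q * f g * (c g * x * (c g)⁻¹) * (q * f g : G)⁻¹ * y by group, hcy _ (hc g)]
  have h3 : (Nat.card P : ℂ) * ((Nat.card G : ℂ) * (χ : G → ℂ) x * (χ : G → ℂ) y / (χ : G → ℂ) 1)
      = (Nat.card G : ℂ) * ∑ q : P, (χ : G → ℂ) ((q : G) * x * (q : G)⁻¹ * y) := by
    have h4 : ∑ q : P, ∑ g : G, (χ : G → ℂ) (q * g * x * g⁻¹ * (q : G)⁻¹ * y)
        = (Nat.card P : ℂ) * ∑ g : G, (χ : G → ℂ) (g * x * g⁻¹ * y) := by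
      rw [Finset.sum_congr rfl fun q _ => h1 q, Finset.sum_const, Finset.card_univ, nsmul_eq_mul,
        Nat.card_eq_fintype_card]
    rw [h] at h4
    rw [← h4, Finset.sum_comm, Finset.sum_congr rfl fun g _ => h2 g, Finset.sum_const,
      Finset.card_univ, nsmul_eq_mul, Nat.card_eq_fintype_card (α := G)]
  have hP0 : (Nat.card P : ℂ) ≠ 0 := Nat.cast_ne_zero.mpr Nat.card_pos.ne'
  have hχ := irr_one_ne_zero χ
  have hG0 := card_ne_zero_C (G := G)
  field_simp at h3 ⊢
  linear_combination h3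

theorem apply_mul_eq (hG : P ⊔ Subgroup.centralizer (P : Set G) = ⊤) (χ : IrrCharacter G) {u b : G}
    (hu : u ∈ P) (hb : b ∈ Subgroup.centralizer (P : Set G)) :
    (χ : G → ℂ) (u * b) = (χ : G → ℂ) u * (χ : G → ℂ) b / (χ : G → ℂ) 1 := by
  classical
  obtain ⟨n, ρ, hirr, hρ⟩ := χ.2
  have h := CharApp.sum_char_conj_mul ρ b u
  have hn : (Module.finrank ℂ (Fin n → ℂ) : ℂ) = (χ : G → ℂ) 1 := by
    rw [← hρ, Representation.char_one]
  rw [hρ, hn] at h
  have h1 : ∀ g : G, (χ : G → ℂ) (g * b * g⁻¹ * u) = (χ : G → ℂ) (u * b) := by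
    intro g
    obtain ⟨q, hq, c, hc, rfl⟩ := exists_factor hG g
    have hcn : (Subgroup.centralizer (P : Set G)).Normal := by
      rw [← Subgroup.normalizer_eq_top_iff, eq_top_iff, ← hG]
      refine sup_le ?_ Subgroup.le_normalizer
      intro w hw
      rw [Subgroup.mem_normalizer_iff]
      exact fun x => (conj_mem_centralizer_iff (Subgroup.le_normalizer hw) x).symm
    have hcb : c * b * c⁻¹ ∈ Subgroup.centralizer (P : Set G) := hcn.conj_mem b hb c
    have e1 : q * c * b * (q * c)⁻¹ = c * b * c⁻¹ := by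
      rw [show q * c * b * (q * c)⁻¹ = q * (c * b * c⁻¹) * q⁻¹ by group,
        Subgroup.mem_centralizer_iff.mp hcb q hq, mul_inv_cancel_right]
    have e2 : c * b * c⁻¹ * u = c * (b * u) * c⁻¹ := by
      have h := Subgroup.mem_centralizer_iff.mp (Subgroup.inv_mem _ hc) u hu
      rw [mul_assoc (c * b), ← h]
      group
    rw [e1, e2, irr_class χ, ← Subgroup.mem_centralizer_iff.mp hb u hu]
  rw [Finset.sum_congr rfl fun g _ => h1 g, Finset.sum_const, Finset.card_univ, nsmul_eq_mul,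
    ← Nat.card_eq_fintype_card, eq_div_iff (irr_one_ne_zero χ)] at h
  rw [eq_div_iff (irr_one_ne_zero χ)]
  exact mul_left_cancel₀ card_ne_zero_C (by linear_combination h)

theorem regular_mem_centralizer (hP : IsPGroup p P) (hp : p.Prime)
    (hG : P ⊔ Subgroup.centralizer (P : Set G) = ⊤) {x : G} (hx : ¬ p ∣ orderOf x) :
    x ∈ Subgroup.centralizer (P : Set G) := by
  haveI : Fact p.Prime := ⟨hp⟩
  haveI : (Subgroup.centralizer (P : Set G)).Normal := ⟨fun g hg n =>
    (conj_mem_centralizer_iff (by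
      obtain ⟨q, hq, c, hc, rfl⟩ := exists_factor hG n
      exact Subgroup.mul_mem _ (Subgroup.le_normalizer hq)
        (Subgroup.centralizer_le_normalizer _ hc)) g).mpr hg⟩
  obtain ⟨u, hu, c, hc, rfl⟩ := exists_factor hG x
  obtain ⟨j, hj⟩ := IsPGroup.iff_orderOf.mp hP ⟨u, hu⟩
  rw [← Subgroup.orderOf_coe] at hj
  set π := QuotientGroup.mk' (Subgroup.centralizer (P : Set G))
  have h1 : π (u * c) = π u := by
    rw [map_mul, show π c = 1 from (QuotientGroup.eq_one_iff c).mpr hc, mul_one]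
  refine (QuotientGroup.eq_one_iff (u * c)).mp ?_
  rw [← orderOf_eq_one_iff]
  have h2 : orderOf (π (u * c)) ∣ p ^ j := by rw [h1, ← hj]; exact orderOf_map_dvd π u
  exact Nat.Coprime.eq_one_of_dvd ((hp.coprime_iff_not_dvd.mpr fun h =>
    hx (dvd_trans h (orderOf_map_dvd π (u * c)))).pow_left j).symm h2

theorem index_centralizer_pow (hP : IsPGroup p P) (hp : p.Prime)
    (hG : P ⊔ Subgroup.centralizer (P : Set G) = ⊤) :
    ∃ k : ℕ, (Subgroup.centralizer (P : Set G)).index = p ^ k := by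
  haveI : Fact p.Prime := ⟨hp⟩
  set C := Subgroup.centralizer (P : Set G) with hC
  haveI : C.Normal := ⟨fun g hg n => (conj_mem_centralizer_iff (by
      obtain ⟨q, hq, c, hc, rfl⟩ := exists_factor hG n
      exact Subgroup.mul_mem _ (Subgroup.le_normalizer hq)
        (Subgroup.centralizer_le_normalizer _ hc)) g).mpr hg⟩
  have hsurj : Function.Surjective ((QuotientGroup.mk' C).comp P.subtype) := fun q => by
    obtain ⟨g, rfl⟩ := QuotientGroup.mk_surjective q
    obtain ⟨u, hu, c, hc, rfl⟩ := exists_factor hG g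
    exact ⟨⟨u, hu⟩, QuotientGroup.eq.mpr (by simpa [hC] using hc)⟩
  exact (hP.of_surjective _ hsurj).exists_card_eq

variable [Fact p.Prime] (hM : IsPModular p M) (hP : IsPGroup p P)
  (hG : P ⊔ Subgroup.centralizer (P : Set G) = ⊤) {B : Set (IrrCharacter G)} (hB : IsPBlock M B)
include hM hP hG hB

theorem unique_trivOn [P.Normal] (hD : IsDefectGroup p M B P) {θ η : IrrCharacter G} (hθB : θ ∈ B)
    (hθ : ∀ x ∈ P, (θ : G → ℂ) x = (θ : G → ℂ) 1) (hηB : η ∈ B)
    (hη : ∀ x ∈ P, (η : G → ℂ) x = (η : G → ℂ) 1) : η = θ := by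
  obtain ⟨φ, hφ⟩ := CentralChar.exists_deflation P θ hθ
  obtain ⟨φ', hφ'⟩ := CentralChar.exists_deflation P η hη
  have hsing := blockOf_deflation_singleton hM hD hθB hφ
  have hs := sameBlock_of_mem hM hB hθB hηB
  rw [funext hφ, funext hφ'] at hs
  have h1 : φ' ∈ blockOf M (φ : G ⧸ P → ℂ) :=
    ((S0941.result p M hM P hP (index_centralizer_pow hP Fact.out hG)).1 φ φ').mpr hs
  rw [hsing, Set.mem_singleton_iff] at h1
  subst h1
  exact Subtype.ext (funext fun x => (hφ' x).trans (hφ x).symm)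

theorem kernel_eq [P.Normal] (hD : IsDefectGroup p M B P) {θ : IrrCharacter G} (hθB : θ ∈ B)
    (hθ : ∀ x ∈ P, (θ : G → ℂ) x = (θ : G → ℂ) 1) {b b' : G} (hb : ¬ p ∣ orderOf b)
    (hb' : ¬ p ∣ orderOf b') :
    ∑ᶠ χ ∈ B, (χ : G → ℂ) b * conj ((χ : G → ℂ) b') =
      (Nat.card P : ℂ) * ((θ : G → ℂ) b * conj ((θ : G → ℂ) b')) := by
  classical
  have hp : p.Prime := Fact.out
  have := Fintype.ofFinite P
  have := Fintype.ofFinite (IrrCharacter G)
  have hb'C := regular_mem_centralizer hP hp hG hb'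
  have h : ∑ u : P, ∑ᶠ χ ∈ B, (χ : G → ℂ) b * conj ((χ : G → ℂ) ((u : G) * b')) =
      ∑ᶠ χ ∈ B, (χ : G → ℂ) b * conj ((χ : G → ℂ) b') := by
    rw [Finset.sum_eq_single (1 : P)]
    · simp
    · intro u _ hu
      refine weak_orth hM (blockInd_mem_intRing hM hB) hb ?_
      by_contra hne
      have h1 := eq_of_regular_of_mem hp hP hb' hne hb'C (by
        rw [Subgroup.mem_centralizer_iff.mp hb'C u u.2, inv_mul_cancel_left]
        exact u.2)
      exact hu (Subtype.ext (mul_eq_right.mp h1.symm))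
    · simp
  rw [← h]
  simp only [finsum_mem_eq_toFinset_sum]
  rw [Finset.sum_comm, Finset.sum_eq_single θ]
  · have hval : ∀ u : P, (θ : G → ℂ) ((u : G) * b') = (θ : G → ℂ) b' := fun u => by
      rw [apply_mul_eq hG θ u.2 hb'C, hθ u u.2, mul_div_cancel_left₀ _ (irr_one_ne_zero θ)]
    simp only [hval, Finset.sum_const, Finset.card_univ, nsmul_eq_mul, Nat.card_eq_fintype_card]
  · intro η hη hne
    rw [← Finset.mul_sum, ← map_sum, Finset.sum_congr rfl fun (u : P) _ =>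
      apply_mul_eq hG η u.2 hb'C, ← Finset.sum_div, ← Finset.sum_mul,
      Codegree.sum_normal_eq_zero η P fun hle =>
        hne (unique_trivOn hM hP hG hB hD hθB hθ (Set.mem_toFinset.mp hη) fun x hx => hle hx),
      zero_mul, zero_div, map_zero, mul_zero]
  · exact fun h => absurd (Set.mem_toFinset.mpr hθB) h

theorem apply_regular [P.Normal] (hD : IsDefectGroup p M B P) {θ χ : IrrCharacter G} (hθB : θ ∈ B)
    (hθ : ∀ x ∈ P, (θ : G → ℂ) x = (θ : G → ℂ) 1) (hχ : χ ∈ B) {b : G} (hb : ¬ p ∣ orderOf b) :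
    (χ : G → ℂ) b * (θ : G → ℂ) 1 = (χ : G → ℂ) 1 * (θ : G → ℂ) b := by
  classical
  have := Fintype.ofFinite (IrrCharacter G)
  have h1 : ¬ p ∣ orderOf (1 : G) := by simpa using hM.1.one_lt.ne'
  let v : IrrCharacter G → ℂ := fun η =>
    (η : G → ℂ) b * (θ : G → ℂ) 1 - (η : G → ℂ) 1 * (θ : G → ℂ) b
  have hv : ∀ η : IrrCharacter G, v η * conj (v η) =
      (θ : G → ℂ) 1 * conj ((θ : G → ℂ) 1) * ((η : G → ℂ) b * conj ((η : G → ℂ) b))
      - (θ : G → ℂ) 1 * conj ((θ : G → ℂ) b) * ((η : G → ℂ) b * conj ((η : G → ℂ) 1))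
      - (θ : G → ℂ) b * conj ((θ : G → ℂ) 1) * ((η : G → ℂ) 1 * conj ((η : G → ℂ) b))
      + (θ : G → ℂ) b * conj ((θ : G → ℂ) b) * ((η : G → ℂ) 1 * conj ((η : G → ℂ) 1)) := by
    intro η
    simp only [v, map_sub, map_mul]
    ring
  have k := fun {x y : G} hx hy => kernel_eq hM hP hG hB hD hθB hθ (b := x) (b' := y) hx hy
  simp only [finsum_mem_eq_toFinset_sum] at k
  have hzero : ((∑ η ∈ B.toFinset, Complex.normSq (v η) : ℝ) : ℂ) = 0 := by
    push_cast
    rw [Finset.sum_congr rfl fun η _ => (Complex.mul_conj (v η)).symm.trans (hv η),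
      Finset.sum_add_distrib, Finset.sum_sub_distrib, Finset.sum_sub_distrib, ← Finset.mul_sum,
      ← Finset.mul_sum, ← Finset.mul_sum, ← Finset.mul_sum, k hb hb, k hb h1, k h1 hb, k h1 h1]
    ring
  exact sub_eq_zero.mp (Complex.normSq_eq_zero.mp ((Finset.sum_eq_zero_iff_of_nonneg
    fun _ _ => Complex.normSq_nonneg _).mp (Complex.ofReal_eq_zero.mp hzero) χ
      (Set.mem_toFinset.mpr hχ)))

theorem sum_sq_eq [P.Normal] (hD : IsDefectGroup p M B P) {θ : IrrCharacter G} (hθB : θ ∈ B)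
    (hθ : ∀ x ∈ P, (θ : G → ℂ) x = (θ : G → ℂ) 1) {u : G} (hu : u ∈ P) :
    ∑ᶠ χ ∈ B, (χ : G → ℂ) u * conj ((χ : G → ℂ) u) =
      (Nat.card {q : P // Commute (q : G) u} : ℂ) * ((θ : G → ℂ) 1 * (θ : G → ℂ) 1) := by
  classical
  have := Fintype.ofFinite P
  have := Fintype.ofFinite (IrrCharacter G)
  obtain ⟨χ₀, hχ₀⟩ := isPBlock_nonempty hM hB
  rw [finsum_mem_eq_toFinset_sum, Finset.sum_congr rfl fun χ _ => by
    rw [← Char.IsCharacter.apply_inv (Char.IsIrrCharacter.isCharacter χ.2),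
      sum_conj_apply hG χ hu (P.inv_mem hu)]]
  simp only [Finset.mul_sum]
  rw [Finset.sum_comm]
  have hterm : ∀ q : P, ∑ χ ∈ B.toFinset, (χ : G → ℂ) 1 * (Nat.card P : ℂ)⁻¹ *
      (χ : G → ℂ) ((q : G) * u * (q : G)⁻¹ * u⁻¹)
      = if Commute (q : G) u then (θ : G → ℂ) 1 * (θ : G → ℂ) 1 else 0 := by
    intro q
    have hw : (q : G) * u * (q : G)⁻¹ * u⁻¹ ∈ P :=
      P.mul_mem (P.mul_mem (P.mul_mem q.2 hu) (P.inv_mem q.2)) (P.inv_mem hu)
    split_ifs with hc
    · rw [show (q : G) * u * (q : G)⁻¹ * u⁻¹ = 1 by rw [hc.eq]; group]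
      have h1 : ¬ p ∣ orderOf (1 : G) := by simpa using hM.1.one_lt.ne'
      have k := kernel_eq hM hP hG hB hD hθB hθ h1 h1
      simp only [finsum_mem_eq_toFinset_sum, fun χ : IrrCharacter G =>
        Char.IsCharacter.conj_apply_one (Char.IsIrrCharacter.isCharacter χ.2)] at k
      have hP0 : (Nat.card P : ℂ) ≠ 0 := Nat.cast_ne_zero.mpr Nat.card_pos.ne'
      have h2 : ∑ χ ∈ B.toFinset, (χ : G → ℂ) 1 * (χ : G → ℂ) 1 =
          (Nat.card P : ℂ) * ((θ : G → ℂ) 1 * (θ : G → ℂ) 1) := k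
      calc _ = (Nat.card P : ℂ)⁻¹ * ∑ χ ∈ B.toFinset, (χ : G → ℂ) 1 * (χ : G → ℂ) 1 := by
            rw [Finset.mul_sum]; exact Finset.sum_congr rfl fun χ _ => by ring
        _ = _ := by rw [h2, inv_mul_cancel_left₀ hP0]
    · set w := (q : G) * u * (q : G)⁻¹ * u⁻¹
      have hsing : p ∣ orderOf w := by
        obtain ⟨j, hj⟩ := IsPGroup.iff_orderOf.mp hP ⟨w, hw⟩
        rw [← Subgroup.orderOf_coe] at hj
        rw [hj]
        refine dvd_pow_self p fun h0 => hc ?_
        rw [h0, pow_zero, orderOf_eq_one_iff] at hj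
        exact mul_inv_eq_iff_eq_mul.mp (mul_inv_eq_one.mp hj)
      have h1 : ¬ p ∣ orderOf (1 : G) := by simpa using hM.1.one_lt.ne'
      have k := congrArg conj (weak_orth hM (blockInd_mem_intRing hM hB) h1 hsing)
      simp only [finsum_mem_eq_toFinset_sum, map_sum, map_mul, Complex.conj_conj, map_zero, fun χ :
        IrrCharacter G => Char.IsCharacter.conj_apply_one (Char.IsIrrCharacter.isCharacter χ.2)] at k
      calc _ = (Nat.card P : ℂ)⁻¹ * ∑ χ ∈ B.toFinset, (χ : G → ℂ) 1 * (χ : G → ℂ) w := by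
            rw [Finset.mul_sum]; exact Finset.sum_congr rfl fun χ _ => by ring
        _ = _ := by rw [k, mul_zero]
  rw [Finset.sum_congr rfl fun q _ => hterm q, ← Finset.sum_filter, Finset.sum_const, nsmul_eq_mul,
    Nat.card_eq_fintype_card, Fintype.card_subtype]

open scoped Classical in
/-- The norm of a member of the block, split along the defect group and the regular elements. -/
theorem norm_split [P.Normal] (hD : IsDefectGroup p M B P) {θ χ : IrrCharacter G} (hθB : θ ∈ B)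
    (hθ : ∀ x ∈ P, (θ : G → ℂ) x = (θ : G → ℂ) 1) (hχ : χ ∈ B) [Fintype P] :
    (∑ u : P, (χ : G → ℂ) (u : G) * conj ((χ : G → ℂ) (u : G))) *
        ∑ b ∈ Finset.univ.filter (fun x : G => ¬ p ∣ orderOf x),
          (θ : G → ℂ) b * conj ((θ : G → ℂ) b) =
      (Nat.card G : ℂ) * ((θ : G → ℂ) 1 * (θ : G → ℂ) 1) := by
  have hp : p.Prime := Fact.out
  set T := Finset.univ.filter (fun x : G => ¬ p ∣ orderOf x)
  have hTC : ∀ b ∈ T, b ∈ Subgroup.centralizer (P : Set G) := fun b hb =>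
    regular_mem_centralizer hP hp hG (Finset.mem_filter.mp hb).2
  have honly : ∀ E, IsDefectGroup p M B E → E = P := fun E hE => by
    obtain ⟨x, rfl⟩ := isDefectGroup_conj_eq hM hB hD hE
    exact conjSub_eq_self_iff.mpr (by simp [Subgroup.normalizer_eq_top])
  have hsum : ∀ χ ∈ B, ∑ g : G, (χ : G → ℂ) g * conj ((χ : G → ℂ) g) =
      ∑ u : P, ∑ b ∈ T, (χ : G → ℂ) ((u : G) * b) * conj ((χ : G → ℂ) ((u : G) * b)) := by
    intro χ hχ
    rw [← Finset.sum_product']
    refine (Finset.sum_bij_ne_zero (fun z _ _ => (z.1 : G) * z.2) (fun _ _ _ => Finset.mem_univ _)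
      ?_ ?_ fun _ _ _ => rfl).symm
    · rintro ⟨u, b⟩ hb _ ⟨u', b'⟩ hb' _ h
      obtain ⟨-, hb⟩ := Finset.mem_product.mp hb
      obtain ⟨-, hb'⟩ := Finset.mem_product.mp hb'
      simp only at h
      have h' : b * u = b' * u' := by
        rwa [← Subgroup.mem_centralizer_iff.mp (hTC b hb) u u.2,
          ← Subgroup.mem_centralizer_iff.mp (hTC b' hb') u' u'.2]
      obtain rfl := eq_of_regular_of_mem hp hP (Finset.mem_filter.mp hb).2
        (Finset.mem_filter.mp hb').2 (hTC b hb) (by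
          have e : b⁻¹ * b' = (u : G) * (u' : G)⁻¹ := by
            rw [inv_mul_eq_iff_eq_mul, ← mul_assoc, h', mul_inv_cancel_right]
          rw [e]
          exact P.mul_mem u.2 (P.inv_mem u'.2))
      simp only [mul_left_inj, SetLike.coe_eq_coe] at h
      rw [h]
    · intro g _ hg
      obtain ⟨x, y, rfl, hxz, hyz, hk, hco⟩ := Transfer.exists_pPart_mul (p := p) g
      obtain ⟨k, hk⟩ := hk
      have hy : ¬ p ∣ orderOf y := (hp.coprime_iff_not_dvd).mp hco.symm
      have hcomm : Commute x y := by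
        obtain ⟨i, hi⟩ := Subgroup.mem_zpowers_iff.mp hxz
        obtain ⟨j, hj⟩ := Subgroup.mem_zpowers_iff.mp hyz
        have h := (Commute.refl (x * y)).zpow_zpow i j
        rwa [hi, hj] at h
      have hxP : x ∈ P := by
        by_contra hne
        refine hg ?_
        rw [apply_eq_zero_of_notMem_defectGroup hM hB hχ ⟨k, hk⟩ hcomm hy
          (fun E hE => honly E hE ▸ hne), zero_mul]
      exact ⟨(⟨x, hxP⟩, y), Finset.mem_product.mpr ⟨Finset.mem_univ _, by simp [T, hy]⟩, hg, rfl⟩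
  have hval : ∀ χ ∈ B, ∀ u : P, ∀ b ∈ T,
      (χ : G → ℂ) ((u : G) * b) * conj ((χ : G → ℂ) ((u : G) * b)) * ((θ : G → ℂ) 1 * (θ : G → ℂ) 1) =
        (χ : G → ℂ) (u : G) * conj ((χ : G → ℂ) (u : G)) *
          ((θ : G → ℂ) b * conj ((θ : G → ℂ) b)) := by
    intro χ hχ u b hb
    have hc := irr_one_ne_zero χ
    have h1 := apply_regular hM hP hG hB hD hθB hθ hχ (Finset.mem_filter.mp hb).2
    have h2 := congrArg conj h1
    rw [map_mul, map_mul, Char.IsCharacter.conj_apply_one (Char.IsIrrCharacter.isCharacter θ.2),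
      Char.IsCharacter.conj_apply_one (Char.IsIrrCharacter.isCharacter χ.2)] at h2
    rw [apply_mul_eq hG χ u.2 (hTC b hb), map_div₀, map_mul,
      Char.IsCharacter.conj_apply_one (Char.IsIrrCharacter.isCharacter χ.2)]
    field_simp
    linear_combination (χ : G → ℂ) (u : G) * conj ((χ : G → ℂ) (u : G)) * (χ : G → ℂ) 1 *
      (θ : G → ℂ) b * h2 + (χ : G → ℂ) (u : G) * conj ((χ : G → ℂ) (u : G)) *
        conj ((χ : G → ℂ) b) * (θ : G → ℂ) 1 * h1
  have hnorm : ∀ χ : IrrCharacter G, ∑ g : G, (χ : G → ℂ) g * conj ((χ : G → ℂ) g) =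
      (Nat.card G : ℂ) := fun χ => by
    have h1 := Char.classInner_irr_self χ.2
    rw [classInner, inv_mul_eq_one₀ card_ne_zero_C] at h1
    exact h1.symm
  rw [← hnorm χ, hsum χ hχ, Finset.sum_mul, Finset.sum_mul]
  refine Finset.sum_congr rfl fun u _ => ?_
  rw [Finset.mul_sum, Finset.sum_mul]
  exact Finset.sum_congr rfl fun b hb => (hval χ hχ u b hb).symm

open scoped Classical in
theorem card_regular_norm [P.Normal] (hD : IsDefectGroup p M B P) {θ : IrrCharacter G} (hθB : θ ∈ B)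
    (hθ : ∀ x ∈ P, (θ : G → ℂ) x = (θ : G → ℂ) 1) [Fintype P] :
    (Nat.card P : ℂ) * ∑ b ∈ Finset.univ.filter (fun x : G => ¬ p ∣ orderOf x),
        (θ : G → ℂ) b * conj ((θ : G → ℂ) b) = (Nat.card G : ℂ) := by
  have h := norm_split hM hP hG hB hD hθB hθ hθB
  have hval : ∀ u : P, (θ : G → ℂ) (u : G) * conj ((θ : G → ℂ) (u : G)) =
      (θ : G → ℂ) 1 * (θ : G → ℂ) 1 := fun u => by
    rw [hθ u u.2, Char.IsCharacter.conj_apply_one (Char.IsIrrCharacter.isCharacter θ.2)]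
  rw [Finset.sum_congr rfl fun u _ => hval u, Finset.sum_const, Finset.card_univ, nsmul_eq_mul,
    ← Nat.card_eq_fintype_card] at h
  exact mul_right_cancel₀ (mul_ne_zero (irr_one_ne_zero θ) (irr_one_ne_zero θ))
    (by linear_combination h)

open scoped Classical in
theorem card_block_eq_card_classes [P.Normal] (hD : IsDefectGroup p M B P) :
    Nat.card B = Nat.card (ConjClasses P) := by
  have hp : p.Prime := Fact.out
  have := Fintype.ofFinite P
  have := Fintype.ofFinite (IrrCharacter G)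
  obtain ⟨θ, hθB, hθ⟩ := exists_mem_trivOn hM hB P hP
  set T := Finset.univ.filter (fun x : G => ¬ p ∣ orderOf x)
  set R := ∑ b ∈ T, (θ : G → ℂ) b * conj ((θ : G → ℂ) b)
  set t := (θ : G → ℂ) 1 * (θ : G → ℂ) 1
  have ht : t ≠ 0 := mul_ne_zero (irr_one_ne_zero θ) (irr_one_ne_zero θ)
  have hR : (Nat.card P : ℂ) * R = (Nat.card G : ℂ) := card_regular_norm hM hP hG hB hD hθB hθ
  have hmain : (Nat.card B : ℂ) * (Nat.card G : ℂ) * t =
      (Nat.card {z : P × P // Commute z.1 z.2} : ℂ) * t * R := by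
    have h1 : (Nat.card B : ℂ) * (Nat.card G : ℂ) * t =
        ∑ χ ∈ B.toFinset, ∑ u : P, (χ : G → ℂ) (u : G) * conj ((χ : G → ℂ) (u : G)) * R := by
      rw [Finset.sum_congr rfl fun χ hχ => (Finset.sum_mul _ _ _).symm.trans
          (norm_split hM hP hG hB hD hθB hθ (Set.mem_toFinset.mp hχ)),
        Finset.sum_const, nsmul_eq_mul, Nat.card_eq_fintype_card, Set.toFinset_card, mul_assoc]
    rw [h1, Finset.sum_comm]
    have h3 : ∀ u : P, ∑ χ ∈ B.toFinset, (χ : G → ℂ) (u : G) * conj ((χ : G → ℂ) (u : G)) * R =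
        (Nat.card {q : P // Commute q u} : ℂ) * t * R := by
      intro u
      rw [← Finset.sum_mul, ← finsum_mem_eq_toFinset_sum, sum_sq_eq hM hP hG hB hD hθB hθ u.2]
      congr 3
      exact Nat.card_congr (Equiv.subtypeEquivRight fun q =>
        ⟨fun h => Subtype.ext h, fun h => congrArg Subtype.val h⟩)
    rw [Finset.sum_congr rfl fun u _ => h3 u, ← Finset.sum_mul, ← Finset.sum_mul, ← Nat.cast_sum,
      ← Nat.card_sigma]
    congr 3
    exact Nat.card_congr
      { toFun := fun z => ⟨(z.2.1, z.1), z.2.2⟩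
        invFun := fun z => ⟨z.1.2, ⟨z.1.1, z.2⟩⟩
        left_inv := fun _ => rfl
        right_inv := fun _ => rfl }
  rw [card_comm_eq_card_conjClasses_mul_card] at hmain
  push_cast at hmain
  have : (Nat.card B : ℂ) = Nat.card (ConjClasses P) := by
    rw [← hR] at hmain
    have hP0 : (Nat.card P : ℂ) ≠ 0 := Nat.cast_ne_zero.mpr Nat.card_pos.ne'
    have hR0 : R ≠ 0 := fun h0 => card_ne_zero_C (G := G) (by rw [← hR, h0, mul_zero])
    exact mul_right_cancel₀ (mul_ne_zero (mul_ne_zero hP0 hR0) ht)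
      (by linear_combination hmain)
  exact_mod_cast this

end Cfsg.Agent.BlocksNormal
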