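import Cfsg.Agent.Lib.BlocksNormal.CentralizedDefect
import Cfsg.Agent.Lib.BlocksNormal.ExtFirstMain
import Cfsg.Agent.Lib.BlocksNormal.InvariantCover
import Cfsg.Agent.Lib.Blocks.LocalBlocks
import Cfsg.Agent.Lib.Char.Linear
import Cfsg.Agent.Lib.CharApp.Clifford
import Cfsg.Agent.S0887
import Cfsg.Agent.S0968

/-!
# Blocks with normal defect group

* `degree_eq_mul`: with `G = P C(P)`, a member of the block has degree `θ 1 * ξ 1`, `ξ ∈ Irr P`.
* `abelian_iff_degree_eq`: then all members have degree `θ 1` exactly when `P` is abelian.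
* `exists_inertial_bound`: the stabiliser of a block of `P C(P)` under a block with normal defect
  group `P` has index prime to `p` over `P C(P)`.
* `factorization_degree_over`: degrees in the block above and below differ by `v [G : P C(P)]`.
-/

set_option autoImplicit false
set_option linter.unusedSectionVars false

open scoped ComplexConjugate

namespace Cfsg.Agent.BlocksNormal

open Cfsg Cfsg.Agent.Blocks

variable {G : Type*} [Group G] [Fintype G] {p : ℕ} [hp : Fact p.Prime] {M : Ideal AlgInt}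
  {P : Subgroup G}

theorem degree_eq_mul [P.Normal] [Fintype P] (hM : IsPModular p M) (hP : IsPGroup p P)
    (hG : P ⊔ Subgroup.centralizer (P : Set G) = ⊤) {B : Set (IrrCharacter G)} (hB : IsPBlock M B)
    (hD : IsDefectGroup p M B P) {θ χ : IrrCharacter G} (hθB : θ ∈ B)
    (hθ : ∀ x ∈ P, (θ : G → ℂ) x = (θ : G → ℂ) 1) (hχ : χ ∈ B) :
    ∃ ξ : IrrCharacter P, (χ : G → ℂ) 1 = (θ : G → ℂ) 1 * (ξ : P → ℂ) 1 := by
  classical
  obtain ⟨ξ, hξ⟩ := exists_constituent P χ
  have hinv : ∀ x : G, CliffordChar.conjFun P x (ξ : P → ℂ) = (ξ : P → ℂ) := by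
    intro x
    obtain ⟨q, hq, c, hc, rfl⟩ := exists_factor hG x
    funext n
    rw [CliffordChar.conjFun_apply, ← irr_class ξ n (⟨q, hq⟩ : P)⁻¹]
    refine congrArg _ (Subtype.ext ?_)
    have h : (q⁻¹ * (n : G) * q) * c = c * (q⁻¹ * (n : G) * q) :=
      Subgroup.mem_centralizer_iff.mp hc _ (P.mul_mem (P.mul_mem (P.inv_mem hq) n.2) hq)
    push_cast
    rw [show (q * c)⁻¹ * (n : G) * (q * c) = c⁻¹ * ((q⁻¹ * (n : G) * q) * c) by group, h,
      inv_mul_cancel_left, inv_inv]
  have hres := CharApp.restrict_invariant P χ.2 ξ.2 hξ hinv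
  obtain ⟨m, hm⟩ := Char.IsCharacter.classInner_nat
    (Char.IsCharacter.restrict (Char.IsIrrCharacter.isCharacter χ.2) P)
    (Char.IsIrrCharacter.isCharacter ξ.2)
  rw [hm] at hres
  have h := norm_split hM hP hG hB hD hθB hθ hχ
  have hR := card_regular_norm hM hP hG hB hD hθB hθ
  have hsum : ∑ u : P, (χ : G → ℂ) (u : G) * conj ((χ : G → ℂ) (u : G)) =
      (m : ℂ) * m * (Nat.card P : ℂ) := by
    have hn := Char.classInner_irr_self ξ.2
    rw [classInner, inv_mul_eq_one₀ card_ne_zero_C] at hn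
    rw [hn, Finset.mul_sum]
    refine Finset.sum_congr rfl fun u _ => ?_
    rw [show (χ : G → ℂ) (u : G) = (m : ℂ) * (ξ : P → ℂ) u from congrFun hres u, map_mul,
      Complex.conj_natCast]
    ring
  rw [hsum, mul_assoc, hR, ← charDegree_cast θ] at h
  have h2 : ((m * m : ℕ) : ℂ) =
      ((charDegree (θ : G → ℂ) * charDegree (θ : G → ℂ) : ℕ) : ℂ) := by
    push_cast
    exact mul_right_cancel₀ (card_ne_zero_C (G := G)) (by linear_combination h)
  have h3 : m = charDegree (θ : G → ℂ) := Nat.mul_self_inj.mp (Nat.cast_inj.mp h2)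
  refine ⟨ξ, ?_⟩
  rw [← charDegree_cast θ, ← h3]
  simpa using congrFun hres 1

theorem abelian_iff_degree_eq [P.Normal] (hM : IsPModular p M) (hP : IsPGroup p P)
    (hG : P ⊔ Subgroup.centralizer (P : Set G) = ⊤) {B : Set (IrrCharacter G)} (hB : IsPBlock M B)
    (hD : IsDefectGroup p M B P) :
    (∀ a b : P, a * b = b * a) ↔ ∀ χ ∈ B,
      (charDegree (χ : G → ℂ)).factorization p = P.index.factorization p := by
  classical
  have := Fintype.ofFinite P
  have := Fintype.ofFinite (IrrCharacter G)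
  obtain ⟨θ, hθB, hθ⟩ := exists_mem_trivOn hM hB P hP
  have hv := (S0968.result p M hM P hP hG B hB hD).2.1 θ hθB hθ
  constructor
  · intro hab χ hχ
    obtain ⟨ξ, hξ⟩ := degree_eq_mul hM hP hG hB hD hθB hθ hχ
    rw [Char.apply_one_eq_one_of_comm hab ξ, mul_one, ← charDegree_cast, ← charDegree_cast,
      Nat.cast_inj] at hξ
    rw [hξ, hv]
  · intro hall
    have hdeg : ∀ χ ∈ B, (χ : G → ℂ) 1 = (θ : G → ℂ) 1 := by
      intro χ hχ
      obtain ⟨ξ, hξ⟩ := degree_eq_mul hM hP hG hB hD hθB hθ hχ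
      obtain ⟨k, hk⟩ := hP.exists_card_eq
      obtain ⟨j, -, hj⟩ := (Nat.dvd_prime_pow hp.out).mp (hk ▸ charDegree_dvd_card ξ)
      have h1 : charDegree (χ : G → ℂ) = charDegree (θ : G → ℂ) * p ^ j := by
        rw [← hj]
        apply Nat.cast_injective (R := ℂ)
        push_cast
        rw [charDegree_cast, charDegree_cast, charDegree_cast, hξ]
      have h2 := hall χ hχ
      rw [h1, Nat.factorization_mul (charDegree_pos θ).ne' (pow_ne_zero _ hp.out.ne_zero),
        Finsupp.add_apply, hv, hp.out.factorization_pow, Finsupp.single_eq_same] at h2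
      have hj0 : j = 0 := by omega
      rw [← charDegree_cast, h1, hj0, pow_zero, mul_one, charDegree_cast]
    have h1 : ¬ p ∣ orderOf (1 : G) := by simpa using hM.1.one_lt.ne'
    have k := kernel_eq hM hP hG hB hD hθB hθ h1 h1
    have hconj : conj ((θ : G → ℂ) 1) = (θ : G → ℂ) 1 :=
      Char.IsCharacter.conj_apply_one (Char.IsIrrCharacter.isCharacter θ.2)
    rw [finsum_mem_eq_toFinset_sum, Finset.sum_congr rfl (g := fun _ => (θ : G → ℂ) 1 * (θ : G → ℂ) 1)
      (fun χ hχ => by rw [hdeg χ (Set.mem_toFinset.mp hχ), hconj]), Finset.sum_const, nsmul_eq_mul,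
      hconj, Set.toFinset_card, ← Nat.card_eq_fintype_card,
      card_block_eq_card_classes hM hP hG hB hD] at k
    have hcard := Nat.cast_inj.mp
      (mul_right_cancel₀ (mul_ne_zero (irr_one_ne_zero θ) (irr_one_ne_zero θ)) k)
    have hbij := (Nat.bijective_iff_surjective_and_card (ConjClasses.mk : P → _)).mpr
      ⟨ConjClasses.mk_surjective, hcard.symm⟩
    intro a b
    have h := hbij.1 (ConjClasses.mk_eq_mk_iff_isConj.mpr
      (isConj_iff.mpr ⟨b, rfl⟩) : ConjClasses.mk a = ConjClasses.mk (b * a * b⁻¹))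
    exact eq_mul_inv_iff_mul_eq.mp h

/-- The inertial index over a block of `H ⊇ P C(P)` is prime to `p`. -/
theorem exists_inertial_bound (hM : IsPModular p M) {B : Set (IrrCharacter G)}
    (hB : IsPBlock M B) [P.Normal] (hD : IsDefectGroup p M B P) {H : Subgroup G} [H.Normal]
    [Fintype H] (hPH' : P ≤ H) (hCH : Subgroup.centralizer (P : Set G) ≤ H)
    {χ : IrrCharacter G} {θ : IrrCharacter H} (hχ : χ ∈ B)
    (hθ : classInner (fun n : H => (χ : G → ℂ) n) (θ : H → ℂ) ≠ 0) :
    ∃ T : Subgroup G, H ≤ T ∧ CharApp.inertia H (θ : H → ℂ) ≤ T ∧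
      T.index.factorization p = H.index.factorization p := by
  classical
  have hPp := isPGroup_defectGroup hM hD
  have hHN : ∀ K : Subgroup G, K ≤ Subgroup.normalizer (P : Set G) := fun K => by
    rw [Subgroup.normalizer_eq_top]
    exact le_top
  let T : Subgroup G :=
    { carrier := {g | SameBlock M (θ : H → ℂ) (conjIrr H g θ : H → ℂ)}
      one_mem' := by
        show SameBlock M _ (conjIrr H 1 θ : H → ℂ)
        rw [conjIrr_one]
        exact sameBlock_refl hM _
      mul_mem' := fun {a c} ha hc => by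
        show SameBlock M _ (conjIrr H (a * c) θ : H → ℂ)
        rw [conjIrr_mul]
        exact sameBlock_trans hM ha (sameBlock_conjIrr H a hc)
      inv_mem' := fun {a} ha => by
        show SameBlock M _ (conjIrr H a⁻¹ θ : H → ℂ)
        have h := sameBlock_conjIrr H a⁻¹ (sameBlock_symm ha)
        rwa [← conjIrr_mul, inv_mul_cancel, conjIrr_one] at h }
  have hIT : CharApp.inertia H (θ : H → ℂ) ≤ T := fun g hg => by
    have hg' : conjIrr H g θ = θ := Subtype.ext hg
    show SameBlock M _ (conjIrr H g θ : H → ℂ)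
    rw [hg']
    exact sameBlock_refl hM _
  have hHT : H ≤ T := (CharApp.le_inertia H (irr_class θ)).trans hIT
  refine ⟨T, hHT, hIT, ?_⟩
  have := Fintype.ofFinite T
  have := Fintype.ofFinite (H.subgroupOf T)
  set e := Subgroup.subgroupOfEquivOfLe hHT
  set θ' := BrauerPairs.pullIrr e θ with hθ'
  set b := blockOf M (θ' : H.subgroupOf T → ℂ)
  have hb : IsPBlock M b := ⟨θ', rfl⟩
  have hA : orbitSet (H.subgroupOf T) b = b := by
    refine Set.ext fun η => ⟨fun ⟨g, hg⟩ => ?_, fun h => ⟨1, by rwa [conjIrr_one]⟩⟩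
    have hgT : SameBlock M (θ' : H.subgroupOf T → ℂ) (conjIrr (H.subgroupOf T) g⁻¹ θ' :
        H.subgroupOf T → ℂ) := by
      have hpull : (conjIrr (H.subgroupOf T) g⁻¹ θ' : H.subgroupOf T → ℂ) =
          fun y => (conjIrr H (g⁻¹ : T) θ : H → ℂ) (e y) := funext fun y =>
        congrArg (θ : H → ℂ) (Subtype.ext (by
          simp [e, Subgroup.subgroupOfEquivOfLe, MulAut.conjNormal_apply]))
      rw [hpull]
      exact (BrauerPairs.sameBlock_comp_equiv e (θ : H → ℂ)
        (conjIrr H (g⁻¹ : T) θ : H → ℂ)).mpr ((g⁻¹ : T)).2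
    have h1 := sameBlock_conjIrr (H.subgroupOf T) g⁻¹
      (show SameBlock M (θ' : H.subgroupOf T → ℂ) (conjIrr (H.subgroupOf T) g η : H.subgroupOf T → ℂ)
        from hg)
    rw [← conjIrr_mul, inv_mul_cancel, conjIrr_one] at h1
    exact sameBlock_trans hM hgT h1
  obtain ⟨BT, hBT, ⟨ψ, hψ, η, hη, hcon⟩, hd⟩ :=
    exists_cover_large (H.subgroupOf T) hM hb hA
  -- a member of `b` below a member of `BT`, seen in `H`
  set η₀ := BrauerPairs.pullIrr e.symm η
  have hη₀ : SameBlock M (θ : H → ℂ) (η₀ : H → ℂ) := by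
    have h := (BrauerPairs.sameBlock_comp_equiv e.symm (θ' : H.subgroupOf T → ℂ)
      (η : H.subgroupOf T → ℂ)).mpr hη
    simp only [hθ', BrauerPairs.pullIrr_apply, MulEquiv.apply_symm_apply] at h
    exact h
  have hηeq : BrauerPairs.pullIrr e η₀ = η := Subtype.ext (funext fun y => by
    show (η : H.subgroupOf T → ℂ) (e.symm (e y)) = _
    rw [MulEquiv.symm_apply_apply])
  have hBcov : IsInducedBlock M H (blockOf M (θ : H → ℂ)) B :=
    isInducedBlock_of_cover hM H hPp hCH ⟨θ, rfl⟩ hB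
      ⟨χ, hχ, θ, mem_blockOf_self hM θ, hθ⟩
  have hind : IsInducedBlock M T BT B := by
    refine ⟨hBT, hB, fun ψ' hψ' χ' hχ' g => ?_⟩
    have hPT : P ≤ T := hPH'.trans hHT
    refine memI_sub_trans hM
      (inducedCentralChar_congr_brauer hM hPp hPT (hHN T) ψ' g) ?_
    refine memI_sub_trans hM (cover_brauerCentralChar hM (P := P) (hHN T) hCH hHT
      (ξ := η₀) (θ := ψ) (by rw [hηeq]; exact hcon)
      (sameBlock_of_mem hM hBT hψ hψ') g) ?_
    exact memI_sub_trans hM
      (memI_sub_comm (inducedCentralChar_congr_brauer hM hPp hPH' (hHN H) η₀ g))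
      (hBcov.2.2 η₀ hη₀ χ' hχ' g)
  have h1 := blockDefect_le_of_induced hM hind
  -- `P` lies in the defect groups of `b`
  obtain ⟨E, hE⟩ := exists_isDefectGroup hM hb
  haveI : ((P.subgroupOf T).subgroupOf (H.subgroupOf T)).Normal := inferInstance
  have hPT : P ≤ T := hPH'.trans hHT
  have hPH : P.subgroupOf T ≤ H.subgroupOf T := fun x hx => Subgroup.mem_subgroupOf.mpr
    (hPH' (Subgroup.mem_subgroupOf.mp hx))
  have hc : Nat.card ((P.subgroupOf T).subgroupOf (H.subgroupOf T)) = Nat.card P :=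
    (Nat.card_congr (Subgroup.subgroupOfEquivOfLe hPH).toEquiv).trans
      (Nat.card_congr (Subgroup.subgroupOfEquivOfLe hPT).toEquiv)
  have h2 := normal_le_defectGroup hM
    ((hPp.of_equiv (Subgroup.subgroupOfEquivOfLe hPT).symm).of_equiv
      (Subgroup.subgroupOfEquivOfLe hPH).symm) hb hE
  have h3 := Subgroup.card_le_of_le h2
  rw [hc, card_defectGroup hM hB hD, card_defectGroup hM hb hE,
    Nat.pow_le_pow_iff_right hp.out.one_lt] at h3
  have h4 : H.relIndex T * T.index = H.index := Subgroup.relIndex_mul_index hHT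
  have h5 := congrArg (fun k : ℕ => k.factorization p) h4
  simp only [Nat.factorization_mul (left_ne_zero_of_mul (h4 ▸ Subgroup.index_ne_zero_of_finite))
    (Subgroup.index_ne_zero_of_finite (H := T)), Finsupp.add_apply] at h5
  simp only [Subgroup.relIndex] at h5
  omega

theorem factorization_degree_over (hM : IsPModular p M) {B : Set (IrrCharacter G)}
    (hB : IsPBlock M B) [P.Normal] (hD : IsDefectGroup p M B P) {H : Subgroup G} [H.Normal]
    [Fintype H] (hPH' : P ≤ H) (hCH : Subgroup.centralizer (P : Set G) ≤ H)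
    {χ : IrrCharacter G} {θ : IrrCharacter H} (hχ : χ ∈ B)
    (hθ : classInner (fun n : H => (χ : G → ℂ) n) (θ : H → ℂ) ≠ 0) :
    (charDegree (χ : G → ℂ)).factorization p =
      H.index.factorization p + (charDegree (θ : H → ℂ)).factorization p := by
  obtain ⟨T, hHT, hIT, hTv⟩ := exists_inertial_bound hM hB hD hPH' hCH hχ hθ
  obtain ⟨m, hm⟩ := Char.IsCharacter.classInner_nat
    (Char.IsCharacter.restrict (Char.IsIrrCharacter.isCharacter χ.2) H)
    (Char.IsIrrCharacter.isCharacter θ.2)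
  have h := CharApp.restrict_degree H χ.2 θ.2 hθ
  rw [hm, ← charDegree_cast, ← charDegree_cast, ← Nat.cast_mul, ← Nat.cast_mul, Nat.cast_inj] at h
  obtain ⟨-, hdvd⟩ := S0887.result H (χ : G → ℂ) χ.2 (θ : H → ℂ) θ.2 hθ _ _
    (charDegree_cast χ).symm (charDegree_cast θ).symm
  rw [h, Nat.mul_div_cancel _ (charDegree_pos θ)] at hdvd
  have hne : m * (CharApp.inertia H (θ : H → ℂ)).index ≠ 0 := fun h0 =>
    (charDegree_pos χ).ne' (by rw [h, h0, zero_mul])
  have h1 := (Nat.factorization_le_iff_dvd hne Subgroup.index_ne_zero_of_finite).mpr hdvd p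
  have h2 := (Nat.factorization_le_iff_dvd (Subgroup.index_ne_zero_of_finite (H := T))
    Subgroup.index_ne_zero_of_finite).mpr (Subgroup.index_dvd_of_le hIT) p
  rw [h, Nat.factorization_mul hne (charDegree_pos θ).ne', Finsupp.add_apply,
    Nat.factorization_mul (left_ne_zero_of_mul hne) (right_ne_zero_of_mul hne),
    Finsupp.add_apply]
  rw [Nat.factorization_mul (left_ne_zero_of_mul hne) (right_ne_zero_of_mul hne),
    Finsupp.add_apply] at h1
  omega

end Cfsg.Agent.BlocksNormal
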