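import Cfsg.Agent.Lib.Blocks.Induced
import Cfsg.Agent.Lib.CharApp.Clifford
import Cfsg.Agent.Lib.CentralChar.Twist

/-!
# Blocks and normal subgroups: basic lemmas

* `omega_restrict_congr`: for `b` inducing `B`, local integral class functions have congruent
  central characters at members of `b` (after restriction) and of `B`.
* `sum_blockCoeff_subgroup`: over a `p`-subgroup the idempotent coefficients sum to the one at `1`.
* `blockCoeff_one_ne_zero`, `exists_mem_trivOn`: every block has a member trivial on a given normal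
  `p`-subgroup.
-/

set_option autoImplicit false

open scoped ComplexConjugate

namespace Cfsg.Agent.BlocksNormal

open Cfsg Cfsg.Agent.Blocks

variable {G : Type*} [Group G] [Finite G] {p : ℕ} {M : Ideal AlgInt}

omit [Finite G] in
theorem isClassFunction_restrict {z : G → ℂ} (hz : IsClassFunction G z) (H : Subgroup G) :
    IsClassFunction H (fun h : H => z (h : G)) := fun g h => by
  push_cast
  exact hz (g : G) (h : G)

/-- Central characters of restricted class functions along an induced block. -/
theorem omega_restrict_congr (hM : IsPModular p M) {H : Subgroup G} {b : Set (IrrCharacter H)}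
    {B : Set (IrrCharacter G)} (hind : IsInducedBlock M H b B) {ξ : IrrCharacter H} (hξ : ξ ∈ b)
    {χ : IrrCharacter G} (hχ : χ ∈ B) {z : G → ℂ} (hz : IsClassFunction G z)
    (hzR : ∀ g, MemLocalRing M (z g)) :
    MemLocalIdeal M (omega (ξ : H → ℂ) (fun h : H => z (h : G)) - omega (χ : G → ℂ) z) := by
  classical
  have := Fintype.ofFinite G
  have := Fintype.ofFinite (ConjClasses G)
  have hlin : omega (ξ : H → ℂ) (fun h : H => z (h : G)) =
      ∑ q : ConjClasses G, z (Quotient.out q) * inducedCentralChar H (ξ : H → ℂ) (Quotient.out q) := by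
    simp only [inducedCentralChar_eq_omega hM, omega_eq_sum, ← mul_div_assoc]
    rw [← Finset.sum_div]
    congr 1
    simp only [Finset.mul_sum]
    rw [Finset.sum_comm]
    refine Finset.sum_congr rfl fun x _ => ?_
    rw [classFunction_eq_sum_classInd hz (x : G), Finset.sum_mul]
    exact Finset.sum_congr rfl fun q _ => by ring
  rw [hlin, omega_eq_sum_classes hz, ← Finset.sum_sub_distrib]
  refine memI_sum hM _ fun q _ => ?_
  rw [← mul_sub]
  exact memI_mul_left hM (hzR _) (hind.2.2 ξ hξ χ hχ _)

/-- The idempotent coefficient at the identity is nonzero. -/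
theorem blockCoeff_one_ne_zero {B : Set (IrrCharacter G)} (hB : B.Nonempty) :
    blockCoeff B 1 ≠ 0 := by
  classical
  have := Fintype.ofFinite (IrrCharacter G)
  obtain ⟨χ₀, hχ₀⟩ := hB
  rw [blockCoeff, finsum_mem_eq_toFinset_sum, Finset.sum_congr rfl
    (g := fun χ : IrrCharacter G => (((charDegree (χ : G → ℂ)) ^ 2 : ℕ) : ℂ)) fun χ _ => by
      rw [Char.IsCharacter.conj_apply_one (Char.IsIrrCharacter.isCharacter χ.2), ← charDegree_cast,
        sq, Nat.cast_mul], ← Nat.cast_sum]
  refine mul_ne_zero (inv_ne_zero card_ne_zero_C) (Nat.cast_ne_zero.mpr ?_)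
  rw [← pos_iff_ne_zero]
  exact Finset.sum_pos (fun χ _ => pow_pos (charDegree_pos χ) 2)
    ⟨χ₀, Set.mem_toFinset.mpr hχ₀⟩

/-- Over a `p`-subgroup only the identity contributes to the idempotent coefficients. -/
theorem sum_blockCoeff_subgroup (hM : IsPModular p M) {B : Set (IrrCharacter G)}
    (hB : IsPBlock M B) {Q : Subgroup G} [Fintype Q] (hQ : IsPGroup p Q) :
    ∑ u : Q, blockCoeff B (u : G) = blockCoeff B 1 := by
  classical
  rw [Finset.sum_eq_single (1 : Q)]
  · simp
  · intro u _ hu
    haveI : Fact p.Prime := ⟨hM.1⟩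
    obtain ⟨k, hk⟩ := IsPGroup.iff_orderOf.mp hQ u
    rw [blockCoeff_eq_ofOmega]
    refine ofOmega_singular_eq_zero hM (blockInd_mem_intRing hM hB) ?_
    rw [Subgroup.orderOf_coe, hk]
    refine dvd_pow_self p fun h0 => hu ?_
    rwa [h0, pow_zero, orderOf_eq_one_iff] at hk
  · simp

/-- Every block has a member trivial on a given normal `p`-subgroup. -/
theorem exists_mem_trivOn (hM : IsPModular p M) {B : Set (IrrCharacter G)} (hB : IsPBlock M B)
    (Q : Subgroup G) [Q.Normal] (hQ : IsPGroup p Q) :
    ∃ χ ∈ B, ∀ n ∈ Q, (χ : G → ℂ) n = (χ : G → ℂ) 1 := by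
  classical
  have := Fintype.ofFinite G
  have := Fintype.ofFinite Q
  have := Fintype.ofFinite (IrrCharacter G)
  by_contra hcon
  push Not at hcon
  refine blockCoeff_one_ne_zero (isPBlock_nonempty hM hB) ?_
  rw [← sum_blockCoeff_subgroup hM hB hQ]
  simp only [blockCoeff, ← Finset.mul_sum]
  rw [Finset.sum_congr rfl fun (u : Q) _ => finsum_mem_eq_toFinset_sum _ B, Finset.sum_comm]
  refine mul_eq_zero_of_right _ (Finset.sum_eq_zero fun χ hχ => ?_)
  rw [← Finset.mul_sum]
  by_contra hne
  obtain ⟨n, hn, hn'⟩ := hcon χ (Set.mem_toFinset.mp hχ)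
  refine hn' (CharApp.trivOn_of_constituent_one Q χ.2 ?_ ⟨n, hn⟩)
  intro h0
  refine (right_ne_zero_of_mul hne) ?_
  simp only [classInner, Pi.one_apply, map_one, mul_one] at h0
  rw [← map_sum, (mul_eq_zero.mp h0).resolve_left
    (inv_ne_zero (Nat.cast_ne_zero.mpr Nat.card_pos.ne')), map_zero]

end Cfsg.Agent.BlocksNormal
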