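import Cfsg.Agent.Lib.BlocksNormal.Basic

/-!
# Blocks along a surjective homomorphism

* `omega_comp`: central characters of inflated characters on arbitrary functions, through the
  push-forward `pushFun`.
* `sameBlock_comp`: characters in one block downstairs inflate into one block upstairs.
* `sameBlock_of_comp`: the converse, when the kernel has order prime to `p`.
* `sameBlock_of_isPGroup`: a `p`-group has one block.
-/

set_option autoImplicit false

open scoped ComplexConjugate

namespace Cfsg.Agent.BlocksNormal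

open Cfsg Cfsg.Agent.Blocks

variable {G : Type*} [Group G] [Fintype G] {K : Type*} [Group K] [Fintype K] {p : ℕ}
  {M : Ideal AlgInt}

open scoped Classical in
/-- Push-forward of a function along a homomorphism: sum over the fibres. -/
noncomputable def pushFun (π : G →* K) (z : G → ℂ) (y : K) : ℂ :=
  ∑ x, if π x = y then z x else 0

theorem sum_pushFun (π : G →* K) (z : G → ℂ) (f : K → ℂ) :
    ∑ y, pushFun π z y * f y = ∑ x, z x * f (π x) := by
  classical
  simp only [pushFun, Finset.sum_mul]
  rw [Finset.sum_comm]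
  refine Finset.sum_congr rfl fun x _ => ?_
  simp [ite_mul]

theorem isClassFunction_pushFun {π : G →* K} (hπ : Function.Surjective π) {z : G → ℂ}
    (hz : IsClassFunction G z) : IsClassFunction K (pushFun π z) := by
  classical
  intro y h
  obtain ⟨t, rfl⟩ := hπ h
  refine Fintype.sum_equiv (MulAut.conj t⁻¹).toEquiv _ _ fun x => ?_
  show (if π x = π t * y * (π t)⁻¹ then z x else 0) =
    if π (t⁻¹ * x * t⁻¹⁻¹) = y then z (t⁻¹ * x * t⁻¹⁻¹) else 0
  rw [hz x t⁻¹, map_mul, map_mul, inv_inv, map_inv]
  refine if_congr ⟨fun h => ?_, fun h => ?_⟩ rfl rfl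
  · rw [h]; group
  · rw [← h]; group

omit [Fintype K] in
theorem memR_pushFun (hM : IsPModular p M) (π : G →* K) {z : G → ℂ}
    (hz : ∀ x, MemLocalRing M (z x)) (y : K) : MemLocalRing M (pushFun π z y) := by
  classical
  refine memR_sum hM _ fun x _ => ?_
  split_ifs
  · exact hz x
  · exact memR_zero hM

theorem omega_comp (π : G →* K) (χ : K → ℂ) (z : G → ℂ) :
    omega (fun g => χ (π g)) z = omega χ (pushFun π z) := by
  rw [omega_eq_sum, omega_eq_sum, sum_pushFun, map_one]

/-- Inflation sends blocks into blocks. -/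
theorem sameBlock_comp (hM : IsPModular p M) {π : G →* K} (hπ : Function.Surjective π)
    {χ ψ : IrrCharacter K} (h : SameBlock M (χ : K → ℂ) (ψ : K → ℂ)) :
    SameBlock M (fun g => (χ : K → ℂ) (π g)) (fun g => (ψ : K → ℂ) (π g)) := by
  intro g
  let χ' : IrrCharacter G := ⟨_, Char.IsIrrCharacter.comp_surjective χ.2 π hπ⟩
  let ψ' : IrrCharacter G := ⟨_, Char.IsIrrCharacter.comp_surjective ψ.2 π hπ⟩
  show MemLocalIdeal M (centralChar (χ' : G → ℂ) g - centralChar (ψ' : G → ℂ) g)
  rw [← omega_classInd, ← omega_classInd]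
  show MemLocalIdeal M (omega (fun g => (χ : K → ℂ) (π g)) (classInd g) -
    omega (fun g => (ψ : K → ℂ) (π g)) (classInd g))
  rw [omega_comp, omega_comp]
  exact intRing_congr hM (omega_mem_intRing hM
    (isClassFunction_pushFun hπ (isClassFunction_classInd g))
    (memR_pushFun hM π (classInd_mem (locRing hM) g))) h

omit [Fintype K] in
theorem card_fiber {π : G →* K} (hπ : Function.Surjective π) (y : K) :
    Nat.card {x : G // π x = y} = Nat.card π.ker := by
  obtain ⟨t, rfl⟩ := hπ y
  refine Nat.card_congr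
    { toFun := fun x => ⟨t⁻¹ * x.1, ?_⟩
      invFun := fun k => ⟨t * k.1, ?_⟩
      left_inv := fun x => Subtype.ext (mul_inv_cancel_left t _)
      right_inv := fun k => Subtype.ext (inv_mul_cancel_left t _) }
  · rw [MonoidHom.mem_ker, map_mul, x.2, map_inv, inv_mul_cancel]
  · rw [map_mul, MonoidHom.mem_ker.mp k.2, mul_one]

theorem pushFun_comp {π : G →* K} (hπ : Function.Surjective π) (f : K → ℂ) (y : K) :
    pushFun π (fun x => f (π x)) y = (Nat.card π.ker : ℂ) * f y := by
  classical
  rw [← card_fiber hπ y, Nat.card_eq_fintype_card, Fintype.card_subtype, pushFun,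
    ← Finset.sum_filter, Finset.sum_congr rfl (g := fun _ => f y) fun x hx => by
      rw [(Finset.mem_filter.mp hx).2], Finset.sum_const, nsmul_eq_mul]

/-- Over a kernel of order prime to `p`, one block upstairs means one block downstairs. -/
theorem sameBlock_of_comp (hM : IsPModular p M) {π : G →* K} (hπ : Function.Surjective π)
    (hker : ¬ p ∣ Nat.card π.ker) {χ ψ : IrrCharacter K}
    (h : SameBlock M (fun g => (χ : K → ℂ) (π g)) (fun g => (ψ : K → ℂ) (π g))) :
    SameBlock M (χ : K → ℂ) (ψ : K → ℂ) := by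
  classical
  intro y
  let χ' : IrrCharacter G := ⟨_, Char.IsIrrCharacter.comp_surjective χ.2 π hπ⟩
  let ψ' : IrrCharacter G := ⟨_, Char.IsIrrCharacter.comp_surjective ψ.2 π hπ⟩
  have hz : IsClassFunction G (fun x => classInd y (π x)) := fun x t => by
    simp only [map_mul, map_inv]
    exact isClassFunction_classInd y (π x) (π t)
  have hc := intRing_congr hM
    (omega_mem_intRing hM hz fun x => classInd_mem (locRing hM) y (π x))
    (χ := χ') (ψ := ψ') h
  have hsm : ∀ φ : IrrCharacter K, omega (fun g => (φ : K → ℂ) (π g)) (fun x => classInd y (π x)) =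
      (Nat.card π.ker : ℂ) * centralChar (φ : K → ℂ) y := by
    intro φ
    rw [omega_comp, ← omega_classInd, omega_eq_sum, omega_eq_sum, ← mul_div_assoc, Finset.mul_sum]
    congr 1
    exact Finset.sum_congr rfl fun x _ => by rw [pushFun_comp hπ]; ring
  change MemLocalIdeal M (omega (fun g => (χ : K → ℂ) (π g)) _ -
    omega (fun g => (ψ : K → ℂ) (π g)) _) at hc
  rw [hsm, hsm, ← mul_sub] at hc
  have h1 := memI_mul_left hM (memR_natCast_inv hM hker) hc
  rwa [inv_mul_cancel_left₀ (Nat.cast_ne_zero.mpr Nat.card_pos.ne')] at h1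

/-- A `p`-group has only one block. -/
theorem sameBlock_of_isPGroup [Fact p.Prime] (hM : IsPModular p M) (hK : IsPGroup p K)
    (χ ψ : IrrCharacter K) : SameBlock M (χ : K → ℂ) (ψ : K → ℂ) := fun y =>
  memI_sub_trans hM (centralChar_congr_of_mem hM (Q := ⊤) (hK.to_subgroup ⊤) (Subgroup.mem_top y) χ)
    (memI_sub_comm (centralChar_congr_of_mem hM (Q := ⊤) (hK.to_subgroup ⊤) (Subgroup.mem_top y) ψ))

end Cfsg.Agent.BlocksNormal
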