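import Cfsg.Agent.Lib.Blocks.Defect
import Cfsg.Agent.Lib.Blocks.Induced
import Cfsg.Agent.Lib.BlocksNormal.Deflate
import Cfsg.Agent.Lib.CentralChar.Twist

/-!
# Defect groups of the blocks of a quotient

* `image_sylow`: an element seen by an inflated character maps to one seen downstairs, and a Sylow
  subgroup of its centraliser onto a Sylow subgroup of the centraliser of the image;
* `defect_le_image`: the defect groups of a block of `G ⧸ N` lie in images of those upstairs;
* `exists_full_block`: for a `p`-group `N` one block downstairs has the images as defect groups.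
-/

set_option autoImplicit false

open scoped ComplexConjugate

namespace Cfsg.Agent.QuotientDefect

open Cfsg Cfsg.Agent.Blocks

variable {G : Type*} [Group G] [Finite G] {p : ℕ} [Fact p.Prime] {M : Ideal AlgInt}

omit [Finite G] [Fact p.Prime] in
theorem conjSub_map_mk (N : Subgroup G) [N.Normal] (x : G) (P : Subgroup G) :
    conjSub (x : G ⧸ N) (P.map (QuotientGroup.mk' N)) =
      (conjSub x P).map (QuotientGroup.mk' N) := by
  simp only [conjSub, Subgroup.map_map]
  congr 1

theorem image_sylow (hM : IsPModular p M) (N : Subgroup G) [N.Normal] (χ : IrrCharacter (G ⧸ N))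
    {g : G} (hω : ¬ MemLocalIdeal M (centralChar ((χ : G ⧸ N → ℂ) ∘ QuotientGroup.mk) g))
    {P : Subgroup G} (hP : SylowIn p (Subgroup.centralizer ({g} : Set G)) P) :
    ¬ MemLocalIdeal M (centralChar (χ : G ⧸ N → ℂ) (g : G ⧸ N)) ∧
      SylowIn p (Subgroup.centralizer ({(g : G ⧸ N)} : Set (G ⧸ N)))
        (P.map (QuotientGroup.mk' N)) := by
  have hp : p.Prime := Fact.out
  set π := QuotientGroup.mk' N with hπ
  set C := Subgroup.centralizer ({g} : Set G) with hC
  set Cb := Subgroup.centralizer ({(g : G ⧸ N)} : Set (G ⧸ N)) with hCb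
  set H := Cb.comap π with hH
  have hCH : C ≤ H := fun x hx => by
    rw [hC, Blocks.mem_centralizer_singleton] at hx
    rw [hH, hCb, Subgroup.mem_comap, Blocks.mem_centralizer_singleton]
    simpa [hπ] using congrArg π hx
  have hidx : C.index = C.relIndex H * Cb.index := by
    rw [← Subgroup.index_comap_of_surjective Cb (QuotientGroup.mk'_surjective N), ← hπ, ← hH,
      Subgroup.relIndex_mul_index hCH]
  have heq : centralChar ((χ : G ⧸ N → ℂ) ∘ QuotientGroup.mk) g =
      (C.relIndex H : ℂ) * centralChar (χ : G ⧸ N → ℂ) (g : G ⧸ N) := by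
    simp only [centralChar, Function.comp_apply, QuotientGroup.mk_one, ← hC, ← hCb, hidx]
    push_cast
    ring
  rw [heq] at hω
  have h1 : ¬ MemLocalIdeal M (centralChar (χ : G ⧸ N → ℂ) (g : G ⧸ N)) := fun h =>
    hω (memI_mul_left hM (memR_natCast hM _) h)
  have h2 : ¬ p ∣ C.relIndex H := fun h =>
    hω (memI_mul_right hM ((memI_natCast hM).2 h) (Blocks.memR_centralChar hM χ _))
  refine ⟨h1, ?_⟩
  have hPC := sylowIn_le hP
  have hPp := sylowIn_isPGroup hP
  have h3 : ¬ p ∣ P.relIndex C := by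
    intro h
    have e : Nat.card P * P.relIndex C = Nat.card C := by
      rw [Subgroup.relIndex, ← Nat.card_congr (Subgroup.subgroupOfEquivOfLe hPC).toEquiv,
        Subgroup.card_mul_index]
    rw [sylowIn_card hP] at e
    have : p ^ ((Nat.card C).factorization p + 1) ∣ Nat.card C := by
      rw [pow_succ]
      exact (mul_dvd_mul_left _ h).trans e.dvd
    exact Nat.pow_succ_factorization_not_dvd Nat.card_pos.ne' hp this
  have h4 : (P.map π).relIndex Cb ∣ P.relIndex H := by
    have e : H.map π = Cb := Subgroup.map_comap_eq_self_of_surjective (QuotientGroup.mk'_surjective N) _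
    rw [← e, Subgroup.relIndex_map_map]
    have hker : π.ker ≤ H := Subgroup.ker_le_comap π Cb
    rw [sup_eq_left.2 hker]
    exact Subgroup.relIndex_dvd_of_le_left _ le_sup_left
  have h5 : ¬ p ∣ (P.map π).relIndex Cb := fun h => by
    have h6 := h.trans h4
    rw [← Subgroup.relIndex_mul_relIndex P C H hPC hCH] at h6
    exact (hp.dvd_mul.1 h6).elim h3 h2
  have hle : P.map π ≤ Cb := (Subgroup.map_mono (hPC.trans hCH)).trans (Subgroup.map_comap_le _ _)
  refine sylowIn_of_card_eq hle (hPp.map π) ?_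
  obtain ⟨k, hk⟩ := (hPp.map π).exists_card_eq
  have e : Nat.card (P.map π) * (P.map π).relIndex Cb = Nat.card Cb := by
    rw [Subgroup.relIndex, ← Nat.card_congr (Subgroup.subgroupOfEquivOfLe hle).toEquiv,
      Subgroup.card_mul_index]
  have hne : (P.map π).relIndex Cb ≠ 0 := fun h => h5 (by rw [h]; exact dvd_zero p)
  rw [hk, ← e, hk, Nat.factorization_mul (pow_pos hp.pos k).ne' hne]
  simp [Nat.factorization_eq_zero_of_not_dvd h5, hp.factorization_self]

theorem defect_le_image (hM : IsPModular p M) (N : Subgroup G) [N.Normal]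
    {Bbar : Set (IrrCharacter (G ⧸ N))} (hBbar : IsPBlock M Bbar)
    {B : Set (IrrCharacter G)} (hB : IsPBlock M B)
    (hsub : ∀ χ ∈ Bbar, ∀ ψ : IrrCharacter G,
      (ψ : G → ℂ) = (χ : G ⧸ N → ℂ) ∘ QuotientGroup.mk → ψ ∈ B)
    {Dbar : Subgroup (G ⧸ N)} (hD : IsDefectGroup p M Bbar Dbar) :
    ∃ P : Subgroup G, IsDefectGroup p M B P ∧ Dbar ≤ P.map (QuotientGroup.mk' N) := by
  have := Fintype.ofFinite G
  obtain ⟨χ, hχ⟩ := isPBlock_nonempty hM hBbar
  let ψ : IrrCharacter G := ⟨_, Char.IsIrrCharacter.comp_surjective χ.2 (QuotientGroup.mk' N)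
    (QuotientGroup.mk'_surjective N)⟩
  have hψ : ψ ∈ B := hsub χ hχ ψ rfl
  obtain ⟨P, g, hg, hgP⟩ := Blocks.exists_isDefectGroup (p := p) hM hB
  obtain ⟨h1, h2⟩ := image_sylow hM N χ (hg.2.2 ψ hψ) hgP
  obtain ⟨k, hk, hkD⟩ := hD
  obtain ⟨x, hx⟩ := minmax hM hBbar hχ h1 hk.2.1 (sylowIn_isPGroup hkD) (sylowIn_le hkD) h2
  obtain ⟨x, rfl⟩ := QuotientGroup.mk_surjective x
  refine ⟨conjSub x P, isDefectGroup_conjSub hM ⟨g, hg, hgP⟩ x, ?_⟩
  rwa [conjSub_map_mk] at hx

theorem exists_full_block (hM : IsPModular p M) (N : Subgroup G) [N.Normal] (hN : IsPGroup p N)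
    {B : Set (IrrCharacter G)} (hB : IsPBlock M B) :
    ∃ Bbar : Set (IrrCharacter (G ⧸ N)), IsPBlock M Bbar ∧
      (∀ χ ∈ Bbar, ∀ ψ : IrrCharacter G,
        (ψ : G → ℂ) = (χ : G ⧸ N → ℂ) ∘ QuotientGroup.mk → ψ ∈ B) ∧
      ∀ Dbar : Subgroup (G ⧸ N), IsDefectGroup p M Bbar Dbar ↔
        ∃ P : Subgroup G, IsDefectGroup p M B P ∧ Dbar = P.map (QuotientGroup.mk' N) := by
  classical
  have := Fintype.ofFinite G
  have := Fintype.ofFinite N
  have := Fintype.ofFinite (G ⧸ N)
  have := Fintype.ofFinite (IrrCharacter G)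
  have := Fintype.ofFinite (IrrCharacter (G ⧸ N))
  have hp : p.Prime := Fact.out
  set π := QuotientGroup.mk' N with hπdef
  have hπ : Function.Surjective π := QuotientGroup.mk'_surjective N
  let infl : IrrCharacter (G ⧸ N) → IrrCharacter G := fun χ =>
    ⟨_, Char.IsIrrCharacter.comp_surjective χ.2 π hπ⟩
  let S : Finset (IrrCharacter (G ⧸ N)) := Finset.univ.filter fun χ => infl χ ∈ B
  have hS : ∀ χ, χ ∈ S ↔ infl χ ∈ B := fun χ => by simp [S]
  obtain ⟨P, g, hg, hgP⟩ := Blocks.exists_isDefectGroup (p := p) hM hB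
  have hPdef : IsDefectGroup p M B P := ⟨g, hg, hgP⟩
  have hgN : g ∈ Subgroup.centralizer (N : Set G) :=
    le_centralizer_singleton.1 ((normal_le_defectGroup hM hN hB hPdef).trans (sylowIn_le hgP))
  have hgreg := pRegular_of_blockCoeff hM hB hg.2.1
  -- the push-forward of the idempotent
  have hpush : BlocksNormal.pushFun π (blockCoeff B) (g : G ⧸ N) =
      blockCoeff (S : Set (IrrCharacter (G ⧸ N))) (g : G ⧸ N) := by
    rw [← ofOmega_omega (BlocksNormal.isClassFunction_pushFun hπ (isClassFunction_blockCoeff B)),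
      blockCoeff_eq_ofOmega (S : Set (IrrCharacter (G ⧸ N)))]
    congr 1
    ext χ
    have h1 := omega_ofOmega (blockInd B) (infl χ)
    rw [← blockCoeff_eq_ofOmega] at h1
    rw [omegaFun, ← BlocksNormal.omega_comp]
    refine h1.trans ?_
    by_cases hχ : infl χ ∈ B
    · rw [blockInd_of_mem hχ, blockInd_of_mem (Finset.mem_coe.2 ((hS χ).2 hχ))]
    · rw [blockInd_of_notMem hχ, blockInd_of_notMem (fun h => hχ ((hS χ).1 (Finset.mem_coe.1 h)))]
  have hval : BlocksNormal.pushFun π (blockCoeff B) (g : G ⧸ N) = blockCoeff B g := by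
    rw [BlocksNormal.pushFun, Finset.sum_eq_single g]
    · exact if_pos rfl
    · intro x _ hx
      split_ifs with hxg
      · rw [blockCoeff_eq_ofOmega]
        refine ofOmega_singular_eq_zero hM (blockInd_mem_intRing hM hB) ?_
        have hu : g⁻¹ * x ∈ N := QuotientGroup.eq.1 hxg.symm
        have hcomm : Commute g (g⁻¹ * x) := (Subgroup.mem_centralizer_iff.1 hgN _ hu).symm
        obtain ⟨c, hc⟩ := IsPGroup.iff_orderOf.1 hN ⟨_, hu⟩
        rw [← Subgroup.orderOf_coe] at hc
        change orderOf (g⁻¹ * x) = p ^ c at hc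
        have hpc : p ∣ p ^ c := by
          refine dvd_pow_self p fun h0 => hx ?_
          rw [h0, pow_zero, orderOf_eq_one_iff, inv_mul_eq_one] at hc
          exact hc.symm
        have h := hcomm.orderOf_mul_eq_mul_orderOf_of_coprime (by
          rw [hc]
          exact Nat.Coprime.pow_right _ (hp.coprime_iff_not_dvd.mpr hgreg).symm)
        rw [mul_inv_cancel_left, hc] at h
        rw [h]
        exact dvd_mul_of_dvd_right hpc _
      · rfl
    · exact fun h => absurd (Finset.mem_univ _) h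
  -- some block downstairs sees the image
  obtain ⟨χ₀, hχ₀, hc₀⟩ : ∃ χ ∈ S,
      ¬ MemLocalIdeal M (blockCoeff (blockOf M (χ : G ⧸ N → ℂ)) (g : G ⧸ N)) := by
    by_contra hcon
    push Not at hcon
    refine hg.2.1 ?_
    rw [← hval, hpush]
    have hsum : blockCoeff (S : Set (IrrCharacter (G ⧸ N))) (g : G ⧸ N) =
        ∑ b ∈ S.image fun χ : IrrCharacter (G ⧸ N) => blockOf M (χ : G ⧸ N → ℂ), blockCoeff b (g : G ⧸ N) := by
      simp only [blockCoeff, finsum_mem_eq_toFinset_sum, Finset.toFinset_coe, ← Finset.mul_sum]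
      congr 1
      rw [← Finset.sum_fiberwise_of_maps_to (fun χ hχ => Finset.mem_image_of_mem
        (fun χ : IrrCharacter (G ⧸ N) => blockOf M (χ : G ⧸ N → ℂ)) hχ)]
      refine Finset.sum_congr rfl fun b hb => ?_
      obtain ⟨χ₁, hχ₁, rfl⟩ := Finset.mem_image.1 hb
      refine Finset.sum_congr ?_ fun _ _ => rfl
      ext χ
      rw [Finset.mem_filter, Set.mem_toFinset]
      constructor
      · rintro ⟨-, h⟩
        rw [← h]
        exact mem_blockOf_self hM χ
      · intro h
        refine ⟨(hS χ).2 ?_, (isPBlock_eq_blockOf hM (isPBlock_blockOf hM χ₁) h).symm⟩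
        rw [isPBlock_eq_blockOf hM hB ((hS χ₁).1 hχ₁)]
        exact BlocksNormal.sameBlock_comp hM hπ h
    rw [hsum]
    refine memI_sum hM _ fun b hb => ?_
    obtain ⟨χ₁, hχ₁, rfl⟩ := Finset.mem_image.1 hb
    exact hcon χ₁ hχ₁
  have hBb := isPBlock_blockOf hM χ₀
  set Bbar := blockOf M (χ₀ : G ⧸ N → ℂ) with hBbar
  have hsub : ∀ χ ∈ Bbar, ∀ ψ : IrrCharacter G,
      (ψ : G → ℂ) = (χ : G ⧸ N → ℂ) ∘ QuotientGroup.mk → ψ ∈ B := by
    intro χ hχ ψ hψ
    rw [show ψ = infl χ from Subtype.ext hψ, isPBlock_eq_blockOf hM hB ((hS χ₀).1 hχ₀)]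
    exact BlocksNormal.sameBlock_comp hM hπ hχ
  obtain ⟨E, k, hk, hkE⟩ := Blocks.exists_isDefectGroup (p := p) hM hBb
  obtain ⟨x, hx⟩ := minmax hM hBb (mem_blockOf_self hM χ₀) (hk.2.2 _ (mem_blockOf_self hM χ₀)) hc₀
    ((sylowIn_isPGroup hgP).map π) (by
      rintro _ ⟨y, hy, rfl⟩
      have := Blocks.mem_centralizer_singleton.1 (sylowIn_le hgP hy)
      exact Blocks.mem_centralizer_singleton.2 (by simpa [hπdef] using congrArg π this)) hkE
  obtain ⟨Q, hQ, hEQ⟩ := defect_le_image hM N hBb hB hsub ⟨k, hk, hkE⟩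
  obtain ⟨z, rfl⟩ := isDefectGroup_conj_eq hM hB hPdef hQ
  have hEeq : E = (conjSub z P).map π := by
    refine Subgroup.eq_of_le_of_card_ge hEQ ?_
    rw [hπdef, ← conjSub_map_mk, card_conjSub, ← card_conjSub x E]
    exact Subgroup.card_le_of_le hx
  refine ⟨Bbar, hBb, hsub, fun Dbar => ⟨fun hD => ?_, ?_⟩⟩
  · obtain ⟨y, rfl⟩ := isDefectGroup_conj_eq hM hBb ⟨k, hk, hkE⟩ hD
    obtain ⟨y, rfl⟩ := QuotientGroup.mk_surjective y
    exact ⟨conjSub y (conjSub z P), isDefectGroup_conjSub hM hQ y, by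
      rw [hEeq, hπdef, conjSub_map_mk]⟩
  · rintro ⟨R, hR, rfl⟩
    obtain ⟨w, rfl⟩ := isDefectGroup_conj_eq hM hB hQ hR
    rw [← conjSub_map_mk, ← hπdef, ← hEeq]
    exact isDefectGroup_conjSub hM ⟨k, hk, hkE⟩ _

end Cfsg.Agent.QuotientDefect
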