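import Cfsg.Agent.Lib.BlocksNormal.Deflate
import Cfsg.Agent.Lib.BlocksNormal.Count
import Cfsg.Agent.Lib.BlocksNormal.Elem
import Cfsg.Agent.Lib.SecondMain.Support
import Cfsg.Agent.Lib.Char.PRegular
import Cfsg.Agent.Lib.Codegree.Basic
import Cfsg.Agent.S0941

/-!
# Characters of defect zero over a central `p`-subgroup

Let `D` be a central `p`-subgroup and `χ` irreducible with `v_p (χ 1) = v_p |G : D|`.
* `sum_regular_eq`: the squared values on the `p`-regular elements sum to `|G| / |D|`.
* `eq_zero_of_notMem`: `χ` vanishes outside `D` times the `p`-regular elements.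
* `exists_trivOn_twist`: a character in the block of `χ`, trivial on `D`, equal to `χ` on regular
  elements.
* `isDefectGroup_central`: `D` is a defect group of the block of `χ`.
-/

set_option autoImplicit false

open scoped ComplexConjugate

namespace Cfsg.Agent.BlocksNormal

open Cfsg Cfsg.Agent.Blocks

variable {G : Type*} [Group G] [Fintype G] {p : ℕ} {M : Ideal AlgInt} {D : Subgroup G}

omit [Fintype G] in
theorem central_mem_centralizer (hDZ : D ≤ Subgroup.center G) (x : G) :
    x ∈ Subgroup.centralizer (D : Set G) :=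
  Subgroup.mem_centralizer_iff.mpr fun _ hu => ((Subgroup.mem_center_iff.mp (hDZ hu)) x).symm

omit [Fintype G] in
theorem normal_of_central (hDZ : D ≤ Subgroup.center G) : D.Normal :=
  ⟨fun u hu g => by rw [Subgroup.mem_center_iff.mp (hDZ hu) g, mul_inv_cancel_right]; exact hu⟩

theorem exp_eq (hp : p.Prime) (χ : IrrCharacter G)
    (hdeg : (charDegree (χ : G → ℂ)).factorization p = D.index.factorization p) {d : ℕ}
    (hd : Nat.card D = p ^ d) :
    (Nat.card G).factorization p - (charDegree (χ : G → ℂ)).factorization p = d := by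
  have h := congrArg (fun k => Nat.factorization k p) D.card_mul_index
  simp only [hd, Nat.factorization_mul (pow_ne_zero d hp.ne_zero) Subgroup.index_ne_zero_of_finite,
    Finsupp.coe_add, Pi.add_apply, hp.factorization_pow, Finsupp.single_eq_same] at h
  omega

open scoped Classical in
theorem sum_regular_eq [Fintype D] (hp : p.Prime) (hD : IsPGroup p D)
    (hDZ : D ≤ Subgroup.center G) (χ : IrrCharacter G)
    (hdeg : (charDegree (χ : G → ℂ)).factorization p = D.index.factorization p) :
    (Nat.card D : ℂ) *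
        ∑ b ∈ Finset.univ.filter (fun x : G => ¬ p ∣ orderOf x),
          (Complex.normSq ((χ : G → ℂ) b) : ℂ) = (Nat.card G : ℂ) ∧
      ∀ g : G, (∀ u : D, p ∣ orderOf (g * u)) → (χ : G → ℂ) g = 0 := by
  haveI : Fact p.Prime := ⟨hp⟩
  obtain ⟨d, hd⟩ := hD.exists_card_eq
  set T := Finset.univ.filter (fun x : G => ¬ p ∣ orderOf x)
  set a := (Nat.card G).factorization p
  have hexp : a - (charDegree (χ : G → ℂ)).factorization p = d := exp_eq hp χ hdeg hd
  have hθ := Char.isGeneralizedCharacter_regularPart (p := p) hp χ.2 (charDegree_cast χ).symm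
  obtain ⟨k, hk⟩ := Char.IsGeneralizedCharacter.classInner_int hθ
    (Char.isGeneralizedCharacter_of_isCharacter (Char.IsIrrCharacter.isCharacter χ.2))
  rw [hexp, ← hd] at hk
  set R : ℝ := ∑ b ∈ T, Complex.normSq ((χ : G → ℂ) b) with hR
  set N : ℝ := (Nat.card D : ℝ) with hN
  have hkR : N * R = (Nat.card G : ℝ) * k := by
    have h1 : ((N * R : ℝ) : ℂ) = (((Nat.card G : ℝ) * k : ℝ) : ℂ) := by
      push_cast
      rw [← hk, classInner, ← mul_assoc, mul_inv_cancel₀ card_ne_zero_C, one_mul, hR, hN]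
      push_cast
      rw [Finset.mul_sum, Finset.sum_filter]
      refine Finset.sum_congr rfl fun g _ => ?_
      by_cases hg : p ∣ orderOf g
      · simp [hg]
      · simp [hg, Complex.mul_conj, mul_assoc]
    exact_mod_cast h1
  have hone : (1 : G) ∈ T := by
    simp [T, hp.one_lt.ne']
  have hR0 : 0 < R := Finset.sum_pos' (fun _ _ => Complex.normSq_nonneg _)
    ⟨1, hone, Complex.normSq_pos.mpr (irr_one_ne_zero χ)⟩
  have hk0 : 0 < k := by
    have h : (0 : ℝ) < (Nat.card G : ℝ) * k :=
      hkR ▸ mul_pos (Nat.cast_pos.mpr Nat.card_pos) hR0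
    exact_mod_cast (mul_pos_iff_of_pos_left (Nat.cast_pos.mpr Nat.card_pos)).mp h
  have hinj : Set.InjOn (fun z : G × D => z.1 * z.2) ↑(T ×ˢ (Finset.univ : Finset D)) := by
    rintro ⟨b, u⟩ hb ⟨b', u'⟩ hb' h
    simp only [Finset.coe_product, Set.mem_prod, Finset.mem_coe, T, Finset.mem_filter,
      Finset.mem_univ, true_and, and_true] at hb hb'
    simp only at h
    have hbb : b = b' := eq_of_regular_of_mem hp hD hb hb' (central_mem_centralizer hDZ b) (by
      have : b⁻¹ * b' = (u : G) * (u' : G)⁻¹ := by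
        rw [inv_mul_eq_iff_eq_mul, ← mul_assoc, h, mul_inv_cancel_right]
      rw [this]
      exact D.mul_mem u.2 (D.inv_mem u'.2))
    subst hbb
    simp only [mul_right_inj, SetLike.coe_eq_coe] at h
    rw [h]
  set S := (T ×ˢ (Finset.univ : Finset D)).image (fun z : G × D => z.1 * z.2)
  have hS : ∑ g ∈ S, Complex.normSq ((χ : G → ℂ) g) = N * R := by
    rw [Finset.sum_image hinj, Finset.sum_product, hR, Finset.mul_sum]
    refine Finset.sum_congr rfl fun b _ => ?_
    have h1 : ∀ u : D, Complex.normSq ((χ : G → ℂ) (b * u)) = Complex.normSq ((χ : G → ℂ) b) := by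
      intro u
      obtain ⟨c, hc, hcu⟩ := SecondMain.exists_central_scalar (hDZ u.2) χ
      rw [Subgroup.mem_center_iff.mp (hDZ u.2) b, hcu, Complex.normSq_mul,
        Complex.normSq_eq_norm_sq c, Complex.norm_eq_one_of_pow_eq_one hc (orderOf_pos _).ne',
        one_pow, one_mul]
    rw [Finset.sum_congr rfl fun u _ => h1 u, Finset.sum_const, Finset.card_univ, nsmul_eq_mul,
      hN, Nat.card_eq_fintype_card]
  have htot : ∑ g : G, Complex.normSq ((χ : G → ℂ) g) = (Nat.card G : ℝ) := by
    have h1 := Char.classInner_irr_self χ.2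
    rw [classInner, inv_mul_eq_one₀ card_ne_zero_C] at h1
    have h2 : ((∑ g : G, Complex.normSq ((χ : G → ℂ) g) : ℝ) : ℂ) = ((Nat.card G : ℝ) : ℂ) := by
      push_cast
      rw [h1]
      exact Finset.sum_congr rfl fun g _ => (Complex.mul_conj _).symm
    exact_mod_cast h2
  have hle : N * R ≤ (Nat.card G : ℝ) := by
    rw [← hS, ← htot]
    exact Finset.sum_le_sum_of_subset_of_nonneg (Finset.subset_univ _)
      fun _ _ _ => Complex.normSq_nonneg _
  have hk1 : k = 1 := by
    have : (k : ℝ) ≤ 1 := by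
      rw [hkR] at hle
      nlinarith [(Nat.cast_pos.mpr Nat.card_pos : (0 : ℝ) < Nat.card G)]
    have : k ≤ 1 := by exact_mod_cast this
    omega
  rw [hk1, Int.cast_one, mul_one] at hkR
  refine ⟨?_, fun g hg => ?_⟩
  · have h : ((N * R : ℝ) : ℂ) = ((Nat.card G : ℝ) : ℂ) := by rw [hkR]
    simpa [hN, hR] using h
  · have hgS : g ∉ S := by
      intro h
      obtain ⟨⟨b, u⟩, hb, rfl⟩ := Finset.mem_image.mp h
      simp only [Finset.mem_product, T, Finset.mem_filter, Finset.mem_univ, true_and, and_true] at hb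
      refine hb ?_
      simpa [mul_assoc] using hg u⁻¹
    have hzero : ∑ x ∈ Finset.univ \ S, Complex.normSq ((χ : G → ℂ) x) = 0 := by
      rw [Finset.sum_sdiff_eq_sub (Finset.subset_univ _), htot, hS, hkR, sub_self]
    exact Complex.normSq_eq_zero.mp ((Finset.sum_eq_zero_iff_of_nonneg
      fun _ _ => Complex.normSq_nonneg _).mp hzero g (by simp [hgS]))

theorem eq_zero_of_notMem (hp : p.Prime) (hD : IsPGroup p D) (hDZ : D ≤ Subgroup.center G)
    (χ : IrrCharacter G)
    (hdeg : (charDegree (χ : G → ℂ)).factorization p = D.index.factorization p) {g x : G}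
    (hx : IsPPart p g x) (hxD : x ∉ D) : (χ : G → ℂ) g = 0 := by
  classical
  refine (sum_regular_eq hp hD hDZ χ hdeg).2 g fun u => ?_
  by_contra hu
  have hmem : g ^ orderOf (g * u) ∈ D := by
    have h : Commute g (u : G) := Subgroup.mem_center_iff.mp (hDZ u.2) g
    have h1 := pow_orderOf_eq_one (g * u)
    rw [h.mul_pow] at h1
    rw [eq_inv_of_mul_eq_one_left h1]
    exact D.inv_mem (D.pow_mem u.2 _)
  exact hxD (pPart_mem_of_pow_mem hp hD hx hu hmem).1

open scoped Classical in
/-- The twist of `χ` trivial on `D`. -/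
theorem exists_trivOn_twist (hM : IsPModular p M) (hD : IsPGroup p D)
    (hDZ : D ≤ Subgroup.center G) (χ : IrrCharacter G)
    (hdeg : (charDegree (χ : G → ℂ)).factorization p = D.index.factorization p) :
    ∃ ψ : IrrCharacter G, SameBlock M (χ : G → ℂ) (ψ : G → ℂ) ∧
      (∀ u ∈ D, (ψ : G → ℂ) u = (ψ : G → ℂ) 1) ∧
      ∀ b : G, ¬ p ∣ orderOf b → (ψ : G → ℂ) b = (χ : G → ℂ) b := by
  have hp := hM.1
  haveI : Fact p.Prime := ⟨hp⟩
  have := Fintype.ofFinite D
  set r : G → ℂ := fun x => if p ∣ orderOf x then 0 else (χ : G → ℂ) x with hr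
  let f : G → ℂ := fun g => ∑ u : D, r (g * u)
  have hcm : ∀ (g : G) (u : D), g * u = u * g := fun g u => Subgroup.mem_center_iff.mp (hDZ u.2) g
  have huniq : ∀ (g : G) (u v : D), ¬ p ∣ orderOf (g * u) → ¬ p ∣ orderOf (g * v) → u = v := by
    intro g u v hu hv
    have h := eq_of_regular_of_mem hp hD hu hv (central_mem_centralizer hDZ _)
      (by
        have e : (g * u)⁻¹ * (g * v) = (u : G)⁻¹ * v := by group
        rw [e]
        exact D.mul_mem (D.inv_mem u.2) v.2)
    exact Subtype.ext (mul_left_cancel h)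
  have hfreg : ∀ b : G, ¬ p ∣ orderOf b → f b = (χ : G → ℂ) b := by
    intro b hb
    show ∑ u : D, r (b * u) = _
    rw [Finset.sum_eq_single (1 : D)]
    · simp [hr, hb]
    · intro u _ hu
      simp only [hr]
      rw [if_pos]
      by_contra hbu
      exact hu (huniq b u 1 hbu (by simpa using hb))
    · simp
  have hfD : ∀ (g : G) (v : D), f (g * v) = f g := by
    intro g v
    refine Fintype.sum_equiv (Equiv.mulLeft v) _ _ fun u => ?_
    rw [Equiv.coe_mulLeft, Subgroup.coe_mul, ← mul_assoc]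
  have hcl : IsClassFunction G f := by
    intro g h
    refine Finset.sum_congr rfl fun u _ => ?_
    have e : h * g * h⁻¹ * u = h * (g * u) * h⁻¹ := by
      rw [mul_assoc (h * g), hcm h⁻¹ u]; group
    simp only [hr, e, show orderOf (h * (g * u) * h⁻¹) = orderOf (g * u) from
      orderOf_injective (MulAut.conj h).toMonoidHom (MulAut.conj h).injective _, irr_class χ (g * u) h]
  have hinner : ∀ η : IrrCharacter G, classInner f (η : G → ℂ) =
      (Nat.card G : ℂ)⁻¹ * ∑ b : G, r b * ∑ u : D, conj ((η : G → ℂ) (b * (u : G)⁻¹)) := by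
    intro η
    rw [classInner]
    congr 1
    simp only [f, Finset.sum_mul, Finset.mul_sum]
    rw [Finset.sum_comm]
    conv_rhs => rw [Finset.sum_comm]
    refine Finset.sum_congr rfl fun u _ => ?_
    refine Fintype.sum_equiv (Equiv.mulRight (u : G)) _ _ fun g => ?_
    simp
  obtain ⟨d, hd⟩ := hD.exists_card_eq
  have hexp := exp_eq hp χ hdeg hd
  have hθ := Char.isGeneralizedCharacter_regularPart (p := p) hp χ.2 (charDegree_cast χ).symm
  have hgen : IsGeneralizedCharacter G f := by
    refine Char.isGeneralizedCharacter_iff_classInner.mpr ⟨hcl, fun η => ?_⟩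
    by_cases hη : ∀ u ∈ D, (η : G → ℂ) u = (η : G → ℂ) 1
    · obtain ⟨k, hk⟩ := Char.IsGeneralizedCharacter.classInner_int hθ
        (Char.isGeneralizedCharacter_of_isCharacter (Char.IsIrrCharacter.isCharacter η.2))
      refine ⟨k, ?_⟩
      rw [← hk, hinner, hexp, classInner, ← hd]
      congr 1
      refine Finset.sum_congr rfl fun b _ => ?_
      have hsum : ∀ u : D, (η : G → ℂ) (b * (u : G)⁻¹) = (η : G → ℂ) b := fun u => by
        rw [← Subgroup.coe_inv, hcm]
        exact TwoClassChar.ker_mul η.2 (hη _ (u⁻¹).2) b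
      simp only [hsum, Finset.sum_const, Finset.card_univ, nsmul_eq_mul, hr, Nat.card_eq_fintype_card]
      split_ifs <;> ring
    · refine ⟨0, ?_⟩
      haveI : D.Normal := normal_of_central hDZ
      have h0 : ∑ u : D, (η : G → ℂ) u = 0 :=
        Codegree.sum_normal_eq_zero η D fun hle => hη fun u hu => hle hu
      rw [hinner, Int.cast_zero]
      refine mul_eq_zero_of_right _ (Finset.sum_eq_zero fun b _ => mul_eq_zero_of_right _ ?_)
      rw [← map_sum]
      have hb : ∀ u : D, (η : G → ℂ) (b * (u : G)⁻¹) * (η : G → ℂ) 1 =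
          (η : G → ℂ) b * (η : G → ℂ) ((u⁻¹ : D) : G) := by
        intro u
        obtain ⟨c, -, hc⟩ := SecondMain.exists_central_scalar (hDZ (u⁻¹ : D).2) η
        have h1 := hc 1
        rw [mul_one] at h1
        rw [← Subgroup.coe_inv, hcm, hc, h1]
        ring
      have h2 : (∑ u : D, (η : G → ℂ) (b * (u : G)⁻¹)) * (η : G → ℂ) 1 = 0 := by
        rw [Finset.sum_mul, Finset.sum_congr rfl fun u _ => hb u, ← Finset.mul_sum,
          Fintype.sum_equiv (Equiv.inv D) (fun u : D => (η : G → ℂ) ((u⁻¹ : D) : G))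
            (fun u : D => (η : G → ℂ) u) (fun u => rfl), h0, mul_zero]
      rw [(mul_eq_zero.mp h2).resolve_right (irr_one_ne_zero η), map_zero]
  have hnorm : classInner f f = 1 := by
    have hsq : ∀ g : G, f g * conj (f g) = ∑ u : D, r (g * u) * conj (r (g * u)) := by
      intro g
      simp only [f, map_sum, Finset.sum_mul, Finset.mul_sum]
      refine Finset.sum_congr rfl fun u _ => Finset.sum_eq_single u (fun v _ hvu => ?_) (by simp)
      simp only [hr]
      by_cases h1 : p ∣ orderOf (g * u)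
      · simp [h1]
      · by_cases h2 : p ∣ orderOf (g * v)
        · simp [h2]
        · exact absurd (huniq g v u h2 h1) hvu
    rw [classInner, Finset.sum_congr rfl fun g _ => hsq g, Finset.sum_comm,
      Finset.sum_congr rfl fun (u : D) _ =>
        Fintype.sum_equiv (Equiv.mulRight (u : G)) (fun g => r (g * u) * conj (r (g * u)))
          (fun b => r b * conj (r b)) (fun g => rfl),
      Finset.sum_const, Finset.card_univ, nsmul_eq_mul, inv_mul_eq_one₀ card_ne_zero_C,
      ← Nat.card_eq_fintype_card (α := D), ← (sum_regular_eq hp hD hDZ χ hdeg).1, Finset.sum_filter]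
    congr 1
    refine Finset.sum_congr rfl fun b _ => ?_
    simp only [hr]
    split_ifs <;> simp [Complex.mul_conj]
  obtain ⟨ψ, hψ, hsign⟩ := Char.IsGeneralizedCharacter.exists_irr_of_norm_one hgen hnorm
  have hf1 := hfreg 1 (by simpa using hp.one_lt.ne')
  have hfψ : f = ψ := by
    rcases hsign with h | h
    · exact h
    · exfalso
      obtain ⟨n, hn⟩ := Char.IsCharacter.exists_degree (Char.IsIrrCharacter.isCharacter hψ)
      rw [h, Pi.neg_apply, hn, ← charDegree_cast] at hf1
      have h2 : ((n + charDegree (χ : G → ℂ) : ℕ) : ℂ) = 0 := by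
        push_cast
        rw [← hf1]
        ring
      have := charDegree_pos χ
      have := Nat.cast_eq_zero.mp h2
      omega
  have hreg : ∀ b : G, ¬ p ∣ orderOf b → ψ b = (χ : G → ℂ) b := fun b hb => hfψ ▸ hfreg b hb
  refine ⟨⟨ψ, hψ⟩, ?_, fun u hu => ?_, hreg⟩
  · set B := blockOf M (χ : G → ℂ)
    have hB : IsPBlock M B := ⟨χ, rfl⟩
    by_contra hne
    have key : omega ψ (blockCoeff B) = omega (χ : G → ℂ) (blockCoeff B) := by
      rw [omega_eq_sum, omega_eq_sum, hreg 1 (by simpa using hp.one_lt.ne')]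
      congr 1
      refine Finset.sum_congr rfl fun g _ => ?_
      by_cases hg : p ∣ orderOf g
      · rw [blockCoeff_eq_ofOmega, ofOmega_singular_eq_zero hM (blockInd_mem_intRing hM hB) hg,
          zero_mul, zero_mul]
      · rw [hreg g hg]
    rw [blockCoeff_eq_ofOmega, omega_ofOmega (blockInd B) ⟨ψ, hψ⟩, omega_ofOmega,
      blockInd_of_mem (mem_blockOf_self hM χ),
      blockInd_of_notMem (show (⟨ψ, hψ⟩ : IrrCharacter G) ∉ B from hne)] at key
    exact zero_ne_one key
  · show ψ u = ψ 1
    rw [← hfψ]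
    have := hfD 1 ⟨u, hu⟩
    rwa [one_mul] at this

open scoped Classical in
theorem isDefectGroup_central (hM : IsPModular p M) (hD : IsPGroup p D)
    (hDZ : D ≤ Subgroup.center G) (χ : IrrCharacter G)
    (hdeg : (charDegree (χ : G → ℂ)).factorization p = D.index.factorization p) :
    IsDefectGroup p M (blockOf M (χ : G → ℂ)) D := by
  have hp := hM.1
  haveI : Fact p.Prime := ⟨hp⟩
  haveI : D.Normal := normal_of_central hDZ
  have := Fintype.ofFinite D
  have := Fintype.ofFinite (IrrCharacter G)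
  set B := blockOf M (χ : G → ℂ)
  have hB : IsPBlock M B := ⟨χ, rfl⟩
  obtain ⟨ψ, hψB, hψD, hψreg⟩ := exists_trivOn_twist hM hD hDZ χ hdeg
  obtain ⟨E, hE⟩ := exists_isDefectGroup hM hB
  have hDE : D ≤ E := normal_le_defectGroup hM hD hB hE
  suffices hcard : Nat.card E ≤ Nat.card D by
    rwa [Subgroup.eq_of_le_of_card_ge hDE hcard]
  obtain ⟨g, hg, hgE⟩ := hE
  have hreg := pRegular_of_blockCoeff hM hB hg.2.1
  obtain ⟨φ, hφ⟩ := CentralChar.exists_deflation D ψ hψD
  obtain ⟨d, hd⟩ := hD.exists_card_eq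
  set c := D.index.factorization p
  obtain ⟨m, hm, hmD⟩ : ∃ m, ¬ p ∣ m ∧ D.index = p ^ c * m :=
    ⟨_, Nat.not_dvd_ordCompl hp Subgroup.index_ne_zero_of_finite,
      (Nat.ordProj_mul_ordCompl_eq_self _ p).symm⟩
  have hψdeg : charDegree (ψ : G → ℂ) = charDegree (χ : G → ℂ) :=
    charDegree_congr (hψreg 1 (by simpa using hp.one_lt.ne'))
  obtain ⟨n, hn, hnψ⟩ : ∃ n, ¬ p ∣ n ∧ charDegree (ψ : G → ℂ) = p ^ c * n :=
    ⟨_, Nat.not_dvd_ordCompl hp (charDegree_pos ψ).ne', by
      rw [← hdeg, ← hψdeg, Nat.ordProj_mul_ordCompl_eq_self]⟩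
  have hsing : blockOf M (φ : G ⧸ D → ℂ) = {φ} := by
    refine (singleton_iff_not_dvd hM φ).mp ?_
    rw [← charDegree_congr (χ := (ψ : G → ℂ)) (hφ 1), hnψ, ← Subgroup.index_eq_card, hmD,
      Nat.mul_div_mul_left _ _ (pow_pos hp.pos c)]
    exact fun h => hm (dvd_trans h (Nat.div_dvd_of_dvd (by
      have h1 := Blocks.charDegree_dvd_card φ
      rw [← charDegree_congr (χ := (ψ : G → ℂ)) (hφ 1), hnψ, ← Subgroup.index_eq_card, hmD] at h1
      exact Nat.dvd_of_mul_dvd_mul_left (pow_pos hp.pos c) h1)))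
  have hone : ∀ η ∈ B, (∀ u ∈ D, (η : G → ℂ) u = (η : G → ℂ) 1) → η = ψ := by
    intro η hη hηD
    obtain ⟨φ', hφ'⟩ := CentralChar.exists_deflation D η hηD
    have hs : SameBlock M (ψ : G → ℂ) (η : G → ℂ) :=
      sameBlock_trans hM (sameBlock_symm hψB) hη
    rw [funext hφ, funext hφ'] at hs
    have h1 : φ' ∈ blockOf M (φ : G ⧸ D → ℂ) :=
      ((S0941.result p M hM D hD ⟨0, by
        rw [pow_zero, Subgroup.index_eq_one, eq_top_iff]
        exact fun x _ => central_mem_centralizer hDZ x⟩).1 φ φ').mpr hs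
    rw [hsing, Set.mem_singleton_iff] at h1
    subst h1
    exact Subtype.ext (funext fun x => (hφ' x).trans (hφ x).symm)
  have hcoef : blockCoeff B g =
      (Nat.card D : ℂ) * (Nat.card G : ℂ)⁻¹ * (ψ : G → ℂ) 1 * conj ((ψ : G → ℂ) g) := by
    have hsum : ∑ u : D, blockCoeff B (g * u) = blockCoeff B g := by
      rw [Finset.sum_eq_single (1 : D)]
      · simp
      · intro u _ hu
        rw [blockCoeff_eq_ofOmega]
        refine ofOmega_singular_eq_zero hM (blockInd_mem_intRing hM hB) ?_
        by_contra hgu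
        have h := eq_of_regular_of_mem hp hD hreg hgu (central_mem_centralizer hDZ g)
          (by rw [inv_mul_cancel_left]; exact u.2)
        exact hu (Subtype.ext (mul_eq_left.mp h.symm))
      · simp
    rw [← hsum]
    simp only [blockCoeff, ← Finset.mul_sum, finsum_mem_eq_toFinset_sum]
    rw [Finset.sum_comm, Finset.sum_eq_single ψ]
    · have hval : ∀ u : D, (ψ : G → ℂ) (g * u) = (ψ : G → ℂ) g := fun u => by
        rw [Subgroup.mem_center_iff.mp (hDZ u.2) g]
        exact TwoClassChar.ker_mul ψ.2 (hψD _ u.2) g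
      simp only [hval, Finset.sum_const, Finset.card_univ, nsmul_eq_mul, Nat.card_eq_fintype_card]
      ring
    · intro η hη hne
      have hnt : ¬ D ≤ Codegree.kerSub η := fun hle => hne (hone η (Set.mem_toFinset.mp hη) fun u hu => hle hu)
      have h0 := Codegree.sum_normal_eq_zero η D hnt
      rw [← Finset.mul_sum, ← map_sum]
      have hb : ∀ u : D, (η : G → ℂ) (g * u) * (η : G → ℂ) 1 = (η : G → ℂ) g * (η : G → ℂ) u := by
        intro u
        obtain ⟨c, -, hc⟩ := SecondMain.exists_central_scalar (hDZ u.2) η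
        have h1 := hc 1
        rw [mul_one] at h1
        rw [Subgroup.mem_center_iff.mp (hDZ u.2) g, hc, h1]
        ring
      have h2 : (∑ u : D, (η : G → ℂ) (g * u)) * (η : G → ℂ) 1 = 0 := by
        rw [Finset.sum_mul, Finset.sum_congr rfl fun u _ => hb u, ← Finset.mul_sum, h0, mul_zero]
      rw [(mul_eq_zero.mp h2).resolve_right (irr_one_ne_zero η), map_zero, mul_zero]
    · exact fun h => absurd (Set.mem_toFinset.mpr hψB) h
  set C := Subgroup.centralizer ({g} : Set G)
  have hm0 : (m : ℂ) ≠ 0 := Nat.cast_ne_zero.mpr fun h => hm (h ▸ dvd_zero p)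
  have hn0 : (n : ℂ) ≠ 0 := Nat.cast_ne_zero.mpr fun h => hn (h ▸ dvd_zero p)
  have hpc : (p : ℂ) ^ c ≠ 0 := pow_ne_zero _ (Nat.cast_ne_zero.mpr hp.ne_zero)
  have hD0 : (Nat.card D : ℂ) ≠ 0 := Nat.cast_ne_zero.mpr Nat.card_pos.ne'
  have hψ1 : (ψ : G → ℂ) 1 = (p : ℂ) ^ c * n := by rw [← charDegree_cast, hnψ]; push_cast; ring
  have hG : (Nat.card G : ℂ) = (Nat.card D : ℂ) * ((p : ℂ) ^ c * m) := by
    rw [← Subgroup.card_mul_index D, hmD]; push_cast; ring
  have hunit : ¬ MemLocalIdeal M ((ψ : G → ℂ) g⁻¹) := by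
    intro hI
    refine hg.2.1 ?_
    rw [hcoef, ← Char.IsCharacter.apply_inv (Char.IsIrrCharacter.isCharacter ψ.2), hψ1, hG,
      show (Nat.card D : ℂ) * ((Nat.card D : ℂ) * ((p : ℂ) ^ c * m))⁻¹ * ((p : ℂ) ^ c * n) *
        (ψ : G → ℂ) g⁻¹ = (n : ℂ) * (m : ℂ)⁻¹ * (ψ : G → ℂ) g⁻¹ by field_simp]
    exact memI_mul_left hM (memR_mul hM (memR_natCast hM n) (memR_natCast_inv hM hm)) hI
  have hCeq : Subgroup.centralizer ({g⁻¹} : Set G) = C := by
    ext x
    simp only [C, mem_centralizer_singleton]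
    exact Commute.inv_right_iff
  have hdvd : p ^ c ∣ C.index := by
    refine dvd_of_memR_div hM ?_
    have h : (C.index : ℂ) / (p : ℂ) ^ c =
        centralChar (ψ : G → ℂ) g⁻¹ * ((n : ℂ) * ((ψ : G → ℂ) g⁻¹)⁻¹) := by
      rw [centralChar, hCeq, hψ1]
      have := ne_zero_of_not_memI hM hunit
      field_simp
    rw [h]
    exact memR_mul hM (memR_centralChar hM ψ _) (memR_mul hM (memR_natCast hM n)
      (memR_inv hM (memR_of_isIntegral hM (isIntegral_irr ψ _)) hunit))
  rw [sylowIn_card hgE, hd]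
  refine Nat.pow_le_pow_right hp.pos ?_
  have h1 := (hp.pow_dvd_iff_le_factorization Subgroup.index_ne_zero_of_finite).mp hdvd
  have h2 : (Nat.card C).factorization p + C.index.factorization p =
      d + c := by
    have e1 := congrArg (fun k => Nat.factorization k p) (C.card_mul_index)
    have e2 := congrArg (fun k => Nat.factorization k p) (D.card_mul_index)
    simp only [Nat.factorization_mul Nat.card_pos.ne' Subgroup.index_ne_zero_of_finite,
      Finsupp.coe_add, Pi.add_apply] at e1 e2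
    rw [e1, ← e2, hd]
    simp [hp.factorization_self, c]
  omega

end Cfsg.Agent.BlocksNormal
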