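import Cfsg.Agent.Lib.BlocksNormal.Elem

/-!
# Central elements of defect groups under induction of blocks

* `centralChar_mul_not_memI`: if `g` is a defect class representative for the defect group `P` and
  `x` lies in the centre of `P`, the central characters at `x * g` are units.
* `centre_fusion`: the centre of a defect group of an induced block fuses into that of the
  inducing block.
-/

set_option autoImplicit false

open scoped ComplexConjugate

namespace Cfsg.Agent.BlocksNormal

open Cfsg Cfsg.Agent.Blocks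

variable {G : Type*} [Group G] [Finite G] {p : ℕ} {M : Ideal AlgInt}

theorem centralChar_mul_not_memI [Fact p.Prime] (hM : IsPModular p M) {B : Set (IrrCharacter G)}
    (hB : IsPBlock M B) {P : Subgroup G} {g : G} (hg : IsDefectClass M B g)
    (hgP : SylowIn p (Subgroup.centralizer ({g} : Set G)) P) {x : G} (hx : x ∈ P)
    (hxc : ∀ w ∈ P, x * w = w * x) {χ : IrrCharacter G} (hχ : χ ∈ B) :
    ¬ MemLocalIdeal M (centralChar (χ : G → ℂ) (x * g)) := by
  classical
  have hp : p.Prime := Fact.out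
  have hPD : IsDefectGroup p M B P := ⟨g, hg, hgP⟩
  have hPp := sylowIn_isPGroup hgP
  obtain ⟨b, hb, hbD, hind⟩ := first_main_exists hM hPp hB hPD
  set N := Subgroup.normalizer (P : Set G) with hN
  set Q := P.subgroupOf N with hQdef
  have hPN : P ≤ N := Subgroup.le_normalizer
  haveI : Q.Normal := Subgroup.normal_in_normalizer
  have hQp : IsPGroup p Q := hPp.of_equiv (Subgroup.subgroupOfEquivOfLe hPN).symm
  obtain ⟨ψ, hψ, hψQ⟩ := exists_mem_trivOn hM hb Q hQp
  obtain ⟨φ, hφ⟩ := CentralChar.exists_deflation Q ψ hψQ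
  have hgC : g ∈ Subgroup.centralizer (P : Set G) := le_centralizer_singleton.mp (sylowIn_le hgP)
  have hxC : x ∈ Subgroup.centralizer (P : Set G) :=
    Subgroup.mem_centralizer_iff.mpr fun w hw => (hxc w hw).symm
  have hcomm : Commute x g := Subgroup.mem_centralizer_iff.mp hgC x hx
  have hreg := pRegular_of_blockCoeff hM hB hg.2.1
  obtain ⟨k, hk⟩ := IsPGroup.iff_orderOf.mp hPp ⟨x, hx⟩
  rw [← Subgroup.orderOf_coe] at hk
  have hco : (orderOf g).Coprime (orderOf x) := by
    rw [hk]
    exact ((hp.coprime_iff_not_dvd.mpr hreg).pow_left k).symm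
  have hgz : g ∈ Subgroup.zpowers (x * g) := hcomm.eq ▸ mem_zpowers_mul hcomm.symm hco
  have hle : Subgroup.centralizer ({x * g} : Set G) ≤ Subgroup.centralizer ({g} : Set G) := by
    intro u hu
    obtain ⟨i, hi⟩ := Subgroup.mem_zpowers_iff.mp hgz
    rw [mem_centralizer_singleton, ← hi]
    exact (Commute.zpow_right (mem_centralizer_singleton.mp hu) i).eq
  have hPxg : SylowIn p (Subgroup.centralizer ({x * g} : Set G)) P :=
    sylowIn_iff.mpr ⟨le_centralizer_singleton.mpr (Subgroup.mul_mem _ hxC hgC), hPp,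
      fun R hR hRp hPR => (sylowIn_iff.mp hgP).2.2 R (hR.trans hle) hRp hPR⟩
  have hgN : g ∈ N := Subgroup.centralizer_le_normalizer _ hgC
  have hcong : ∀ r : N, SylowIn p (Subgroup.centralizer ({(r : G)} : Set G)) P →
      MemLocalIdeal M (centralChar (ψ : N → ℂ) r - centralChar (χ : G → ℂ) (r : G)) := by
    intro r hr
    rw [← brauerCentralChar_eq_centralChar hM hr ψ]
    exact memI_sub_trans hM
      (memI_sub_comm (inducedCentralChar_congr_brauer hM hPp hPN le_rfl ψ (r : G)))
      (hind.2.2 ψ hψ χ hχ (r : G))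
  set g' : N := ⟨g, hgN⟩
  set x' : N := ⟨x, hPN hx⟩
  have h1 : ¬ MemLocalIdeal M (centralChar (ψ : N → ℂ) g') := fun hI =>
    hg.2.2 χ hχ ((memI_iff_of_sub hM (hcong g' hgP)).mp hI)
  have hval : (ψ : N → ℂ) (x' * g') = (ψ : N → ℂ) g' := by
    rw [hφ, hφ]
    congr 1
    rw [QuotientGroup.mk_mul, (QuotientGroup.eq_one_iff x').mpr (Subgroup.mem_subgroupOf.mpr hx),
      one_mul]
  set C1 := Subgroup.centralizer ({x' * g'} : Set N) with hC1
  set C2 := Subgroup.centralizer ({g'} : Set N) with hC2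
  have hC : C1 ≤ C2 := fun u hu => by
    rw [mem_centralizer_singleton]
    refine Subtype.ext (mem_centralizer_singleton.mp (hle ?_))
    exact mem_centralizer_singleton.mpr (congrArg Subtype.val (mem_centralizer_singleton.mp hu))
  have hk' : ¬ p ∣ C1.relIndex C2 := by
    intro hd
    have hP1 : Nat.card P ∣ Nat.card C1 := by
      rw [← Nat.card_congr (Subgroup.subgroupOfEquivOfLe hPN).toEquiv]
      refine Subgroup.card_dvd_of_le fun u hu => ?_
      rw [mem_centralizer_singleton]
      exact Subtype.ext (mem_centralizer_singleton.mp (sylowIn_le hPxg hu))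
    have hP2 : Nat.card C2 ∣ Nat.card (Subgroup.centralizer ({g} : Set G)) := by
      rw [← Subgroup.card_map_of_injective (K := C2) N.subtype_injective]
      refine Subgroup.card_dvd_of_le ?_
      rintro _ ⟨u, hu, rfl⟩
      exact mem_centralizer_singleton.mpr (congrArg Subtype.val (mem_centralizer_singleton.mp hu))
    have hrel : C1.relIndex C2 * Nat.card C1 = Nat.card C2 := by
      rw [← Nat.card_congr (Subgroup.subgroupOfEquivOfLe hC).toEquiv, Subgroup.relIndex,
        Subgroup.index_mul_card]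
    have h2 : p * Nat.card P ∣ Nat.card (Subgroup.centralizer ({g} : Set G)) :=
      dvd_trans (mul_dvd_mul hd hP1) (hrel ▸ hP2)
    rw [sylowIn_card hgP, mul_comm, ← pow_succ] at h2
    have := (hp.pow_dvd_iff_le_factorization Nat.card_pos.ne').mp h2
    omega
  intro hI
  have h3 : centralChar (ψ : N → ℂ) (x' * g') =
      (C1.relIndex C2 : ℂ) * centralChar (ψ : N → ℂ) g' := by
    rw [centralChar, centralChar, hval, ← Subgroup.relIndex_mul_index hC]
    push_cast
    ring
  refine not_memI_mul hM (memR_natCast hM _) (memR_centralChar hM ψ g') (not_memI_natCast hM hk')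
    h1 ?_
  rw [← h3]
  exact (memI_iff_of_sub hM (hcong (x' * g') hPxg)).mpr hI

/-- The centre of a defect group of `b^G` fuses into the centre of one of `b`. -/
theorem centre_fusion [Fact p.Prime] (hM : IsPModular p M) {H : Subgroup G}
    {b : Set (IrrCharacter H)} {B : Set (IrrCharacter G)} (hind : IsInducedBlock M H b B)
    {D : Subgroup H} (hD : IsDefectGroup p M b D) {P : Subgroup G}
    (hP : IsDefectGroup p M B P) {x : G} (hx : x ∈ P) (hxc : ∀ w ∈ P, x * w = w * x) :
    ∃ g : G, g * x * g⁻¹ ∈ D.map H.subtype ∧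
      ∀ w ∈ D.map H.subtype, (g * x * g⁻¹) * w = w * (g * x * g⁻¹) := by
  classical
  have hp : p.Prime := Fact.out
  obtain ⟨g, hg, hgP⟩ := hP
  obtain ⟨χ, hχ⟩ := isPBlock_nonempty hM hind.2.1
  obtain ⟨ξ, hξ⟩ := isPBlock_nonempty hM hind.1
  have hu := centralChar_mul_not_memI hM hind.2.1 hg hgP hx hxc hχ
  obtain ⟨r, hr, hr'⟩ := exists_centralChar_not_memI_of_induced hM ξ
    (fun hI => hu ((memI_iff_of_sub hM (hind.2.2 ξ hξ χ hχ (x * g))).mp hI))
  obtain ⟨r', hr'', hr'C, m, hm, hrm⟩ := exists_normalizer_correspondent hM hind.1 hD hξ hr'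
  obtain ⟨c, hc⟩ := isConj_iff.mp
    (hr.trans (MonoidHom.map_isConj H.subtype hr'' : IsConj (r : G) (r' : G)))
  have hgC : g ∈ Subgroup.centralizer (P : Set G) := le_centralizer_singleton.mp (sylowIn_le hgP)
  have hcomm : Commute x g := Subgroup.mem_centralizer_iff.mp hgC x hx
  have hreg := pRegular_of_blockCoeff hM hind.2.1 hg.2.1
  obtain ⟨k, hk⟩ := IsPGroup.iff_orderOf.mp (sylowIn_isPGroup hgP) ⟨x, hx⟩
  rw [← Subgroup.orderOf_coe] at hk
  set x₁ := c * x * c⁻¹
  set g₁ := c * g * c⁻¹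
  have hr1 : (r' : G) = x₁ * g₁ := hc.symm.trans (by simp only [x₁, g₁]; group)
  have hc1 : Commute x₁ g₁ := hcomm.map (MulAut.conj c).toMonoidHom
  have ho1 : orderOf x₁ = p ^ k := by
    rw [← hk]
    exact orderOf_injective (MulAut.conj c).toMonoidHom (MulAut.conj c).injective x
  have ho2 : ¬ p ∣ orderOf g₁ := by
    rwa [show orderOf g₁ = orderOf g from
      orderOf_injective (MulAut.conj c).toMonoidHom (MulAut.conj c).injective g]
  have hx1 : x₁ ∈ H := by
    refine Subgroup.zpowers_le.mpr (hr1 ▸ r'.2) (mem_zpowers_mul hc1 ?_)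
    rw [ho1]
    exact (hp.coprime_iff_not_dvd.mpr ho2).pow_left k
  have hg1 : g₁ ∈ H := by
    have h := Subgroup.mul_mem H (Subgroup.inv_mem H hx1) (hr1 ▸ r'.2)
    rwa [inv_mul_cancel_left] at h
  have hpp : IsPPart p r' ⟨x₁, hx1⟩ :=
    ⟨⟨g₁, hg1⟩, Subtype.ext hr1.symm, Subtype.ext hc1.eq,
      ⟨k, by rw [← Subgroup.orderOf_coe]; exact ho1⟩, by rwa [← Subgroup.orderOf_coe]⟩
  obtain ⟨hz1, hz2⟩ := pPart_mem_of_pow_mem hp (isPGroup_defectGroup hM hD) hpp hm hrm
  refine ⟨c, ⟨⟨x₁, hx1⟩, hz1, rfl⟩, ?_⟩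
  rintro _ ⟨w, hw, rfl⟩
  have h := Subgroup.mem_centralizer_iff.mp
    (Subgroup.zpowers_le.mpr (pow_mem hr'C m) hz2) w hw
  exact (congrArg Subtype.val h).symm

end Cfsg.Agent.BlocksNormal
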