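import Cfsg.Agent.Lib.Blocks.Defect
import Cfsg.Agent.Lib.Blocks.Induced
import Cfsg.Agent.Lib.BrauerPairs.StableBlock
import Cfsg.Agent.Lib.BlocksNormal.Deflate
import Cfsg.Agent.Lib.Coprime.Frattini
import Cfsg.Agent.Lib.PGroup.Basic
import Cfsg.Agent.Lib.Char.Brauer
import Cfsg.Agent.Lib.CentralChar.Twist

/-!
# Blocks of the quotient by the derived subgroup of a normal `p`-subgroup

* `sameBlock_of_congr_regular`: blocks are told apart by the `p`-regular classes in the centraliser
  of a normal `p`-subgroup;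
* `centralizer_index_eq`: for such an element the class upstairs and downstairs have one size.
-/

set_option autoImplicit false

namespace Cfsg.Agent.DerivedQuotient

open Cfsg Cfsg.Agent.Blocks

variable {G : Type*} [Group G] [Finite G] {p : ℕ} [Fact p.Prime] {M : Ideal AlgInt}

theorem sameBlock_of_congr_regular (hM : IsPModular p M) (Q : Subgroup G) [Q.Normal]
    (hQ : IsPGroup p Q) (χ ψ : IrrCharacter G)
    (h : ∀ g : G, ¬ p ∣ orderOf g → g ∈ Subgroup.centralizer (Q : Set G) →
      MemLocalIdeal M (centralChar (χ : G → ℂ) g - centralChar (ψ : G → ℂ) g)) :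
    SameBlock M (χ : G → ℂ) (ψ : G → ℂ) := by
  classical
  have := Fintype.ofFinite G
  have := Fintype.ofFinite (ConjClasses G)
  have hB := isPBlock_blockOf hM χ
  set B := blockOf M (χ : G → ℂ) with hBdef
  have hsum : ∀ θ : IrrCharacter G, blockInd B θ = ∑ q : ConjClasses G,
      blockCoeff B (Quotient.out q) * centralChar (θ : G → ℂ) (Quotient.out q) := by
    intro θ
    have h1 := omega_ofOmega (blockInd B) θ
    rw [← blockCoeff_eq_ofOmega, omega_eq_sum_classes (Blocks.isClassFunction_blockCoeff _)] at h1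
    exact h1.symm
  have hdiff : MemLocalIdeal M (blockInd B χ - blockInd B ψ) := by
    rw [hsum, hsum, ← Finset.sum_sub_distrib]
    refine memI_sum hM _ fun q _ => ?_
    rw [← mul_sub]
    by_cases hq : MemLocalIdeal M (blockCoeff B (Quotient.out q))
    · exact memI_mul_right hM hq (memR_sub hM (Blocks.memR_centralChar hM χ _)
        (Blocks.memR_centralChar hM ψ _))
    · refine memI_mul_left hM (Blocks.memR_blockCoeff hM hB _)
        (h _ (pRegular_of_blockCoeff hM hB hq) ?_)
      by_contra hC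
      exact hq (BrauerPairs.blockCoeff_eq_zero_of_normal hM hQ hB hC ▸ memI_zero hM)
  by_contra hne
  rw [blockInd_of_mem (mem_blockOf_self hM χ), blockInd_of_notMem (show ψ ∉ B from hne),
    sub_zero] at hdiff
  exact not_memI_one hM hdiff

omit [Fact p.Prime] in
/-- If `g` centralises the normal subgroup `W` of order prime to that of `g`, the class of `g` is as
large as that of its image. -/
theorem centralizer_index_eq (W : Subgroup G) [W.Normal] {g : G}
    (hg : g ∈ Subgroup.centralizer (W : Set G))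
    (hcop : ∀ w ∈ W, (orderOf g).Coprime (orderOf w)) :
    (Subgroup.centralizer ({(g : G ⧸ W)} : Set (G ⧸ W))).index =
      (Subgroup.centralizer ({g} : Set G)).index := by
  rw [← Subgroup.index_comap_of_surjective _ (QuotientGroup.mk'_surjective W)]
  congr 1
  ext x
  simp only [Subgroup.mem_comap, Blocks.mem_centralizer_singleton, QuotientGroup.mk'_apply]
  refine ⟨fun hx => ?_, fun hx => ?_⟩
  · have hw : g⁻¹ * (x * g * x⁻¹) ∈ W := by
      rw [← QuotientGroup.eq_one_iff]
      simp only [QuotientGroup.mk_mul, QuotientGroup.mk_inv]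
      rw [hx]
      group
    have hc : Commute g (g⁻¹ * (x * g * x⁻¹)) := (Subgroup.mem_centralizer_iff.1 hg _ hw).symm
    have h1 := hc.orderOf_mul_eq_mul_orderOf_of_coprime (hcop _ hw)
    rw [mul_inv_cancel_left, show orderOf (x * g * x⁻¹) = orderOf g from
      orderOf_injective (MulAut.conj x).toMonoidHom (MulAut.conj x).injective g] at h1
    have h2 : g⁻¹ * (x * g * x⁻¹) = 1 := orderOf_eq_one_iff.1
      (by nlinarith [orderOf_pos g, orderOf_pos (g⁻¹ * (x * g * x⁻¹))])
    rw [inv_mul_eq_one] at h2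
    exact (mul_inv_eq_iff_eq_mul.1 h2.symm)
  · simpa using congrArg (QuotientGroup.mk' W) hx

theorem sameBlock_iff_comp (hM : IsPModular p M) (D : Subgroup G) [D.Normal] (hD : IsPGroup p D)
    (χ ψ : IrrCharacter (G ⧸ ⁅D, D⁆)) :
    SameBlock M (χ : G ⧸ ⁅D, D⁆ → ℂ) (ψ : G ⧸ ⁅D, D⁆ → ℂ) ↔
      SameBlock M ((χ : G ⧸ ⁅D, D⁆ → ℂ) ∘ QuotientGroup.mk)
        ((ψ : G ⧸ ⁅D, D⁆ → ℂ) ∘ QuotientGroup.mk) := by
  classical
  have := Fintype.ofFinite G
  have := Fintype.ofFinite (G ⧸ ⁅D, D⁆)
  have hp : p.Prime := Fact.out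
  set W := ⁅D, D⁆ with hW
  have hWD : W ≤ D := Subgroup.commutator_le_self D
  refine ⟨fun h => BlocksNormal.sameBlock_comp hM (QuotientGroup.mk'_surjective W) h, fun h => ?_⟩
  refine sameBlock_of_congr_regular hM (D.map (QuotientGroup.mk' W)) (hD.map _) χ ψ fun y hy hyC => ?_
  -- a regular preimage
  obtain ⟨x, rfl⟩ := QuotientGroup.mk_surjective y
  obtain ⟨m, hm1, hm2⟩ := Char.exists_pParts_exponent p (orderOf x) hp (orderOf_pos x).ne'
  have hgy : ((x ^ m : G) : G ⧸ W) = x := by
    rw [QuotientGroup.mk_pow]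
    conv_rhs => rw [← pow_one (x : G ⧸ W)]
    refine pow_eq_pow_iff_modEq.2 (hm2.of_dvd ?_)
    refine (Nat.Coprime.dvd_of_dvd_mul_left (Nat.Coprime.pow_right ((orderOf x).factorization p)
      (hp.coprime_iff_not_dvd.2 hy).symm) ?_)
    rw [Nat.mul_div_cancel' (Nat.ordProj_dvd _ p)]
    exact orderOf_map_dvd (QuotientGroup.mk' W) x
  have hgreg : ¬ p ∣ orderOf (x ^ m) := by
    intro hdvd
    refine Nat.not_dvd_ordCompl hp (orderOf_pos x).ne' (hdvd.trans ?_)
    rw [orderOf_dvd_iff_pow_eq_one, ← pow_mul, ← orderOf_dvd_iff_pow_eq_one]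
    obtain ⟨r, rfl⟩ := hm1
    calc orderOf x = p ^ (orderOf x).factorization p *
          (orderOf x / p ^ (orderOf x).factorization p) := (Nat.mul_div_cancel' (Nat.ordProj_dvd _ p)).symm
      _ ∣ _ := mul_dvd_mul_right (dvd_mul_right _ _) _
  have hcop : (Nat.card (Subgroup.zpowers (x ^ m))).Coprime (Nat.card (frattini D)) := by
    rw [Nat.card_zpowers]
    obtain ⟨d, hd⟩ := (hD.to_subgroup (frattini D)).exists_card_eq
    rw [hd]
    exact Nat.Coprime.pow_right _ (hp.coprime_iff_not_dvd.2 hgreg).symm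
  have hgD : x ^ m ∈ Subgroup.centralizer (D : Set G) := by
    refine Coprime.le_centralizer_of_forall_mem_frattini (K := D) (le_top.trans
      (Subgroup.normalizer_eq_top (H := D)).ge) hcop (fun a ha k hk => ?_) (Subgroup.mem_zpowers _)
    have hWF : W ≤ (frattini D).map D.subtype := by
      rw [hW, ← Subgroup.map_subtype_commutator]
      exact Subgroup.map_mono (PGroup.commutator_le_frattini hD)
    refine hWF ?_
    rw [← QuotientGroup.eq_one_iff]
    have ha' : (a : G ⧸ W) ∈ Subgroup.centralizer (D.map (QuotientGroup.mk' W) : Set (G ⧸ W)) := by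
      obtain ⟨i, rfl⟩ := Subgroup.mem_zpowers_iff.1 ha
      rw [QuotientGroup.mk_zpow, hgy]
      exact zpow_mem hyC i
    have h1 := Subgroup.mem_centralizer_iff.1 ha' (k : G ⧸ W) (Subgroup.mem_map_of_mem _ hk)
    simp only [QuotientGroup.mk_mul, QuotientGroup.mk_inv]
    rw [← h1]
    group
  have hgW : x ^ m ∈ Subgroup.centralizer (W : Set G) := Subgroup.centralizer_le hWD hgD
  have hcopW : ∀ w ∈ W, (orderOf (x ^ m)).Coprime (orderOf w) := by
    intro w hw
    obtain ⟨c, hc⟩ := IsPGroup.iff_orderOf.1 hD ⟨w, hWD hw⟩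
    rw [← Subgroup.orderOf_coe] at hc
    rw [show orderOf w = p ^ c from hc]
    exact Nat.Coprime.pow_right _ (hp.coprime_iff_not_dvd.2 hgreg).symm
  have key : ∀ θ : IrrCharacter (G ⧸ W), centralChar (θ : G ⧸ W → ℂ) (x : G ⧸ W) =
      centralChar ((θ : G ⧸ W → ℂ) ∘ QuotientGroup.mk) (x ^ m) := by
    intro θ
    simp only [centralChar, Function.comp_apply]
    rw [hgy, ← centralizer_index_eq W hgW hcopW, hgy, QuotientGroup.mk_one]
  rw [key, key]
  exact h (x ^ m)

omit [Fact p.Prime] in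
theorem exists_inflated_mem (hM : IsPModular p M) (D : Subgroup G) [D.Normal] (hD : IsPGroup p D)
    {B : Set (IrrCharacter G)} (hB : IsPBlock M B) :
    ∃ χ : IrrCharacter (G ⧸ ⁅D, D⁆), ∃ θ ∈ B,
      (θ : G → ℂ) = (χ : G ⧸ ⁅D, D⁆ → ℂ) ∘ QuotientGroup.mk := by
  have hW : IsPGroup p (⁅D, D⁆ : Subgroup G) := hD.to_le (Subgroup.commutator_le_self D)
  obtain ⟨θ, hθ, hker⟩ := BlocksNormal.exists_mem_trivOn hM hB ⁅D, D⁆ hW
  obtain ⟨χ, hχ⟩ := CentralChar.exists_deflation ⁅D, D⁆ θ hker
  exact ⟨χ, θ, hθ, funext hχ⟩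

end Cfsg.Agent.DerivedQuotient
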