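import Cfsg.Agent.Lib.Blocks.CoverDefect
import Cfsg.Agent.Lib.BlocksNormal.ExtFirstMain

/-!
# Blocks above a Brauer correspondent

* `omega_pullIrr`, `blockDefect_image`: transport along isomorphisms.
* `induced_injective`: block induction is injective on blocks of `H ⊇ N(P)` with defect group `P`.
* `cover_of_local`: covering in the normaliser gives covering above.
* `exists_local_cover`: a block covering `d` is induced from a block covering the correspondent.
* `local_cover_unique`: only one.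
-/

set_option autoImplicit false
set_option linter.unusedSectionVars false

open scoped ComplexConjugate

namespace Cfsg.Agent.HarrisKnorr

open Cfsg Cfsg.Agent.Blocks Cfsg.Agent.BlocksNormal Cfsg.Agent.BrauerPairs

universe u v

variable {p : ℕ} {M : Ideal AlgInt}

section transport

variable {K : Type u} [Group K] [Finite K] {K' : Type v} [Group K'] [Finite K']

theorem omega_pullIrr (e : K ≃* K') (ξ : IrrCharacter K') (w : K → ℂ) :
    omega (pullIrr e ξ : K → ℂ) w = omega (ξ : K' → ℂ) (fun y => w (e.symm y)) := by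
  have := Fintype.ofFinite K
  have := Fintype.ofFinite K'
  rw [omega_eq_sum, omega_eq_sum]
  congr 1
  · exact Fintype.sum_equiv e.toEquiv _ _ fun x => by
      simp [pullIrr_apply]
  · simp [pullIrr_apply]

theorem blockDefect_image (e : K ≃* K') (b : Set (IrrCharacter K')) :
    blockDefect p (pullIrr e '' b) = blockDefect p b := by
  have h : ∀ χ : IrrCharacter K',
      charDegree (pullIrr e χ : K → ℂ) = charDegree (χ : K' → ℂ) := fun χ => by
    rw [charDegree, charDegree, pullIrr_apply, map_one]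
  rw [blockDefect, blockDefect, Nat.card_congr e.toEquiv, Set.image_image]
  simp only [h]

theorem omega_comp_eq_sum [Fintype (ConjClasses K')] (f : K → K') (ξ : IrrCharacter K)
    {z : K' → ℂ} (hz : IsClassFunction K' z) :
    omega (ξ : K → ℂ) (fun k => z (f k)) = ∑ q : ConjClasses K',
      z (Quotient.out q) * omega (ξ : K → ℂ) (fun k => classInd (Quotient.out q) (f k)) := by
  classical
  have := Fintype.ofFinite K
  simp only [omega_eq_sum, ← mul_div_assoc]
  rw [← Finset.sum_div]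
  congr 1
  simp only [Finset.mul_sum]
  rw [Finset.sum_comm]
  refine Finset.sum_congr rfl fun x _ => ?_
  rw [classFunction_eq_sum_classInd hz (f x), Finset.sum_mul]
  exact Finset.sum_congr rfl fun q _ => by ring

end transport

section main

variable {G : Type u} [Group G] [Fintype G] [Fact p.Prime]

/-- A block of `K ≅ K'` induces, if its central characters are the induced ones. -/
theorem isInducedBlock_image (hM : IsPModular p M) {H : Subgroup G} {K : Type v} [Group K]
    [Finite K] (e : H ≃* K) {b : Set (IrrCharacter K)} (hb : IsPBlock M b)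
    {B : Set (IrrCharacter G)} (hB : IsPBlock M B)
    (h : ∀ ξ ∈ b, ∀ χ ∈ B, ∀ g : G, MemLocalIdeal M
      (omega (ξ : K → ℂ) (fun y => classInd g ((e.symm y : H) : G)) - centralChar (χ : G → ℂ) g)) :
    IsInducedBlock M H (pullIrr e '' b) B := by
  refine ⟨isPBlock_image e hb, hB, ?_⟩
  rintro _ ⟨ξ, hξ, rfl⟩ χ hχ g
  rw [inducedCentralChar_eq_omega hM, omega_pullIrr]
  exact h ξ hξ χ hχ g

theorem normalizer_subgroupOf {H P : Subgroup G} (hPH : P ≤ H) :
    Subgroup.normalizer (P.subgroupOf H : Set H) =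
      (Subgroup.normalizer (P : Set G)).subgroupOf H := by
  ext x
  simp only [Subgroup.mem_subgroupOf, Subgroup.mem_normalizer_iff, SetLike.mem_coe]
  refine ⟨fun h n => ?_, fun h n => ?_⟩
  · by_cases hn : n ∈ H
    · simpa [Subgroup.mem_subgroupOf] using h ⟨n, hn⟩
    · refine iff_of_false (fun h1 => hn (hPH h1)) fun h1 => hn ?_
      have h2 := hPH h1
      rwa [Subgroup.mul_mem_cancel_right _ (H.inv_mem x.2), Subgroup.mul_mem_cancel_left _ x.2] at h2
  · simpa [Subgroup.mem_subgroupOf] using h (n : G)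

/-- With `N(P) ≤ H`, a block of `H` with defect group `P` is found in `N(P)`. -/
theorem exists_below (hM : IsPModular p M) {H P : Subgroup G} (hPH : P ≤ H) (hP : IsPGroup p P)
    (hN : Subgroup.normalizer (P : Set G) ≤ H) {c : Set (IrrCharacter H)}
    (hc : IsPBlock M c) (hcP : IsDefectGroup p M c (P.subgroupOf H)) {B : Set (IrrCharacter G)}
    (hind : IsInducedBlock M H c B) :
    ∃ b : Set (IrrCharacter (Subgroup.normalizer (P : Set G))),
      IsDefectGroup p M b (P.subgroupOf (Subgroup.normalizer (P : Set G))) ∧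
      IsInducedBlock M (Subgroup.normalizer (P : Set G)) b B ∧
      ∀ ξ ∈ b, ∀ ψ ∈ c, ∀ z : H → ℂ, IsClassFunction H z → (∀ h, MemLocalRing M (z h)) →
        MemLocalIdeal M (omega (ξ : Subgroup.normalizer (P : Set G) → ℂ)
          (fun y => z ⟨(y : G), hN y.2⟩) - omega (ψ : H → ℂ) z) := by
  have := Fintype.ofFinite H
  have hP' : IsPGroup p (P.subgroupOf H) := hP.of_equiv (Subgroup.subgroupOfEquivOfLe hPH).symm
  obtain ⟨b₀, hb₀, hb₀P, hind₀⟩ := first_main_exists hM hP' hc hcP
  let e : Subgroup.normalizer (P : Set G) ≃* Subgroup.normalizer (P.subgroupOf H : Set H) :=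
    (Subgroup.subgroupOfEquivOfLe hN).symm.trans
      (MulEquiv.subgroupCongr (normalizer_subgroupOf hPH).symm)
  have hkey : ∀ ξ ∈ b₀, ∀ ψ ∈ c, ∀ z : H → ℂ, IsClassFunction H z → (∀ h, MemLocalRing M (z h)) →
      MemLocalIdeal M (omega (pullIrr e ξ : Subgroup.normalizer (P : Set G) → ℂ)
        (fun y => z ⟨(y : G), hN y.2⟩) - omega (ψ : H → ℂ) z) := by
    intro ξ hξ ψ hψ z hz hzR
    rw [omega_pullIrr]
    exact omega_restrict_congr hM hind₀ hξ hψ hz hzR
  have hind' : IsInducedBlock M (Subgroup.normalizer (P : Set G)) (pullIrr e '' b₀) B := by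
    refine ⟨isPBlock_image e hb₀, hind.2.1, ?_⟩
    rintro _ ⟨ξ, hξ, rfl⟩ χ hχ g
    obtain ⟨ψ, hψ⟩ := isPBlock_nonempty hM hc
    rw [inducedCentralChar_eq_omega hM]
    refine memI_sub_trans hM (hkey ξ hξ ψ hψ (fun h : H => classInd g (h : G))
      (isClassFunction_restrict (isClassFunction_classInd g) H)
      (fun h => classInd_mem (locRing hM) g _)) ?_
    rw [← inducedCentralChar_eq_omega hM]
    exact hind.2.2 ψ hψ χ hχ g
  refine ⟨pullIrr e '' b₀, ?_, hind', ?_⟩
  · obtain ⟨E, hE⟩ := exists_isDefectGroup hM hind'.1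
    haveI : (P.subgroupOf (Subgroup.normalizer (P : Set G))).Normal := Subgroup.normal_in_normalizer
    have h1 := normal_le_defectGroup hM
      (hP.of_equiv (Subgroup.subgroupOfEquivOfLe Subgroup.le_normalizer).symm) hind'.1 hE
    rwa [Subgroup.eq_of_le_of_card_ge h1]
    rw [card_defectGroup hM hind'.1 hE, blockDefect_image, ← card_defectGroup hM hb₀ hb₀P,
      Nat.card_congr (Subgroup.subgroupOfEquivOfLe Subgroup.le_normalizer).toEquiv,
      Nat.card_congr (Subgroup.subgroupOfEquivOfLe hPH).toEquiv,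
      Nat.card_congr (Subgroup.subgroupOfEquivOfLe Subgroup.le_normalizer).toEquiv]
  · rintro _ ⟨ξ, hξ, rfl⟩
    exact hkey ξ hξ

/-- With `N(P) ≤ H`, induction keeps the defect group `P`. -/
theorem defect_of_induced (hM : IsPModular p M) {H P : Subgroup G} (hPH : P ≤ H) (hP : IsPGroup p P)
    (hN : Subgroup.normalizer (P : Set G) ≤ H) {c : Set (IrrCharacter H)}
    (hc : IsPBlock M c) (hcP : IsDefectGroup p M c (P.subgroupOf H)) {B : Set (IrrCharacter G)}
    (hind : IsInducedBlock M H c B) : IsDefectGroup p M B P := by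
  obtain ⟨b, hbP, hbB, -⟩ := exists_below hM hPH hP hN hc hcP hind
  obtain ⟨B', hB', hB'P, hind'⟩ := first_main_lift hM hP hbB.1 hbP
  rwa [SecondMain.induced_unique hM hbB hind']

/-- Induction is injective on blocks of `H ⊇ N(P)` with defect group `P`. -/
theorem induced_injective (hM : IsPModular p M) {H P : Subgroup G} (hPH : P ≤ H) (hP : IsPGroup p P)
    (hN : Subgroup.normalizer (P : Set G) ≤ H) {c c' : Set (IrrCharacter H)}
    (hcP : IsDefectGroup p M c (P.subgroupOf H)) (hcP' : IsDefectGroup p M c' (P.subgroupOf H))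
    {B : Set (IrrCharacter G)} (hind : IsInducedBlock M H c B) (hind' : IsInducedBlock M H c' B) :
    c = c' := by
  obtain ⟨b, hbP, hbB, hbz⟩ := exists_below hM hPH hP hN hind.1 hcP hind
  obtain ⟨b', hbP', hbB', hbz'⟩ := exists_below hM hPH hP hN hind'.1 hcP' hind'
  obtain rfl := first_main_unique hM hP hbB hbB' hbP hbP'
  obtain ⟨ξ, hξ⟩ := isPBlock_nonempty hM hbB.1
  obtain ⟨ψ, hψ⟩ := isPBlock_nonempty hM hind.1
  obtain ⟨ψ', hψ'⟩ := isPBlock_nonempty hM hind'.1
  have hs : ψ' ∈ c := by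
    rw [isPBlock_eq_blockOf hM hind.1 hψ]
    intro h
    rw [← omega_classInd, ← omega_classInd]
    exact memI_sub_trans hM
      (memI_sub_comm (hbz ξ hξ ψ hψ _ (isClassFunction_classInd h)
        (fun y => classInd_mem (locRing hM) h y)))
      (hbz' ξ hξ ψ' hψ' _ (isClassFunction_classInd h) (fun y => classInd_mem (locRing hM) h y))
  exact isPBlock_eq_of_mem hM hind.1 hind'.1 hs hψ'

variable {N : Subgroup G} [hNn : N.Normal] [Fintype N] {H : Subgroup G}

/-- `N ∩ H` inside `H`, as a subgroup of `G`. -/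
def interEquiv (N H : Subgroup G) : N.subgroupOf H ≃* ↥(H ⊓ N) where
  toFun x := ⟨((x : H) : G), (x : H).2, x.2⟩
  invFun y := ⟨⟨(y : G), y.2.1⟩, y.2.2⟩
  left_inv _ := rfl
  right_inv _ := rfl
  map_mul' _ _ := rfl

/-- Same central characters on the class functions of `N`. -/
def Lifts (M : Ideal AlgInt) (N H : Subgroup G) (η : IrrCharacter ↥(H ⊓ N)) (θ : IrrCharacter N) :
    Prop :=
  ∀ z : N → ℂ, IsClassFunction N z → (∀ n, MemLocalRing M (z n)) →
    MemLocalIdeal M (omega (η : ↥(H ⊓ N) → ℂ) (fun l => z (Subgroup.inclusion inf_le_right l)) -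
      omega (θ : N → ℂ) z)

theorem lifts_of_inducedIn (hM : IsPModular p M) {e : Set (IrrCharacter ↥(H ⊓ N))}
    {d : Set (IrrCharacter N)} (hed : IsInducedBlockIn M N (H ⊓ N) e d)
    {η : IrrCharacter ↥(H ⊓ N)} (hη : η ∈ e) {θ : IrrCharacter N} (hθ : θ ∈ d) :
    Lifts M N H η θ := by
  classical
  intro z hz hzR
  have := Fintype.ofFinite (ConjClasses N)
  have := Fintype.ofFinite ↥(H ⊓ N)
  rw [omega_comp_eq_sum _ η hz, omega_eq_sum_classes hz, ← Finset.sum_sub_distrib]
  refine memI_sum hM _ fun q _ => ?_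
  rw [← mul_sub]
  refine memI_mul_left hM (hzR _) ?_
  convert hed.2.2 η hη θ hθ (Quotient.out q) using 2
  set m : N := Quotient.out q
  rw [inducedCentralCharIn, finsum_mem_eq_toFinset_sum, omega_eq_sum, Finset.sum_div]
  refine (Finset.sum_subset (Finset.subset_univ _) fun l _ hl => ?_).symm.trans
    (Finset.sum_congr rfl fun l hl => ?_)
  · rw [classInd, if_neg, zero_mul, zero_div]
    intro hc
    obtain ⟨x, hx⟩ := isConj_iff.mp hc.symm
    exact hl (Set.mem_toFinset.mpr ⟨x, congrArg Subtype.val hx⟩)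
  · obtain ⟨x, hx⟩ := Set.mem_toFinset.mp hl
    rw [classInd, if_pos, one_mul]
    exact (isConj_iff.mpr ⟨x, Subtype.ext hx⟩).symm

/-- Covering below gives covering above. -/
theorem cover_of_local (hM : IsPModular p M) {c : Set (IrrCharacter H)} {B : Set (IrrCharacter G)}
    (hind : IsInducedBlock M H c B) [Fintype H] [Fintype (N.subgroupOf H)]
    {ψ : IrrCharacter H} (hψ : ψ ∈ c) {η : IrrCharacter ↥(H ⊓ N)}
    (hcon : classInner (fun n : N.subgroupOf H => (ψ : H → ℂ) n)
      (pullIrr (interEquiv N H) η : N.subgroupOf H → ℂ) ≠ 0)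
    {θ : IrrCharacter N} (hl : Lifts M N H η θ) :
    ∀ χ ∈ B, ∀ n : N, MemLocalIdeal M
      (centralChar (χ : G → ℂ) (n : G) - inducedCentralChar N (θ : N → ℂ) (n : G)) := by
  classical
  intro χ hχ n
  refine memI_sub_trans hM (memI_sub_comm (hind.2.2 ψ hψ χ hχ (n : G))) ?_
  set w : N.subgroupOf H → ℂ := fun l => classInd (n : G) ((l : H) : G)
  have hw : ∀ x : H, CliffordChar.conjFun (N.subgroupOf H) x w = w := fun x => funext fun l => by
    rw [CliffordChar.conjFun_apply]
    simp only [w]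
    refine Eq.trans ?_ (isClassFunction_classInd (n : G) ((l : H) : G) ((x : G)⁻¹))
    congr 1
    simp
  have hext : extendByZero (N.subgroupOf H) w = fun h : H => classInd (n : G) (h : G) := by
    funext h
    by_cases hh : h ∈ N.subgroupOf H
    · rw [Char.extendByZero_mem _ _ hh]
    · rw [Char.extendByZero_not_mem _ _ hh, classInd, if_neg]
      intro hc
      obtain ⟨x, hx⟩ := isConj_iff.mp hc
      exact hh (Subgroup.mem_subgroupOf.mpr (hx ▸ hNn.conj_mem _ n.2 x))
  rw [inducedCentralChar_eq_omega hM, inducedCentralChar_eq_omega hM, ← hext,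
    RealBlock.omega_extendByZero _ w hw ψ _ hcon, omega_pullIrr]
  exact hl (fun m : N => classInd (n : G) (m : G))
    (isClassFunction_restrict (isClassFunction_classInd _) N)
    (fun m => classInd_mem (locRing hM) _ _)

theorem inducedBlock_of_lifts (hM : IsPModular p M) {f : Set (IrrCharacter ↥(H ⊓ N))}
    (hf : IsPBlock M f) {d : Set (IrrCharacter N)} (hd : IsPBlock M d)
    (h : ∀ η ∈ f, ∀ θ ∈ d, Lifts M N H η θ) :
    IsInducedBlock M ((H ⊓ N).subgroupOf N)
      (pullIrr (Subgroup.subgroupOfEquivOfLe (inf_le_right : H ⊓ N ≤ N)) '' f) d := by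
  refine isInducedBlock_image hM _ hf hd fun η hη θ hθ m => ?_
  rw [← omega_classInd]
  exact h η hη θ hθ _ (isClassFunction_classInd m) (fun y => classInd_mem (locRing hM) m y)

theorem classInner_inter [Fintype H] [Fintype (N.subgroupOf H)] [Fintype ↥(H ⊓ N)]
    (ψ : IrrCharacter H) (η : IrrCharacter ↥(H ⊓ N)) :
    classInner (fun l : ↥(H ⊓ N) => (ψ : H → ℂ) (Subgroup.inclusion inf_le_left l))
      (η : ↥(H ⊓ N) → ℂ) =
    classInner (fun n : N.subgroupOf H => (ψ : H → ℂ) n)
      (pullIrr (interEquiv N H) η : N.subgroupOf H → ℂ) := by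
  simp only [classInner, Nat.card_congr (interEquiv N H).toEquiv]
  congr 1
  refine (Fintype.sum_equiv (interEquiv N H).toEquiv _ _ fun n => ?_).symm
  rfl

variable {Q : Subgroup G}

/-- A block covering `d` is induced by a block covering the correspondent of `d`. -/
theorem exists_local_cover (hM : IsPModular p M) (hQ : IsPGroup p Q) (hQN : Q ≤ N)
    (hH : H = Subgroup.normalizer (Q : Set G)) [Fintype H] [Fintype (N.subgroupOf H)]
    {d : Set (IrrCharacter N)} (hd : IsPBlock M d) (hdQ : IsDefectGroup p M d (Q.subgroupOf N))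
    {e : Set (IrrCharacter ↥(H ⊓ N))} (he : IsPBlock M e)
    (hed : IsInducedBlockIn M N (H ⊓ N) e d) {B : Set (IrrCharacter G)} (hB : IsPBlock M B)
    (hcov : ∃ χ ∈ B, ∃ θ ∈ d, classInner (fun n : N => (χ : G → ℂ) n) (θ : N → ℂ) ≠ 0) :
    ∃ c : Set (IrrCharacter H), IsInducedBlock M H c B ∧ ∃ ψ ∈ c, ∃ η ∈ e,
      classInner (fun n : N.subgroupOf H => (ψ : H → ℂ) n)
        (pullIrr (interEquiv N H) η : N.subgroupOf H → ℂ) ≠ 0 := by
  classical
  have := Fintype.ofFinite ↥(H ⊓ N)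
  have hQH : Q ≤ H := hH ▸ Subgroup.le_normalizer
  have hCH : Subgroup.centralizer (Q : Set G) ≤ H := hH ▸ Subgroup.centralizer_le_normalizer _
  obtain ⟨P, hP, hPN⟩ := CoverDefect.exists_inter_eq hM hd hQN hdQ hB hcov
  obtain ⟨g₀, hg₀, hg₀P⟩ := hP
  have hQP : Q ≤ P := hPN ▸ inf_le_left
  obtain ⟨ξ₀, hξ₀⟩ := exists_brauerPhi_not_memI hM hB hQ hCH hH.le
    (le_centralizer_singleton.mp (hQP.trans (sylowIn_le hg₀P))) hg₀.2.1
  obtain ⟨B', hind, -, hphi⟩ := exists_isInducedBlock hM hQ hQH hCH hH.le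
    ⟨ξ₀, rfl⟩ (mem_blockOf_self hM ξ₀)
  obtain ⟨χ', hχ'⟩ := isPBlock_nonempty hM hind.2.1
  have hχB : χ' ∈ B := by
    by_contra hn
    have h3 := hphi χ' hχ' _ (blockInd_mem_intRing hM hB)
    rw [blockInd_of_notMem hn, sub_zero] at h3
    exact hξ₀ h3
  obtain rfl := isPBlock_eq_of_mem hM hind.2.1 hB hχ' hχB
  -- a constituent and the block of `N` over it
  obtain ⟨η'', hη''⟩ := exists_constituent (N.subgroupOf H) ξ₀
  set η := pullIrr (interEquiv N H).symm η'' with hηdef
  have hηeq : pullIrr (interEquiv N H) η = η'' := Subtype.ext (funext fun y => by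
    simp [hηdef, pullIrr_apply])
  set eN := Subgroup.subgroupOfEquivOfLe (inf_le_right : H ⊓ N ≤ N)
  set QN := Q.subgroupOf N
  have hQN' : IsPGroup p QN := hQ.of_equiv (Subgroup.subgroupOfEquivOfLe hQN).symm
  have hnorm : Subgroup.normalizer (QN : Set N) = (H ⊓ N).subgroupOf N := by
    rw [normalizer_subgroupOf hQN, ← hH]
    exact (Subgroup.inf_subgroupOf_right H N).symm
  have hCN : Subgroup.centralizer (QN : Set N) ≤ (H ⊓ N).subgroupOf N :=
    hnorm ▸ Subgroup.centralizer_le_normalizer _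
  have hQNL : QN ≤ (H ⊓ N).subgroupOf N := hnorm ▸ Subgroup.le_normalizer
  obtain ⟨d', hind', -, -⟩ := exists_isInducedBlock hM hQN' hQNL hCN hnorm.ge
    ⟨pullIrr eN η, rfl⟩ (mem_blockOf_self hM (pullIrr eN η))
  have hlift : ∀ θ ∈ d', Lifts M N H η θ := by
    intro θ hθ z hz hzR
    have h := omega_restrict_congr hM hind' (mem_blockOf_self hM (pullIrr eN η)) hθ hz hzR
    rwa [omega_pullIrr] at h
  obtain ⟨θ', hθ'⟩ := isPBlock_nonempty hM hind'.2.1
  obtain ⟨χ₁, hχ₁, θ, hθ, hne⟩ := (cover_iff_congr N hM hind.2.1 hind'.2.1).mpr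
    fun χ hχ θ hθ n => cover_of_local hM hind (mem_blockOf_self hM ξ₀) (by rw [hηeq]; exact hη'')
      (hlift θ hθ) χ hχ n
  obtain ⟨χ₀, hχ₀, θ₀, hθ₀, hne₀⟩ := hcov
  obtain ⟨g, hg⟩ := exists_conjIrr_mem_of_sameBlock N hM hd
    (sameBlock_of_mem hM hind.2.1 hχ₀ hχ₁) hθ₀ hne₀ hne
  set σ : MulAut N := MulAut.conjNormal g⁻¹ with hσ
  have himg : pullIrr σ '' d' = d := isPBlock_eq_of_mem hM (isPBlock_image σ hind'.2.1) hd
    (χ := conjIrr N g θ) ⟨θ, hθ, rfl⟩ hg
  -- `d'` has defect group `Q`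
  obtain ⟨F, hF⟩ := exists_isDefectGroup hM hind'.1
  haveI : (QN.subgroupOf ((H ⊓ N).subgroupOf N)).Normal :=
    Subgroup.normal_subgroupOf_of_le_normalizer hnorm.ge
  have h1 := normal_le_defectGroup hM (hQN'.of_equiv (Subgroup.subgroupOfEquivOfLe hQNL).symm)
    hind'.1 hF
  obtain ⟨E, hE, hFE⟩ := exists_defectGroup_ge_of_induced hM hind' hF
  have hQE : QN = E := by
    refine Subgroup.eq_of_le_of_card_ge
      ((Subgroup.map_subgroupOf_eq_of_le hQNL).ge.trans ((Subgroup.map_mono h1).trans hFE)) ?_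
    rw [card_defectGroup hM hind'.2.1 hE, card_defectGroup hM hd hdQ, ← himg, blockDefect_image]
  -- so `g` may be taken in `H`
  obtain ⟨m₀, hm₀, hm₀E⟩ := hE
  obtain ⟨k, hk, hkQ⟩ := hdQ
  have hcoef : ¬ MemLocalIdeal M (blockCoeff d (σ.symm m₀)) := by
    rw [← himg, blockCoeff_image, MulEquiv.apply_symm_apply]
    exact hm₀.2.1
  have hle : QN.map σ.symm.toMonoidHom ≤ Subgroup.centralizer ({σ.symm m₀} : Set N) := by
    rintro _ ⟨x, hx, rfl⟩
    have hxm : x ∈ Subgroup.centralizer ({m₀} : Set N) := sylowIn_le hm₀E (hQE ▸ hx)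
    rw [mem_centralizer_singleton] at hxm ⊢
    show σ.symm x * σ.symm m₀ = σ.symm m₀ * σ.symm x
    rw [← map_mul, ← map_mul, hxm]
  obtain ⟨y, hy⟩ := minmax hM hd hθ₀ (hk.2.2 θ₀ hθ₀) hcoef (hQN'.map σ.symm.toMonoidHom) hle hkQ
  have hgQ : conjSub g Q ≤ conjSub (y : G) Q := by
    intro x hx
    rw [mem_conjSub] at hx ⊢
    have hxN : g⁻¹ * x * g ∈ N := hQN hx
    have h2 := hy ⟨⟨_, hxN⟩, Subgroup.mem_subgroupOf.mpr hx, rfl⟩
    rw [mem_conjSub, Subgroup.mem_subgroupOf] at h2
    simpa [hσ, MulAut.conjNormal_apply, mul_assoc] using h2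
  have hgQ' : conjSub g Q = conjSub (y : G) Q :=
    Subgroup.eq_of_le_of_card_ge hgQ (by rw [card_conjSub, card_conjSub])
  set h₀ : G := (y : G)⁻¹ * g with hh₀
  have hh₀H : h₀ ∈ H := by
    rw [hH, ← conjSub_eq_self_iff, hh₀, ← conjSub_mul, hgQ', conjSub_mul, inv_mul_cancel,
      conjSub_one]
  have hθh : conjIrr N h₀ θ ∈ d := by
    rw [hh₀, conjIrr_mul]
    convert hg using 1
    refine Subtype.ext (funext fun n => ?_)
    show CliffordChar.conjFun N (y : G)⁻¹ (conjIrr N g θ : N → ℂ) n = _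
    rw [CliffordChar.conjFun_apply]
    refine Eq.trans (congrArg _ (Subtype.ext ?_)) (irr_class (conjIrr N g θ) n y)
    simp
  -- move the constituent along
  set η''h := conjIrr (N.subgroupOf H) ⟨h₀, hh₀H⟩ η''
  set ηh := pullIrr (interEquiv N H).symm η''h with hηh
  have hηheq : pullIrr (interEquiv N H) ηh = η''h := Subtype.ext (funext fun x => by
    simp [hηh, pullIrr_apply])
  have hlifth : ∀ z : N → ℂ, IsClassFunction N z → (∀ n, MemLocalRing M (z n)) →
      MemLocalIdeal M (omega (ηh : ↥(H ⊓ N) → ℂ) (fun l => z (Subgroup.inclusion inf_le_right l)) -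
        omega (conjIrr N h₀ θ : N → ℂ) z) := by
    intro z hz hzR
    have h := hlift θ hθ (fun m => z (MulAut.conjNormal h₀ m))
      (fun a c => (congrArg z (by simp only [MulEquiv.map_mul, MulEquiv.map_inv])).trans (hz (MulAut.conjNormal h₀ a) (MulAut.conjNormal h₀ c))) (fun m => hzR _)
    rw [hηdef, omega_pullIrr] at h
    rw [hηh, omega_pullIrr,
      show η''h = pullIrr (MulAut.conjNormal (⟨h₀, hh₀H⟩ : H)⁻¹ : MulAut (N.subgroupOf H)) η'' from rfl,
      show conjIrr N h₀ θ = pullIrr (MulAut.conjNormal h₀⁻¹ : MulAut N) θ from rfl,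
      omega_pullIrr, omega_pullIrr]
    convert h using 4
    · refine congrArg z (Subtype.ext ?_)
      simp [interEquiv, MulAut.conjNormal_symm_apply, MulAut.conjNormal_apply]
    · refine congrArg z (Subtype.ext ?_)
      simp [MulAut.conjNormal_symm_apply, MulAut.conjNormal_apply]
  have hf : IsPBlock M (blockOf M (ηh : ↥(H ⊓ N) → ℂ)) := ⟨ηh, rfl⟩
  have hindf : IsInducedBlock M ((H ⊓ N).subgroupOf N)
      (pullIrr eN '' blockOf M (ηh : ↥(H ⊓ N) → ℂ)) d := by
    refine inducedBlock_of_lifts hM hf hd fun η₁ hη₁ θ₁ hθ₁ z hz hzR => ?_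
    have hcl : IsClassFunction ↥(H ⊓ N) (fun l => z (Subgroup.inclusion inf_le_right l)) :=
      fun a c => by simp only [map_mul, map_inv]; exact hz _ _
    refine memI_sub_trans hM (memI_sub_comm (intRing_congr hM
      (omega_mem_intRing hM hcl fun l => hzR _) hη₁))
      (memI_sub_trans hM (hlifth z hz hzR) ?_)
    exact intRing_congr hM (omega_mem_intRing hM hz hzR) (sameBlock_of_mem hM hd hθh hθ₁)
  have hinde := inducedBlock_of_lifts hM he hd fun η₁ hη₁ θ₁ hθ₁ => lifts_of_inducedIn hM hed hη₁ hθ₁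
  have hdQ' : IsDefectGroup p M d QN := ⟨k, hk, hkQ⟩
  have heq := induced_injective hM hQNL hQN' hnorm.le
    (isDefectGroup_of_induced hM hQNL hnorm.ge hindf hdQ')
    (isDefectGroup_of_induced hM hQNL hnorm.ge hinde hdQ') hindf hinde
  have hηe : ηh ∈ e := by
    obtain ⟨η₁, hη₁, h1⟩ := heq ▸ Set.mem_image_of_mem (pullIrr eN) (mem_blockOf_self hM ηh)
    have : η₁ = ηh := Subtype.ext (funext fun l => by
      have h2 : (η₁ : ↥(H ⊓ N) → ℂ) (eN (eN.symm l)) = (ηh : ↥(H ⊓ N) → ℂ) (eN (eN.symm l)) :=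
        congrFun (congrArg Subtype.val h1) (eN.symm l)
      rwa [MulEquiv.apply_symm_apply] at h2)
    exact this ▸ hη₁
  refine ⟨_, hind, ξ₀, mem_blockOf_self hM ξ₀, ηh, hηe, ?_⟩
  rw [hηheq, constituent_conjIrr]
  exact hη''

/-- Only one block covering the correspondent induces a given block. -/
theorem local_cover_unique (hM : IsPModular p M) (hQ : IsPGroup p Q) (hQN : Q ≤ N)
    (hH : H = Subgroup.normalizer (Q : Set G)) [Fintype H] [Fintype (N.subgroupOf H)]
    {e : Set (IrrCharacter ↥(H ⊓ N))} (he : IsPBlock M e)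
    (heQ : IsDefectGroup p M e (Q.subgroupOf (H ⊓ N))) {B : Set (IrrCharacter G)}
    {c c' : Set (IrrCharacter H)} (hind : IsInducedBlock M H c B) (hind' : IsInducedBlock M H c' B)
    (hc : ∃ ψ ∈ c, ∃ η ∈ e, classInner (fun n : N.subgroupOf H => (ψ : H → ℂ) n)
      (pullIrr (interEquiv N H) η : N.subgroupOf H → ℂ) ≠ 0)
    (hc' : ∃ ψ ∈ c', ∃ η ∈ e, classInner (fun n : N.subgroupOf H => (ψ : H → ℂ) n)
      (pullIrr (interEquiv N H) η : N.subgroupOf H → ℂ) ≠ 0) : c = c' := by
  classical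
  have hQH : Q ≤ H := hH ▸ Subgroup.le_normalizer
  set e' := pullIrr (interEquiv N H) '' e
  have he' : IsPBlock M e' := isPBlock_image _ he
  set QH := Q.subgroupOf H
  have hQH' : QH ≤ N.subgroupOf H := fun x hx => hQN hx
  haveI : QH.Normal := Subgroup.normal_subgroupOf_of_le_normalizer hH.le
  have heQ' : IsDefectGroup p M e' (QH.subgroupOf (N.subgroupOf H)) := by
    obtain ⟨E, hE⟩ := exists_isDefectGroup hM he'
    have h1 := normal_le_defectGroup hM
      ((hQ.of_equiv (Subgroup.subgroupOfEquivOfLe hQH).symm).of_equiv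
        (Subgroup.subgroupOfEquivOfLe hQH').symm) he' hE
    rwa [Subgroup.eq_of_le_of_card_ge h1]
    rw [card_defectGroup hM he' hE, blockDefect_image, ← card_defectGroup hM he heQ,
      Nat.card_congr (Subgroup.subgroupOfEquivOfLe hQH').toEquiv,
      Nat.card_congr (Subgroup.subgroupOfEquivOfLe hQH).toEquiv,
      Nat.card_congr (Subgroup.subgroupOfEquivOfLe (le_inf hQH hQN)).toEquiv]
  have key : ∀ c₀ : Set (IrrCharacter H), IsInducedBlock M H c₀ B →
      (∃ ψ ∈ c₀, ∃ η ∈ e, classInner (fun n : N.subgroupOf H => (ψ : H → ℂ) n)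
        (pullIrr (interEquiv N H) η : N.subgroupOf H → ℂ) ≠ 0) →
      ∃ P : Subgroup G, P ≤ H ∧ P ⊓ N = Q ∧ Subgroup.normalizer (P : Set G) ≤ H ∧
        IsPGroup p P ∧ IsDefectGroup p M c₀ (P.subgroupOf H) ∧ IsDefectGroup p M B P := by
    rintro c₀ hind₀ ⟨ψ, hψ, η, hη, hne⟩
    obtain ⟨D, hD, hDN⟩ := CoverDefect.exists_inter_eq hM he' hQH' heQ' hind₀.1
      ⟨ψ, hψ, _, ⟨η, hη, rfl⟩, hne⟩
    have hPN : D.map H.subtype ⊓ N = Q := by
      ext x
      constructor
      · rintro ⟨⟨y, hy, rfl⟩, hxN⟩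
        exact Subgroup.mem_subgroupOf.mp (hDN.le ⟨hy, hxN⟩ : y ∈ QH)
      · intro hx
        exact ⟨⟨⟨x, hQH hx⟩, (hDN.ge (Subgroup.mem_subgroupOf.mpr hx)).1, rfl⟩, hQN hx⟩
    have hNH : Subgroup.normalizer ((D.map H.subtype : Subgroup G) : Set G) ≤ H := by
      intro g hg
      rw [hH, ← conjSub_eq_self_iff]
      have h1 := conjSub_eq_self_iff.mpr hg
      have h2 : conjSub g N = N := conjSub_eq_self_iff.mpr (by
        rw [Subgroup.normalizer_eq_top]; trivial)
      rw [← hPN, conjSub, Subgroup.map_inf _ _ _ (MulAut.conj g).injective]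
      exact congrArg₂ (· ⊓ ·) h1 h2
    have hDp : IsPGroup p (D.map H.subtype) := (isPGroup_defectGroup hM hD).map _
    have hDeq : (D.map H.subtype).subgroupOf H = D :=
      Subgroup.comap_map_eq_self_of_injective H.subtype_injective D
    have hD' : IsDefectGroup p M c₀ ((D.map H.subtype).subgroupOf H) := hDeq.symm ▸ hD
    exact ⟨_, Subgroup.map_subtype_le D, hPN, hNH, hDp, hD',
      defect_of_induced hM (Subgroup.map_subtype_le D) hDp hNH hind₀.1 hD' hind₀⟩
  obtain ⟨P, hPH, hPN, hPnorm, hPp, hPc, hPB⟩ := key c hind hc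
  obtain ⟨P', hPH', hPN', -, -, hPc', hPB'⟩ := key c' hind' hc'
  obtain ⟨g, hg⟩ := isDefectGroup_conj_eq hM hind.2.1 hPB' hPB
  have hgH : g ∈ H := by
    have hN : conjSub g N = N := conjSub_eq_self_iff.mpr (by
      rw [Subgroup.normalizer_eq_top]; trivial)
    rw [hH, ← conjSub_eq_self_iff]
    calc conjSub g Q = conjSub g (P' ⊓ N) := by rw [hPN']
      _ = conjSub g P' ⊓ conjSub g N := Subgroup.map_inf _ _ _ (MulAut.conj g).injective
      _ = Q := by rw [hg, hN, hPN]
  have hPc'' : IsDefectGroup p M c' (P.subgroupOf H) := by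
    have h := isDefectGroup_conjSub hM hPc' (⟨g, hgH⟩ : H)
    have heq : conjSub (⟨g, hgH⟩ : H) (P'.subgroupOf H) = P.subgroupOf H := by
      ext x
      rw [mem_conjSub, Subgroup.mem_subgroupOf, Subgroup.mem_subgroupOf, ← hg, mem_conjSub]
      rfl
    rwa [heq] at h
  exact induced_injective hM hPH hPp hPnorm hPc hPc'' hind hind'

end main

end Cfsg.Agent.HarrisKnorr
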