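import Cfsg.Agent.Lib.BlocksNormal.HarrisKnorr

/-!
# The blocks of centralisers above a block of `D C(D)`

* `inducedUp`: the block of `H ⊇ K` induced by a block of `K`, as a set defined by congruences;
* `inducedUp_spec`, `inducedUp_induces`, `defect_inducedUp`: its properties;
* `inducedUp_conj`: transport under conjugation;
* `exists_stab_conj`: fusion of two such blocks at central elements of `D` is realised in the
  stabiliser of `b` in `N(D)`.
-/

set_option autoImplicit false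
set_option linter.unusedSectionVars false

open scoped ComplexConjugate

namespace Cfsg.Agent.MajorSub

open Cfsg Cfsg.Agent.Blocks Cfsg.Agent.BrauerPairs Cfsg.Agent.BlocksNormal Cfsg.Agent.HarrisKnorr

variable {G : Type*} [Group G] [Fintype G] {p : ℕ} {M : Ideal AlgInt}

/-- The characters of `H` whose central characters restrict to those of `b`. -/
def inducedUp (M : Ideal AlgInt) (K : Subgroup G) (b : Set (IrrCharacter K)) (H : Subgroup G) :
    Set (IrrCharacter H) :=
  {ψ | ∃ hle : K ≤ H, ∀ ξ ∈ b, ∀ z : H → ℂ, IsClassFunction H z → (∀ x, MemLocalRing M (z x)) →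
    MemLocalIdeal M (omega (ξ : K → ℂ) (fun x => z (Subgroup.inclusion hle x)) -
      omega (ψ : H → ℂ) z)}

/-- Conjugation, as an isomorphism of subgroups. -/
def conjEquiv (g : G) (H H' : Subgroup G) (h : ∀ x, x ∈ H' ↔ g⁻¹ * x * g ∈ H) : H' ≃* H where
  toFun x := ⟨g⁻¹ * (x : G) * g, (h _).mp x.2⟩
  invFun y := ⟨g * (y : G) * g⁻¹, (h _).mpr (by simp [mul_assoc])⟩
  left_inv x := Subtype.ext (by simp [mul_assoc])
  right_inv y := Subtype.ext (by simp [mul_assoc])
  map_mul' x y := Subtype.ext (by simp [mul_assoc])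

theorem conjEquiv_coe (g : G) (H H' : Subgroup G) (h : ∀ x, x ∈ H' ↔ g⁻¹ * x * g ∈ H) (x : H') :
    ((conjEquiv g H H' h x : H) : G) = g⁻¹ * (x : G) * g := rfl

section

variable {K H : Subgroup G} {b : Set (IrrCharacter K)}

theorem isInducedBlock_up (hM : IsPModular p M) (hle : K ≤ H) (hb : IsPBlock M b)
    {c : Set (IrrCharacter H)} (hc : IsPBlock M c) (hcb : ∀ ψ ∈ c, ψ ∈ inducedUp M K b H) :
    IsInducedBlock M (K.subgroupOf H) (pullIrr (Subgroup.subgroupOfEquivOfLe hle) '' b) c := by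
  refine ⟨isPBlock_image _ hb, hc, ?_⟩
  rintro _ ⟨ξ, hξ, rfl⟩ χ hχ g
  obtain ⟨hle', h⟩ := hcb χ hχ
  rw [inducedCentralChar_eq_omega hM, omega_pullIrr, ← omega_classInd g χ]
  exact h ξ hξ _ (isClassFunction_classInd g) fun x => classInd_mem (locRing hM) g x

theorem inducedUp_spec [Fact p.Prime] (hM : IsPModular p M) {P : Subgroup G} (hP : IsPGroup p P)
    (hPK : P ≤ K) (hC : Subgroup.centralizer (P : Set G) ≤ K)
    (hK : K ≤ Subgroup.normalizer (P : Set G)) (hle : K ≤ H) (hb : IsPBlock M b) :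
    IsInducedBlock M (K.subgroupOf H) (pullIrr (Subgroup.subgroupOfEquivOfLe hle) '' b)
      (inducedUp M K b H) := by
  have := Fintype.ofFinite H
  obtain ⟨ξ₀, hξ₀⟩ := isPBlock_nonempty hM hb
  set e := Subgroup.subgroupOfEquivOfLe hle
  have hC' : Subgroup.centralizer (P.subgroupOf H : Set H) ≤ K.subgroupOf H := fun x hx =>
    Subgroup.mem_subgroupOf.mpr (hC (Subgroup.mem_centralizer_iff.mpr fun w hw =>
      congrArg Subtype.val
        (Subgroup.mem_centralizer_iff.mp hx ⟨w, hle (hPK hw)⟩ (Subgroup.mem_subgroupOf.mpr hw))))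
  have hK' : K.subgroupOf H ≤ Subgroup.normalizer (P.subgroupOf H : Set H) := by
    rw [normalizer_subgroupOf (hPK.trans hle)]
    exact fun x hx => hK hx
  obtain ⟨B₁, hB₁, -, -⟩ := exists_isInducedBlock hM
    (hP.of_equiv (Subgroup.subgroupOfEquivOfLe (hPK.trans hle)).symm)
    (fun x hx => hPK hx) hC' hK' (isPBlock_image e hb) (Set.mem_image_of_mem _ hξ₀)
  suffices h : inducedUp M K b H = B₁ by rwa [h]
  obtain ⟨χ₁, hχ₁⟩ := isPBlock_nonempty hM hB₁.2.1
  refine Set.ext fun ψ => ⟨fun hψ => ?_, fun hψ => ⟨hle, fun ξ hξ z hz hzR => ?_⟩⟩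
  · obtain ⟨hle', h⟩ := hψ
    rw [isPBlock_eq_blockOf hM hB₁.2.1 hχ₁]
    refine fun g => ?_
    have h1 := h ξ₀ hξ₀ _ (isClassFunction_classInd g) fun x => classInd_mem (locRing hM) g x
    have h2 := SecondMain.omega_restrict_congr hM hB₁ (Set.mem_image_of_mem _ hξ₀) hχ₁
      (isClassFunction_classInd g) fun x => classInd_mem (locRing hM) g x
    rw [omega_pullIrr, omega_classInd] at h2
    rw [omega_classInd] at h1
    exact memI_sub_trans hM (memI_sub_comm h2) h1
  · have h2 := SecondMain.omega_restrict_congr hM hB₁ (Set.mem_image_of_mem _ hξ) hψ hz hzR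
    rw [omega_pullIrr] at h2
    exact h2

theorem inducedUp_induces (hM : IsPModular p M) {B : Set (IrrCharacter G)}
    (hind : IsInducedBlock M K b B) (hu : IsPBlock M (inducedUp M K b H)) :
    IsInducedBlock M H (inducedUp M K b H) B := by
  obtain ⟨ξ, hξ⟩ := isPBlock_nonempty hM hind.1
  refine ⟨hu, hind.2.1, fun ψ hψ χ hχ g => ?_⟩
  obtain ⟨hle, h⟩ := hψ
  have h2 := hind.2.2 ξ hξ χ hχ g
  rw [inducedCentralChar_eq_omega hM] at h2 ⊢
  refine memI_sub_trans hM (memI_sub_comm (h ξ hξ (fun x : H => classInd g (x : G)) ?_ ?_)) h2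
  · exact fun a n => isClassFunction_classInd g (a : G) (n : G)
  · exact fun x => classInd_mem (locRing hM) g _

/-- A normal `p`-subgroup as large as the defect group is the defect group. -/
theorem defect_of_pair [Fact p.Prime] (hM : IsPModular p M) {B : Set (IrrCharacter G)}
    {D P : Subgroup G} (hD : IsDefectGroup p M B D) (hP : IsPGroup p P)
    (hPK : P ≤ K) (hK : K ≤ Subgroup.normalizer (P : Set G)) (hle : K ≤ H)
    (hcard : Nat.card P = Nat.card D) {c : Set (IrrCharacter (K.subgroupOf H))}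
    {u : Set (IrrCharacter H)} (hc : IsInducedBlock M (K.subgroupOf H) c u)
    (hu : IsInducedBlock M H u B) : IsDefectGroup p M u (P.subgroupOf H) := by
  have := Fintype.ofFinite H
  have := Fintype.ofFinite (K.subgroupOf H)
  have hK' : K.subgroupOf H ≤ Subgroup.normalizer (P.subgroupOf H : Set H) := by
    rw [normalizer_subgroupOf (hPK.trans hle)]
    exact fun x hx => hK hx
  haveI : ((P.subgroupOf H).subgroupOf (K.subgroupOf H)).Normal :=
    Subgroup.normal_subgroupOf_of_le_normalizer hK'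
  have hsub : P.subgroupOf H ≤ K.subgroupOf H := fun x hx => hPK hx
  have hp1 : IsPGroup p (P.subgroupOf H) :=
    hP.of_equiv (Subgroup.subgroupOfEquivOfLe (hPK.trans hle)).symm
  obtain ⟨E, hE⟩ := exists_isDefectGroup hM hc.1
  have h1 := normal_le_defectGroup hM
    (hp1.of_equiv (Subgroup.subgroupOfEquivOfLe hsub).symm) hc.1 hE
  obtain ⟨E', hE', hEE'⟩ := exists_defectGroup_ge_of_induced hM hc hE
  have h2 : P.subgroupOf H ≤ E' := fun x hx =>
    hEE' ⟨⟨x, hsub hx⟩, h1 (Subgroup.mem_subgroupOf.mpr hx), rfl⟩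
  obtain ⟨E'', hE'', hE'E''⟩ := exists_defectGroup_ge_of_induced hM hu hE'
  have h3 : Nat.card E' ≤ Nat.card (P.subgroupOf H) := by
    rw [Nat.card_congr (Subgroup.subgroupOfEquivOfLe (hPK.trans hle)).toEquiv, hcard,
      card_defectGroup hM hu.2.1 hD, ← card_defectGroup hM hu.2.1 hE'',
      ← Subgroup.card_map_of_injective (K := E') H.subtype_injective]
    exact Subgroup.card_le_of_le hE'E''
  rwa [Subgroup.eq_of_le_of_card_ge h2 h3]

theorem defect_inducedUp [Fact p.Prime] (hM : IsPModular p M) {B : Set (IrrCharacter G)}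
    {D : Subgroup G} (hD : IsDefectGroup p M B D) (hDK : D ≤ K)
    (hC : Subgroup.centralizer (D : Set G) ≤ K) (hK : K ≤ Subgroup.normalizer (D : Set G))
    (hle : K ≤ H) (hind : IsInducedBlock M K b B) :
    IsInducedBlock M H (inducedUp M K b H) B ∧
      IsDefectGroup p M (inducedUp M K b H) (D.subgroupOf H) ∧
      blockDefect p (inducedUp M K b H) = blockDefect p B := by
  have hp := isPGroup_defectGroup hM hD
  have h1 := inducedUp_spec hM hp hDK hC hK hle hind.1
  have h2 := inducedUp_induces hM hind h1.2.1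
  have h3 := defect_of_pair hM hD hp hDK hK hle rfl h1 h2
  refine ⟨h2, h3, Nat.pow_right_injective (Fact.out (p := p.Prime)).two_le ?_⟩
  have := Fintype.ofFinite H
  have h := Nat.card_congr (Subgroup.subgroupOfEquivOfLe (hDK.trans hle)).toEquiv
  rw [card_defectGroup hM h1.2.1 h3, card_defectGroup hM hind.2.1 hD] at h
  exact h

/-- Transport along conjugation by `g`. -/
theorem inducedUp_conj (g : G) {K' H' : Subgroup G} (e₀ : K' ≃* K) (e : H' ≃* H)
    (he₀ : ∀ x : K', (e₀ x : G) = g⁻¹ * (x : G) * g) (he : ∀ x : H', (e x : G) = g⁻¹ * (x : G) * g)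
    (hle' : K' ≤ H') {ψ : IrrCharacter H} (hψ : ψ ∈ inducedUp M K b H) :
    pullIrr e ψ ∈ inducedUp M K' (pullIrr e₀ '' b) H' := by
  obtain ⟨hle, h⟩ := hψ
  refine ⟨hle', ?_⟩
  rintro _ ⟨ξ, hξ, rfl⟩ z hz hzR
  rw [omega_pullIrr, omega_pullIrr]
  have hk : (fun y : K => z (Subgroup.inclusion hle' (e₀.symm y)))
      = fun y : K => z (e.symm (Subgroup.inclusion hle y)) := by
    funext y
    refine congrArg z (e.injective (Subtype.ext ?_))
    rw [MulEquiv.apply_symm_apply, he]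
    have h1 := he₀ (e₀.symm y)
    rw [MulEquiv.apply_symm_apply] at h1
    exact h1.symm
  rw [hk]
  refine h ξ hξ (fun y => z (e.symm y)) (fun a n => ?_) fun x => hzR _
  simp only [map_mul, map_inv]
  exact hz _ _

end

section fusion

variable [Fact p.Prime] {B : Set (IrrCharacter G)} {D H₀ T : Subgroup G}
  {b : Set (IrrCharacter H₀)}

theorem conj_mem_normalized {n : G} (hH₀ : H₀ = D ⊔ Subgroup.centralizer (D : Set G))
    (hn : n ∈ Subgroup.normalizer (D : Set G)) {x : G} (hx : x ∈ H₀) : n * x * n⁻¹ ∈ H₀ := by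
  have hle : H₀ ≤ H₀.comap (MulAut.conj n).toMonoidHom := by
    conv_lhs => rw [hH₀]
    refine sup_le (fun y hy => ?_) fun y hy => ?_
    · rw [Subgroup.mem_comap, hH₀]
      exact Subgroup.mem_sup_left ((Subgroup.mem_normalizer_iff.mp hn y).mp hy)
    · rw [Subgroup.mem_comap, hH₀]
      refine Subgroup.mem_sup_right (Subgroup.mem_centralizer_iff.mpr fun w hw => ?_)
      have hw' : n⁻¹ * w * n ∈ D := by
        rw [Subgroup.mem_normalizer_iff.mp hn (n⁻¹ * w * n)]
        simpa [mul_assoc] using hw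
      have h1 := Subgroup.mem_centralizer_iff.mp hy _ hw'
      simp only [MulEquiv.coe_toMonoidHom, MulAut.conj_apply]
      calc w * (n * y * n⁻¹) = n * (n⁻¹ * w * n * y) * n⁻¹ := by group
        _ = n * (y * (n⁻¹ * w * n)) * n⁻¹ := by rw [h1]
        _ = n * y * n⁻¹ * w := by group
  exact hle hx

theorem le_normalizer_of_eq (hH₀ : H₀ = D ⊔ Subgroup.centralizer (D : Set G)) :
    H₀ ≤ Subgroup.normalizer (D : Set G) :=
  hH₀ ▸ sup_le Subgroup.le_normalizer (Subgroup.centralizer_le_normalizer _)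

/-- Fusion of subsections at central elements of `D` happens in the stabiliser of `b`. -/
theorem exists_stab_conj (hM : IsPModular p M) (hD : IsDefectGroup p M B D)
    (hH₀ : H₀ = D ⊔ Subgroup.centralizer (D : Set G)) (hind : IsInducedBlock M H₀ b B)
    (hT : ∀ g : G, g ∈ T ↔ (g ∈ Subgroup.normalizer (D : Set G) ∧ ∀ θ ∈ b, ∀ θ' : IrrCharacter H₀,
      (∀ h h' : H₀, (h' : G) = g * h * g⁻¹ → (θ' : H₀ → ℂ) h' = (θ : H₀ → ℂ) h) → θ' ∈ b))
    {u u' g : G} (hgu : g * u * g⁻¹ = u') {H H' : Subgroup G}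
    (hH' : ∀ a, a ∈ H' ↔ Commute u' a)
    (hle : H₀ ≤ H) (hle' : H₀ ≤ H') (hconj : ∀ x, x ∈ H' ↔ g⁻¹ * x * g ∈ H)
    {ψ : IrrCharacter H} (hψ : ψ ∈ inducedUp M H₀ b H)
    (hψ' : pullIrr (conjEquiv g H H' hconj) ψ ∈ inducedUp M H₀ b H') :
    ∃ t ∈ T, t * u * t⁻¹ = u' := by
  classical
  have := Fintype.ofFinite H
  have := Fintype.ofFinite H'
  have hp := isPGroup_defectGroup hM hD
  have hDH : D ≤ H₀ := hH₀ ▸ le_sup_left
  have hCH : Subgroup.centralizer (D : Set G) ≤ H₀ := hH₀ ▸ le_sup_right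
  have hN := le_normalizer_of_eq hH₀
  obtain ⟨hu2', hD', -⟩ := defect_inducedUp hM hD hDH hCH hN hle' hind
  set bu' := inducedUp M H₀ b H'
  have hu1 : IsPBlock M (inducedUp M H₀ b H) := (inducedUp_spec hM hp hDH hCH hN hle hind.1).2.1
  set e := conjEquiv g H H' hconj with he
  have himg : pullIrr e '' inducedUp M H₀ b H = bu' :=
    isPBlock_eq_of_mem hM (isPBlock_image e hu1) hu2'.1 (Set.mem_image_of_mem _ hψ) hψ'
  -- the conjugate pair
  set P := conjSub g D with hPdef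
  set K := conjSub g H₀ with hKdef
  have hK : ∀ x, x ∈ K ↔ g⁻¹ * x * g ∈ H₀ := fun x => mem_conjSub
  have hKH : K ≤ H' := fun x hx => (hconj x).mpr (hle ((hK x).mp hx))
  have hPK : P ≤ K := conjSub_mono g hDH
  have hKN : K ≤ Subgroup.normalizer (P : Set G) := fun x hx => by
    rw [← conjSub_eq_self_iff, hPdef, conjSub_mul,
      show x * g = g * (g⁻¹ * x * g) by group, ← conjSub_mul,
      conjSub_eq_self_iff.mpr (hN ((hK x).mp hx))]
  set e₀ := conjEquiv g H₀ K hK
  have hcK : ∀ φ ∈ bu', φ ∈ inducedUp M K (pullIrr e₀ '' b) H' := by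
    rw [← himg]
    rintro _ ⟨χ, hχ, rfl⟩
    exact inducedUp_conj g e₀ e (fun _ => rfl) (fun _ => rfl) hKH hχ
  have hPD : IsDefectGroup p M bu' (P.subgroupOf H') :=
    defect_of_pair hM hD (hp.map _) hPK hKN hKH (card_conjSub g D)
      (isInducedBlock_up hM hKH (isPBlock_image e₀ hind.1) hu2'.1 hcK) hu2'
  obtain ⟨c, hc⟩ := isDefectGroup_conj_eq hM hu2'.1 hPD hD'
  set y : G := (c : G) * g with hy
  have hyD : y ∈ Subgroup.normalizer (D : Set G) := by
    rw [← conjSub_eq_self_iff]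
    refine Subgroup.eq_of_le_of_card_ge ?_ (card_conjSub y D).ge
    rw [hy, ← conjSub_mul]
    intro x hx
    rw [mem_conjSub] at hx
    have hxH : x ∈ H' := by
      have h1 : (c : G)⁻¹ * x * c ∈ H' := hKH (hPK hx)
      have h2 := H'.mul_mem (H'.mul_mem c.2 h1) (H'.inv_mem c.2)
      simpa [mul_assoc] using h2
    have h1 : (⟨x, hxH⟩ : H') ∈ conjSub c (P.subgroupOf H') := by
      rw [mem_conjSub, Subgroup.mem_subgroupOf]
      exact hx
    rw [hc] at h1
    exact h1
  have hcu : (c : G) * u' * (c : G)⁻¹ = u' := by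
    rw [← ((hH' _).mp c.2).eq, mul_inv_cancel_right]
  have hyu : y * u * y⁻¹ = u' :=
    calc y * u * y⁻¹ = (c : G) * (g * u * g⁻¹) * (c : G)⁻¹ := by simp only [hy]; group
      _ = u' := by rw [hgu, hcu]
  -- the conjugate of `b` by `y` induces the same block
  have hyH : ∀ x, x ∈ H₀ ↔ y⁻¹ * x * y ∈ H₀ := fun x => by
    refine ⟨fun hx => ?_, fun hx => ?_⟩
    · have h := conj_mem_normalized hH₀ (Subgroup.inv_mem _ hyD) hx
      rwa [inv_inv] at h
    · simpa [mul_assoc] using conj_mem_normalized hH₀ hyD hx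
  have hyH' : ∀ x, x ∈ H' ↔ y⁻¹ * x * y ∈ H := fun x => by
    rw [show y⁻¹ * x * y = g⁻¹ * ((c : G)⁻¹ * x * c) * g by simp only [hy]; group, ← hconj]
    rw [Subgroup.mul_mem_cancel_right _ c.2, Subgroup.mul_mem_cancel_left _ (H'.inv_mem c.2)]
  set ey := conjEquiv y H H' hyH'
  set by₀ := conjEquiv y H₀ H₀ hyH
  have heq : pullIrr ey ψ = pullIrr e ψ := by
    refine Subtype.ext (funext fun x => ?_)
    have h1 : ey x = e (c⁻¹ * x * c⁻¹⁻¹) := Subtype.ext (by
      simp only [ey, e, conjEquiv_coe, Subgroup.coe_mul, Subgroup.coe_inv, hy]; group)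
    rw [pullIrr_apply, h1, ← pullIrr_apply, irr_class]
  have hb₁ : IsPBlock M (pullIrr by₀ '' b) := isPBlock_image by₀ hind.1
  have hblk := inducedUp_spec (H := H') hM hp hDH hCH hN hle' hb₁
  have heq' : inducedUp M H₀ (pullIrr by₀ '' b) H' = bu' :=
    isPBlock_eq_of_mem hM hblk.2.1 hu2'.1
      (inducedUp_conj y by₀ ey (fun _ => rfl) (fun _ => rfl) hle' hψ) (heq ▸ hψ')
  rw [heq'] at hblk
  have hblk' := inducedUp_spec (H := H') hM hp hDH hCH hN hle' hind.1
  -- the extended first main theorem in the centraliser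
  set L := H₀.subgroupOf H'
  have hLN : L ≤ Subgroup.normalizer (D.subgroupOf H' : Set H') := by
    rw [normalizer_subgroupOf (hDH.trans hle')]
    exact fun x hx => hN hx
  have hLC : Subgroup.centralizer (D.subgroupOf H' : Set H') ≤ L := fun x hx =>
    hCH (Subgroup.mem_centralizer_iff.mpr fun w hw => congrArg Subtype.val
      (Subgroup.mem_centralizer_iff.mp hx ⟨w, hle' (hDH hw)⟩ (Subgroup.mem_subgroupOf.mpr hw)))
  haveI : (L.subgroupOf (Subgroup.normalizer (D.subgroupOf H' : Set H'))).Normal := by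
    refine ⟨fun a ha n => ?_⟩
    have hn : ((n : H') : G) ∈ Subgroup.normalizer (D : Set G) := by
      have h := n.2
      simp only [normalizer_subgroupOf (hDH.trans hle')] at h
      exact h
    exact conj_mem_normalized hH₀ hn ha
  obtain ⟨n, hn, hnb⟩ := ext_first_main_conj hM hD' (fun x hx => hDH hx) hLC hLN hblk hblk'
  rw [normalizer_subgroupOf (hDH.trans hle'), Subgroup.mem_subgroupOf] at hn
  refine ⟨(n : G)⁻¹ * y, (hT _).mpr ⟨Subgroup.mul_mem _ (Subgroup.inv_mem _ hn) hyD,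
    fun θ hθ θ' hθ' => ?_⟩, ?_⟩
  · obtain ⟨θ₂, ⟨θ₁, hθ₁, rfl⟩, hθ₂⟩ := hnb
      (pullIrr (Subgroup.subgroupOfEquivOfLe hle') (pullIrr by₀ θ))
      ⟨_, ⟨θ, hθ, rfl⟩, rfl⟩
    suffices hθ'' : θ' = θ₁ from hθ'' ▸ hθ₁
    refine Subtype.ext (funext fun x => ?_)
    set x' : L := ⟨⟨(x : G), hle' x.2⟩, x.2⟩
    have hx' : n * (x' : H') * n⁻¹ ∈ L :=
      Subgroup.mem_subgroupOf.mpr (conj_mem_normalized hH₀ hn x.2)
    have h2 := hθ₂ x' hx'
    refine (hθ' _ x ?_).trans h2.symm
    simp only [by₀, x', conjEquiv, Subgroup.subgroupOfEquivOfLe, MulEquiv.coe_mk, Equiv.coe_fn_mk,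
      Subgroup.coe_mul, Subgroup.coe_inv]
    group
  · have h1 : (n : G)⁻¹ * u' * (n : G) = u' := by
      rw [mul_assoc, ((hH' _).mp n.2).eq, inv_mul_cancel_left]
    calc (n : G)⁻¹ * y * u * ((n : G)⁻¹ * y)⁻¹ = (n : G)⁻¹ * (y * u * y⁻¹) * (n : G) := by group
      _ = u' := by rw [hyu, h1]

/-- An orbit of `T` on the fixed points of `H₀` has at most `[T : H₀]` elements. -/
theorem card_orbit_le {u : G} (hu : ∀ h ∈ H₀, Commute u h) (s : Finset G)
    (hs : ∀ a ∈ s, ∃ t ∈ T, t * u * t⁻¹ = a) : s.card ≤ H₀.relIndex T := by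
  classical
  rw [Subgroup.relIndex, Subgroup.index_eq_card]
  have := Fintype.ofFinite (T ⧸ H₀.subgroupOf T)
  rw [Nat.card_eq_fintype_card, ← Finset.card_univ]
  refine Finset.card_le_card_of_surjOn
    (fun q : T ⧸ H₀.subgroupOf T => ((q.out : T) : G) * u * ((q.out : T) : G)⁻¹) ?_
  intro a ha
  obtain ⟨t, ht, rfl⟩ := hs a ha
  obtain ⟨h, hh⟩ := QuotientGroup.mk_out_eq_mul (H₀.subgroupOf T) ⟨t, ht⟩
  refine ⟨QuotientGroup.mk ⟨t, ht⟩, Finset.mem_coe.mpr (Finset.mem_univ _), ?_⟩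
  have hc := hu _ (Subgroup.mem_subgroupOf.mp h.2)
  simp only [hh, Subgroup.coe_mul]
  calc t * ((h : T) : G) * u * (t * ((h : T) : G))⁻¹
      = t * (((h : T) : G) * u) * ((h : T) : G)⁻¹ * t⁻¹ := by group
    _ = t * u * t⁻¹ := by rw [← hc.eq]; group

end fusion

end Cfsg.Agent.MajorSub
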