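import Cfsg.Agent.Lib.Blocks.Defect
import Cfsg.Agent.Lib.Blocks.Induced
import Cfsg.Agent.Lib.BrauerPairs.StableBlock
import Cfsg.Agent.Lib.Char.Inner
import Cfsg.Agent.Lib.Char.PRegular
import Cfsg.Agent.Lib.Codegree.Basic
import Cfsg.Agent.Lib.CentralChar.Twist
import Mathlib.LinearAlgebra.Matrix.Rank

/-!
# Robinson's count of the blocks with a normal defect group

Let `D` be a normal `p`-subgroup, `S` a Sylow `p`-subgroup and `y i` representatives of the regular
classes with `D` Sylow in the centraliser.  The number of pairs `(u, v)` in `yᵢ^G × yⱼ^G` with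
`v u⁻¹ ∈ S`, divided by `|S : D|`, reduces to `k' i * ∑ B, e_B (y i) * ω_B (y j)`, the sum over
the blocks with defect group `D`; and `∑ i, e_B (y i) * ω_B' (y i) ≡ δ`.

* `rank_map_eq`: the rank of a matrix does not change under extension of fields;
* `card_blocks_eq_rank`: the count of the blocks.
-/

set_option autoImplicit false

open scoped ComplexConjugate Matrix

namespace Cfsg.Agent.RobinsonRank

open Cfsg Cfsg.Agent.Blocks Cfsg.Agent.BrauerPairs

theorem rank_map_eq {K L : Type*} [Field K] [Field L] (f : K →+* L) {m n : Type*} [Fintype m]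
    [Fintype n] [DecidableEq m] [DecidableEq n] (A : Matrix m n K) :
    (A.map f).rank = A.rank := by
  classical
  set W := LinearMap.range A.mulVecLin with hW
  set r := A.rank with hr
  let b := Module.finBasisOfFinrankEq K W (show Module.finrank K W = r from rfl)
  have hb : ∀ k, ∃ v : n → K, A.mulVecLin v = (b k : m → K) := fun k => (b k).2
  choose v hv using hb
  let Bm : Matrix m (Fin r) K := Matrix.of fun i k => (b k : m → K) i
  let V : Matrix n (Fin r) K := Matrix.of fun j k => v k j
  let C : Matrix (Fin r) n K := Matrix.of fun k j =>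
    b.repr ⟨A.mulVecLin (Pi.single j 1), LinearMap.mem_range_self _ _⟩ k
  have hAV : A * V = Bm := by
    ext i k
    show _ = (b k : m → K) i
    rw [← hv k]
    rfl
  have hA : A = Bm * C := by
    ext i j
    have h := congrArg (fun w : W => (w : m → K) i)
      (b.sum_repr ⟨A.mulVecLin (Pi.single j 1), LinearMap.mem_range_self _ _⟩)
    simp only [AddSubmonoidClass.coe_finset_sum, SetLike.val_smul, Finset.sum_apply,
      Pi.smul_apply, smul_eq_mul, Matrix.mulVecLin_apply, Matrix.mulVec_single_one,
      Matrix.col_apply] at h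
    rw [Matrix.mul_apply, ← h]
    refine Finset.sum_congr rfl fun k _ => ?_
    simp only [Bm, C, Matrix.of_apply, Matrix.mulVecLin_apply, Matrix.mulVec_single_one]
    exact mul_comm _ _
  have hinj : LinearMap.ker Bm.mulVecLin = ⊥ := by
    rw [LinearMap.ker_eq_bot']
    intro w hw
    have h0 : ∑ k, w k • b k = 0 := by
      refine Subtype.ext (funext fun i => ?_)
      have h1 : ∑ k, Bm i k * w k = 0 := congrFun hw i
      simp only [AddSubmonoidClass.coe_finset_sum, SetLike.val_smul, Finset.sum_apply,
        Pi.smul_apply, smul_eq_mul, ZeroMemClass.coe_zero, Pi.zero_apply]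
      rw [← h1]
      exact Finset.sum_congr rfl fun k _ => mul_comm _ _
    exact funext (Fintype.linearIndependent_iff.1 b.linearIndependent w h0)
  obtain ⟨g, hg⟩ := Bm.mulVecLin.exists_leftInverse_of_injective hinj
  set U := LinearMap.toMatrix' g with hU
  have hUB : U * Bm = 1 := by
    have h := congrArg LinearMap.toMatrix' hg
    rwa [LinearMap.toMatrix'_comp, LinearMap.toMatrix'_id, ← Matrix.toLin'_apply',
      LinearMap.toMatrix'_toLin'] at h
  have hone : U.map f * (A.map f * V.map f) = 1 := by
    rw [← Matrix.map_mul, ← Matrix.map_mul, hAV, hUB, Matrix.map_one f (map_zero f) (map_one f)]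
  refine le_antisymm ?_ ?_
  · rw [hA, Matrix.map_mul]
    exact (Matrix.rank_mul_le_left _ _).trans
      ((Matrix.rank_le_card_width _).trans (Fintype.card_fin r).le)
  · calc r = (1 : Matrix (Fin r) (Fin r) L).rank := by rw [Matrix.rank_one, Fintype.card_fin]
      _ ≤ (A.map f).rank := by
        rw [← hone]
        exact (Matrix.rank_mul_le_right _ _).trans (Matrix.rank_mul_le_left _ _)

variable {G : Type*} [Group G] [Finite G]

/-- The sum of a character over a coset of a normal subgroup. -/
theorem sum_coset_eq_zero (χ : IrrCharacter G) (N : Subgroup G) [N.Normal] [Fintype N]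
    (hN : ¬ N ≤ Codegree.kerSub χ) (g : G) : ∑ u : N, (χ : G → ℂ) (g * u) = 0 := by
  classical
  have := Fintype.ofFinite G
  have h0 := Codegree.sum_normal_eq_zero χ N hN
  obtain ⟨n, ρ, hρ, hχ⟩ := χ.2
  let f : G → ℂ := fun x => if x ∈ N then 1 else 0
  have hf : IsClassFunction G f := fun x h => by
    have hn : N.Normal := inferInstance
    refine if_congr ⟨fun e => ?_, fun e => hn.conj_mem _ e h⟩ rfl rfl
    simpa [mul_assoc] using hn.conj_mem _ e h⁻¹
  have hsum : ∀ F : G → ℂ, ∑ x, f x * F x = ∑ u : N, F u := fun F => by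
    simp only [f, ite_mul, one_mul, zero_mul]
    rw [← Finset.sum_filter]
    exact Finset.sum_subtype _ (fun x => by simp) _
  have hop := Char.groupSumOp_eq_smul ρ hf
  rw [hsum, hχ, h0, zero_div, zero_smul] at hop
  have htr := congrArg (fun T => LinearMap.trace ℂ _ (ρ g * T)) hop
  simp only [Char.groupSumOp, Finset.mul_sum, mul_smul_comm, ← map_mul, mul_zero, map_sum,
    map_smul, map_zero, smul_eq_mul] at htr
  rw [hsum (fun x => LinearMap.trace ℂ _ (ρ (g * x)))] at htr
  rw [← htr]
  exact Finset.sum_congr rfl fun u _ => (congrFun hχ _).symm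

variable {p : ℕ} [Fact p.Prime] {M : Ideal AlgInt}

theorem card_blocks_eq_rank (hM : IsPModular p M) (D : Subgroup G) [D.Normal] (hD : IsPGroup p D)
    (S : Sylow p G) {ι : Type*} [Fintype ι] [DecidableEq ι] (y : ι → G)
    (hyinj : ∀ i j, IsConj (y i) (y j) → i = j) (hyreg : ∀ i, ¬ p ∣ orderOf (y i))
    (hysyl : ∀ i, SylowIn p (Subgroup.centralizer ({y i} : Set G)) D)
    (hyall : ∀ g : G, ¬ p ∣ orderOf g → SylowIn p (Subgroup.centralizer ({g} : Set G)) D →
      ∃ i, IsConj (y i) g) :
    Nat.card {B : Set (IrrCharacter G) // IsPBlock M B ∧ IsDefectGroup p M B D} =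
      (Matrix.of fun i j : ι => ((Nat.card {yz : G × G // IsConj (y i) yz.1 ∧ IsConj (y j) yz.2 ∧
        yz.2 * yz.1⁻¹ ∈ (S : Subgroup G)} /
          p ^ ((Nat.card G).factorization p - (Nat.card D).factorization p) : ℕ) : ZMod p)).rank := by
  classical
  have hp : p.Prime := Fact.out
  have := Fintype.ofFinite G
  have := Fintype.ofFinite D
  have := Fintype.ofFinite (S : Subgroup G)
  have := Fintype.ofFinite (IrrCharacter G)
  have := Fintype.ofFinite (ConjClasses G)
  have := Fintype.ofFinite {B : Set (IrrCharacter G) // IsPBlock M B ∧ IsDefectGroup p M B D}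
  have := hM.2.1
  letI : Field (Res M) := Ideal.Quotient.field M
  haveI := res_charP hM
  set a := (Nat.card G).factorization p with ha
  obtain ⟨d, hd⟩ := hD.exists_card_eq
  have hd' : (Nat.card D).factorization p = d := by
    rw [hd, hp.factorization_pow, Finsupp.single_eq_same]
  rw [hd']
  have hScard : Nat.card (S : Subgroup G) = p ^ a := S.card_eq_multiplicity
  have hda : d ≤ a := by
    rw [ha, ← hp.pow_dvd_iff_le_factorization Nat.card_pos.ne', ← hd]
    exact Subgroup.card_subgroup_dvd_card D
  have hDS : D ≤ (S : Subgroup G) := by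
    obtain ⟨Q, hQ⟩ := hD.exists_le_sylow
    obtain ⟨x, hx⟩ := MulAction.exists_smul_eq G Q S
    rw [← hx, ← Subgroup.Normal.conjAct (inferInstance : D.Normal) (ConjAct.toConjAct x)]
    exact Subgroup.pointwise_smul_le_pointwise_smul_iff.2 hQ
  have hconjD : ∀ x : G, Cfsg.Agent.Blocks.conjSub x D = D := fun x => conjSub_eq_self_iff.2 (by
    rw [Subgroup.normalizer_eq_top]
    exact Subgroup.mem_top x)
  set n := (S : Subgroup G).index with hn
  have hn0 : ¬ p ∣ n := S.not_dvd_index
  have hG : (Nat.card G : ℂ) = (p : ℂ) ^ a * n := by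
    rw [← Subgroup.card_mul_index (S : Subgroup G), hScard, ← hn]
    push_cast
    ring
  have hp0 : (p : ℂ) ≠ 0 := Nat.cast_ne_zero.2 hp.ne_zero
  have hnC : (n : ℂ) ≠ 0 := Nat.cast_ne_zero.2 fun h => hn0 (h ▸ dvd_zero p)
  -- the class sizes
  have hk : ∀ i, ∃ k : ℕ, ¬ p ∣ k ∧
      (Subgroup.centralizer ({y i} : Set G)).index = p ^ (a - d) * k := by
    intro i
    have h1 := (Subgroup.centralizer ({y i} : Set G)).card_mul_index
    have h2 := sylowIn_card (hysyl i)
    rw [hd] at h2
    have h3 := congrArg (fun z => Nat.factorization z p) h1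
    simp only [Nat.factorization_mul Nat.card_pos.ne' Subgroup.index_ne_zero_of_finite,
      Finsupp.coe_add, Pi.add_apply, ← Nat.pow_right_injective hp.two_le h2, ← ha] at h3
    refine ⟨_, Nat.not_dvd_ordCompl hp (Subgroup.index_ne_zero_of_finite (H :=
      Subgroup.centralizer ({y i} : Set G))), ?_⟩
    conv_lhs => rw [← Nat.ordProj_mul_ordCompl_eq_self
      (Subgroup.centralizer ({y i} : Set G)).index p]
    rw [show a - d = (Subgroup.centralizer ({y i} : Set G)).index.factorization p by omega]
  choose k hk0 hkeq using hk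
  -- multiplicity of the trivial character on the Sylow subgroup
  have hm : ∀ χ : IrrCharacter G, ∃ m : ℕ,
      ∑ s : (S : Subgroup G), (χ : G → ℂ) s = (p : ℂ) ^ a * m := by
    intro χ
    obtain ⟨m, hm⟩ := Char.IsCharacter.classInner_nat
      (Char.IsCharacter.comp_hom (Char.IsIrrCharacter.isCharacter χ.2) (S : Subgroup G).subtype)
      (Char.isCharacter_one (G := (S : Subgroup G)))
    refine ⟨m, ?_⟩
    rw [← hm, classInner, ← mul_assoc,
      hScard, Nat.cast_pow, mul_inv_cancel₀ (pow_ne_zero _ hp0), one_mul]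
    exact Finset.sum_congr rfl fun s _ => by simp
  choose m hm using hm
  have hinvC : ∀ g : G, Subgroup.centralizer ({g⁻¹} : Set G) = Subgroup.centralizer ({g} : Set G) := by
    intro g
    ext x
    simp only [mem_centralizer_singleton]
    exact Commute.inv_right_iff
  -- the number of pairs through characters
  let τ : ι → ι → IrrCharacter G → ℂ := fun i j χ => (n : ℂ)⁻¹ * m χ * k i *
    (χ : G → ℂ) (y i)⁻¹ * centralChar (χ : G → ℂ) (y j)
  have hmain : ∀ i j, (Nat.card {yz : G × G // IsConj (y i) yz.1 ∧ IsConj (y j) yz.2 ∧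
      yz.2 * yz.1⁻¹ ∈ (S : Subgroup G)} : ℂ) / (p : ℂ) ^ (a - d) = ∑ χ, τ i j χ := by
    intro i j
    have e : (Σ s : (S : Subgroup G), {x : G // IsConj (y j) x ∧ IsConj (y i)⁻¹ (x⁻¹ * s)}) ≃
        {yz : G × G // IsConj (y i) yz.1 ∧ IsConj (y j) yz.2 ∧ yz.2 * yz.1⁻¹ ∈ (S : Subgroup G)} :=
      { toFun := fun w => ⟨((w.1 : G)⁻¹ * w.2.1, w.2.1), by
          obtain ⟨s, x, hx, hs⟩ := w
          refine ⟨?_, hx, ?_⟩
          · obtain ⟨c, hc⟩ := isConj_iff.1 hs
            refine isConj_iff.2 ⟨c, ?_⟩
            rw [show c * y i * c⁻¹ = (c * (y i)⁻¹ * c⁻¹)⁻¹ by group, hc]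
            simp
          · simp⟩
        invFun := fun w => ⟨⟨w.1.2 * w.1.1⁻¹, w.2.2.2⟩, w.1.2, w.2.2.1, by
          obtain ⟨c, hc⟩ := isConj_iff.1 w.2.1
          refine isConj_iff.2 ⟨c, ?_⟩
          rw [← mul_assoc, inv_mul_cancel, one_mul, ← hc]
          group⟩
        left_inv := fun w => by
          obtain ⟨s, x, hx, hs⟩ := w
          refine Sigma.subtype_ext (Subtype.ext ?_) rfl
          simp
        right_inv := fun w => Subtype.ext (Prod.ext (by simp) rfl) }
    rw [← Nat.card_congr e, Nat.card_sigma, Nat.cast_sum]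
    have hcount : ∀ s : (S : Subgroup G),
        (Nat.card {x : G // IsConj (y j) x ∧ IsConj (y i)⁻¹ (x⁻¹ * s)} : ℂ) =
          (Nat.card G : ℂ)⁻¹ * ∑ χ : IrrCharacter G, centralChar (χ : G → ℂ) (y j) *
            centralChar (χ : G → ℂ) (y i)⁻¹ * (χ : G → ℂ) 1 * conj ((χ : G → ℂ) s) := by
      intro s
      have h := congrFun (ofOmega_mul (omegaFun (classInd (y j))) (omegaFun (classInd (y i)⁻¹))) (s : G)
      rw [ofOmega_omega (isClassFunction_classInd _), ofOmega_omega (isClassFunction_classInd _),
        conv_eq_sum, ofOmega_eq_sum, omegaFun_classInd, omegaFun_classInd] at h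
      refine Eq.trans ?_ h.symm
      simp only [classInd, mul_ite, mul_one, mul_zero, ← ite_and]
      rw [Nat.card_eq_fintype_card, Fintype.card_subtype, Finset.natCast_card_filter]
      refine Finset.sum_congr rfl fun x _ => ?_
      simp [and_comm]
    simp only [hcount, ← Finset.mul_sum]
    rw [Finset.sum_comm]
    simp only [← Finset.mul_sum, ← map_sum, hm, map_mul, map_pow, Complex.conj_natCast]
    rw [Finset.mul_sum, Finset.sum_div]
    refine Finset.sum_congr rfl fun χ _ => ?_
    simp only [τ]
    rw [show centralChar (χ : G → ℂ) (y i)⁻¹ =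
        ((p ^ (a - d) * k i : ℕ) : ℂ) * (χ : G → ℂ) (y i)⁻¹ / (χ : G → ℂ) 1 by
      rw [centralChar, hinvC, hkeq], hG]
    have := irr_one_ne_zero χ
    push_cast
    field_simp
  have hτR : ∀ i j χ, MemLocalRing M (τ i j χ) := fun i j χ =>
    memR_mul hM (memR_mul hM (memR_mul hM (memR_mul hM (memR_natCast_inv hM hn0) (memR_natCast hM _))
      (memR_natCast hM _)) (memR_of_isIntegral hM (isIntegral_irr χ _)))
      (Blocks.memR_centralChar hM χ _)
  -- the blocks with defect group `D`
  have hL0 : ∀ (χ : IrrCharacter G) (j : ι),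
      ¬ MemLocalIdeal M (centralChar (χ : G → ℂ) (y j)) →
        IsDefectGroup p M (blockOf M (χ : G → ℂ)) D := by
    intro χ j hj
    have hB := isPBlock_blockOf hM χ
    obtain ⟨D', hD'⟩ := Blocks.exists_isDefectGroup (p := p) hM hB
    have hge := normal_le_defectGroup hM hD hB hD'
    have hD'p := isPGroup_defectGroup hM hD'
    obtain ⟨g, hg, hgD⟩ := hD'
    obtain ⟨x, hx⟩ := minmax hM hB (mem_blockOf_self hM χ) hj hg.2.1 hD'p (sylowIn_le hgD) (hysyl j)
    rw [hconjD] at hx
    rw [le_antisymm hge hx]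
    exact ⟨g, hg, hgD⟩
  choose ξ hξ using fun B : {B : Set (IrrCharacter G) // IsPBlock M B ∧ IsDefectGroup p M B D} =>
    isPBlock_nonempty hM B.2.1
  let E : Matrix {B : Set (IrrCharacter G) // IsPBlock M B ∧ IsDefectGroup p M B D} ι (Res M) :=
    Matrix.of fun B i => res M (blockCoeff B.1 (y i))
  let L : Matrix {B : Set (IrrCharacter G) // IsPBlock M B ∧ IsDefectGroup p M B D} ι (Res M) :=
    Matrix.of fun B i => res M (centralChar (ξ B : G → ℂ) (y i))
  -- the idempotent at the representatives
  have hE : ∀ (B : {B : Set (IrrCharacter G) // IsPBlock M B ∧ IsDefectGroup p M B D}) (i : ι),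
      blockCoeff B.1 (y i) =
        ∑ χ, if χ ∈ B.1 then (n : ℂ)⁻¹ * m χ * (χ : G → ℂ) (y i)⁻¹ else 0 := by
    intro B i
    have hyD : y i ∈ Subgroup.centralizer (D : Set G) :=
      le_centralizer_singleton.1 (sylowIn_le (hysyl i))
    have hsum : ∑ u : D, blockCoeff B.1 (y i * u) = blockCoeff B.1 (y i) := by
      rw [Finset.sum_eq_single (1 : D)]
      · simp
      · intro u _ hu
        rw [blockCoeff_eq_ofOmega]
        refine ofOmega_singular_eq_zero hM (blockInd_mem_intRing hM B.2.1) ?_
        have hcomm : Commute (y i) (u : G) := (Subgroup.mem_centralizer_iff.mp hyD u u.2).symm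
        obtain ⟨c, hc⟩ := IsPGroup.iff_orderOf.mp hD u
        rw [← Subgroup.orderOf_coe] at hc
        have hpc : p ∣ p ^ c := by
          refine dvd_pow_self p fun h0 => hu ?_
          rw [h0, pow_zero, orderOf_eq_one_iff] at hc
          exact Subtype.ext hc
        rw [hcomm.orderOf_mul_eq_mul_orderOf_of_coprime (by
          rw [hc]
          exact Nat.Coprime.pow_right _ (hp.coprime_iff_not_dvd.mpr (hyreg i)).symm), hc]
        exact dvd_mul_of_dvd_right hpc _
      · simp
    rw [← hsum]
    simp only [blockCoeff, ← Finset.mul_sum, finsum_mem_eq_toFinset_sum]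
    rw [Finset.sum_comm, ← Finset.sum_filter, Finset.mul_sum,
      show Finset.univ.filter (fun χ => χ ∈ B.1) = B.1.toFinset by ext; simp]
    refine Finset.sum_congr rfl fun χ hχ => ?_
    rw [Set.mem_toFinset] at hχ
    rw [← Finset.mul_sum, ← map_sum]
    by_cases hker : D ≤ Codegree.kerSub χ
    · have hval : ∀ u : D, (χ : G → ℂ) (y i * u) = (χ : G → ℂ) (y i) := fun u => by
        rw [← Subgroup.mem_centralizer_iff.mp hyD u u.2]
        exact TwoClassChar.ker_mul χ.2 (hker u.2) _
      -- the character is of defect zero modulo `D`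
      obtain ⟨φ, hφ⟩ := CentralChar.exists_deflation D χ fun u hu => hker hu
      have hdvd : p ^ (a - d) ∣ charDegree (χ : G → ℂ) := by
        refine pow_dvd_charDegree hM hχ B.2.2 ?_
        rw [hd, ← pow_add, Nat.sub_add_cancel hda]
        exact Nat.ordProj_dvd _ p
      have hS : ∑ s : (S : Subgroup G), (χ : G → ℂ) s =
          (Nat.card D : ℂ) * (χ : G → ℂ) 1 := by
        rw [← Finset.sum_subset (Finset.subset_univ
          (Finset.univ.filter fun s : (S : Subgroup G) => (s : G) ∈ D))]
        · rw [Finset.sum_congr rfl (g := fun _ => (χ : G → ℂ) 1) fun s hs =>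
            hker (Finset.mem_filter.1 hs).2, Finset.sum_const, nsmul_eq_mul]
          congr 2
          rw [← Fintype.card_subtype, ← Nat.card_eq_fintype_card]
          exact Nat.card_congr (Subgroup.subgroupOfEquivOfLe hDS).toEquiv
        · intro s _ hs
          rw [hφ]
          refine Char.vanishes_of_defect_zero hp φ.2
            (n := charDegree (χ : G → ℂ)) (by rw [charDegree_cast, hφ]; rfl) ?_ _ ?_
          · have h1 := congrArg (fun z => Nat.factorization z p) D.card_mul_index
            simp only [Nat.factorization_mul Nat.card_pos.ne' Subgroup.index_ne_zero_of_finite,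
              Finsupp.coe_add, Pi.add_apply, hd', ← ha] at h1
            rw [← Subgroup.index_eq_card]
            have := (hp.pow_dvd_iff_le_factorization (charDegree_pos χ).ne').1 hdvd
            omega
          · obtain ⟨c, hc⟩ := IsPGroup.iff_orderOf.1 S.isPGroup' s
            rw [← Subgroup.orderOf_coe] at hc
            obtain ⟨c', -, hc'⟩ := (Nat.dvd_prime_pow hp).1
              (hc ▸ orderOf_map_dvd (QuotientGroup.mk' D) (s : G))
            rw [show orderOf ((s : G) : G ⧸ D) = p ^ c' from hc']
            refine dvd_pow_self p fun h0 => hs ?_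
            rw [h0, pow_zero, orderOf_eq_one_iff, QuotientGroup.mk'_apply,
              QuotientGroup.eq_one_iff] at hc'
            exact Finset.mem_filter.2 ⟨Finset.mem_univ _, hc'⟩
      simp only [hval, Finset.sum_const, Finset.card_univ, ← Nat.card_eq_fintype_card, nsmul_eq_mul,
        map_mul, Complex.conj_natCast]
      rw [← Char.IsCharacter.apply_inv (Char.IsIrrCharacter.isCharacter χ.2), hG]
      rw [hm] at hS
      field_simp
      linear_combination -(χ : G → ℂ) (y i)⁻¹ * hS
    · rw [sum_coset_eq_zero χ D hker, map_zero, mul_zero, mul_zero]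
      have h0 : (Nat.card D : ℂ) * ∑ s : (S : Subgroup G), (χ : G → ℂ) s = 0 := by
        have h1 : ∀ u : D, ∑ s : (S : Subgroup G), (χ : G → ℂ) ((s : G) * u) =
            ∑ s : (S : Subgroup G), (χ : G → ℂ) s := fun u =>
          Fintype.sum_equiv (Equiv.mulRight (⟨(u : G), hDS u.2⟩ : (S : Subgroup G))) _ _
            fun s => rfl
        calc (Nat.card D : ℂ) * ∑ s : (S : Subgroup G), (χ : G → ℂ) s
            = ∑ u : D, ∑ s : (S : Subgroup G), (χ : G → ℂ) ((s : G) * u) := by
              simp only [h1, Finset.sum_const, Finset.card_univ, ← Nat.card_eq_fintype_card,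
                nsmul_eq_mul]
          _ = 0 := by
              rw [Finset.sum_comm]
              exact Finset.sum_eq_zero fun s _ => sum_coset_eq_zero χ D hker _
      rw [hm, mul_eq_zero, mul_eq_zero] at h0
      have hm0 : (m χ : ℂ) = 0 := (h0.resolve_left (Nat.cast_ne_zero.2 Nat.card_pos.ne')).resolve_left
        (pow_ne_zero _ hp0)
      rw [hm0, mul_zero, zero_mul]
  -- duality
  have hdual : L * Eᵀ = 1 := by
    ext B' B
    rw [Matrix.mul_apply, Matrix.one_apply]
    have h := omega_ofOmega (blockInd B.1) (ξ B')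
    rw [← blockCoeff_eq_ofOmega, omega_eq_sum_classes (Blocks.isClassFunction_blockCoeff _)] at h
    have h' := congrArg (res M) h
    rw [res_sum hM (f := fun q : ConjClasses G => blockCoeff B.1 (Quotient.out q) *
        centralChar (ξ B' : G → ℂ) (Quotient.out q)) _ fun q _ => memR_mul hM (Blocks.memR_blockCoeff hM B.2.1 _)
      (Blocks.memR_centralChar hM _ _)] at h'
    rw [← Finset.sum_subset (Finset.subset_univ (Finset.univ.image fun i => ConjClasses.mk (y i))),
      Finset.sum_image fun i _ j _ hij => hyinj i j (ConjClasses.mk_eq_mk_iff_isConj.1 hij)] at h'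
    · refine Eq.trans ?_ (h'.trans ?_)
      · refine Finset.sum_congr rfl fun i _ => ?_
        obtain ⟨c, hc⟩ := isConj_iff.1 (ConjClasses.mk_eq_mk_iff_isConj.1
          (Quotient.out_eq (ConjClasses.mk (y i))).symm)
        rw [show L B' i * Eᵀ i B = res M (centralChar (ξ B' : G → ℂ) (y i)) *
            res M (blockCoeff B.1 (y i)) from rfl,
          res_mul hM (Blocks.memR_blockCoeff hM B.2.1 _) (Blocks.memR_centralChar hM _ _), mul_comm,
          ← hc, Blocks.isClassFunction_blockCoeff B.1 (y i) c, centralChar_conj_eq (irr_class _)]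
      · by_cases hBB : B' = B
        · subst hBB
          rw [if_pos rfl, blockInd_of_mem (hξ B'), res_one hM]
        · rw [if_neg hBB, blockInd_of_notMem (fun hmem => hBB (Subtype.ext
            (isPBlock_eq_of_mem hM B'.2.1 B.2.1 (hξ B') hmem))), res_zero hM]
    · intro q _ hq
      rw [res_mul hM (Blocks.memR_blockCoeff hM B.2.1 _) (Blocks.memR_centralChar hM _ _),
        (res_eq_zero_iff hM (Blocks.memR_blockCoeff hM B.2.1 _)).2 ?_, zero_mul]
      by_contra hne
      have hgC : Quotient.out q ∈ Subgroup.centralizer (D : Set G) := by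
        by_contra hgC
        exact hne (blockCoeff_eq_zero_of_normal hM hD B.2.1 hgC ▸ memI_zero hM)
      obtain ⟨R, hR⟩ := sylowIn_exists p (Subgroup.centralizer ({Quotient.out q} : Set G))
      have hDR : D ≤ R := normal_le_of_sylowIn hR (le_centralizer_singleton.2 hgC) hD
      obtain ⟨g₀, hg₀, hg₀D⟩ := B.2.2
      obtain ⟨x, hx⟩ := minmax hM B.2.1 (hξ B) (hg₀.2.2 _ (hξ B)) hne (sylowIn_isPGroup hR)
        (sylowIn_le hR) hg₀D
      rw [hconjD] at hx
      obtain ⟨i, hi⟩ := hyall _ (pRegular_of_blockCoeff hM B.2.1 hne) (le_antisymm hx hDR ▸ hR)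
      exact hq (Finset.mem_image.2 ⟨i, Finset.mem_univ i,
        (ConjClasses.mk_eq_mk_iff_isConj.2 hi).trans (Quotient.out_eq q)⟩)
  -- the matrix
  let f := ZMod.castHom (dvd_refl p) (Res M)
  have hmat : (Matrix.of fun i j : ι => ((Nat.card {yz : G × G // IsConj (y i) yz.1 ∧
      IsConj (y j) yz.2 ∧ yz.2 * yz.1⁻¹ ∈ (S : Subgroup G)} / p ^ (a - d) : ℕ) : ZMod p)).map f =
      Matrix.diagonal (fun i => (k i : Res M)) * (Eᵀ * L) := by
    ext i j
    have hR : MemLocalRing M (∑ χ, τ i j χ) := memR_sum hM _ fun χ _ => hτR i j χ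
    obtain ⟨N, hN⟩ := dvd_of_memR_div hM (e := a - d) (hmain i j ▸ hR)
    have hNval : (N : ℂ) = ∑ χ, τ i j χ := by
      rw [← hmain i j, hN, Nat.cast_mul, Nat.cast_pow,
        mul_div_cancel_left₀ _ (pow_ne_zero _ hp0)]
    rw [Matrix.map_apply, Matrix.of_apply, map_natCast, hN,
      Nat.mul_div_cancel_left _ (pow_pos hp.pos _), Matrix.diagonal_mul, Matrix.mul_apply,
      ← res_natCast hM, hNval, res_sum hM _ fun χ _ => hτR i j χ, Finset.mul_sum]
    have hB : ∀ B, (k i : Res M) * (Eᵀ i B * L B j) = ∑ χ, if χ ∈ B.1 then res M (τ i j χ) else 0 := by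
      intro B
      have hterm : ∀ χ : IrrCharacter G, MemLocalRing M
          (if χ ∈ B.1 then (n : ℂ)⁻¹ * m χ * (χ : G → ℂ) (y i)⁻¹ else 0) := fun χ => by
        split_ifs
        · exact memR_mul hM (memR_mul hM (memR_natCast_inv hM hn0) (memR_natCast hM _))
            (memR_of_isIntegral hM (isIntegral_irr χ _))
        · exact memR_zero hM
      rw [show Eᵀ i B = res M (blockCoeff B.1 (y i)) from rfl, hE,
        res_sum hM _ fun χ _ => hterm χ, Finset.sum_mul, Finset.mul_sum]
      refine Finset.sum_congr rfl fun χ _ => ?_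
      by_cases hχ : χ ∈ B.1
      · rw [if_pos hχ, if_pos hχ]
        rw [show L B j = res M (centralChar (χ : G → ℂ) (y j)) from
          (res_eq_iff hM (Blocks.memR_centralChar hM _ _) (Blocks.memR_centralChar hM _ _)).2
            (sameBlock_of_mem hM B.2.1 (hξ B) hχ (y j))]
        have h1 := memR_mul hM (memR_mul hM (memR_natCast_inv hM hn0) (memR_natCast hM (m χ)))
            (memR_of_isIntegral hM (isIntegral_irr χ (y i)⁻¹))
        rw [← res_natCast hM, ← res_mul hM h1 (Blocks.memR_centralChar hM χ _),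
          ← res_mul hM (memR_natCast hM _) (memR_mul hM h1 (Blocks.memR_centralChar hM χ _))]
        congr 1
        simp only [τ]
        ring
      · rw [if_neg hχ, if_neg hχ, res_zero hM, zero_mul, mul_zero]
    simp only [hB]
    rw [Finset.sum_comm]
    refine Finset.sum_congr rfl fun χ _ => ?_
    by_cases hj : MemLocalIdeal M (centralChar (χ : G → ℂ) (y j))
    · have h0 : res M (τ i j χ) = 0 := by
        refine (res_eq_zero_iff hM (hτR i j χ)).2 ?_
        exact memI_mul_left hM (memR_mul hM (memR_mul hM (memR_mul hM (memR_natCast_inv hM hn0)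
          (memR_natCast hM _)) (memR_natCast hM _)) (memR_of_isIntegral hM (isIntegral_irr χ _))) hj
      simp [h0]
    · rw [Finset.sum_eq_single (⟨_, isPBlock_blockOf hM χ, hL0 χ j hj⟩ :
        {B : Set (IrrCharacter G) // IsPBlock M B ∧ IsDefectGroup p M B D})]
      · rw [if_pos (mem_blockOf_self hM χ)]
      · intro B _ hne
        exact if_neg fun hmem => hne (Subtype.ext (isPBlock_eq_blockOf hM B.2.1 hmem))
      · exact fun h => absurd (Finset.mem_univ _) h
  have hdet : IsUnit (Matrix.diagonal fun i => (k i : Res M)).det := by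
    rw [Matrix.det_diagonal, isUnit_iff_ne_zero, Finset.prod_ne_zero_iff]
    exact fun i _ h => hk0 i ((CharP.cast_eq_zero_iff (Res M) p _).1 h)
  rw [← rank_map_eq f, hmat, Matrix.rank_mul_eq_right_of_isUnit_det _ _ hdet,
    Nat.card_eq_fintype_card]
  refine le_antisymm ?_ ((Matrix.rank_mul_le_left _ _).trans (Matrix.rank_le_card_width _))
  calc Fintype.card {B : Set (IrrCharacter G) // IsPBlock M B ∧ IsDefectGroup p M B D}
      = (1 : Matrix {B : Set (IrrCharacter G) // IsPBlock M B ∧ IsDefectGroup p M B D} _ (Res M)).rank :=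
        Matrix.rank_one.symm
    _ = (L * (Eᵀ * L) * Eᵀ).rank := by rw [Matrix.mul_assoc, Matrix.mul_assoc, hdual, Matrix.mul_one, hdual]
    _ ≤ (Eᵀ * L).rank := (Matrix.rank_mul_le_left _ _).trans (Matrix.rank_mul_le_right _ _)

end Cfsg.Agent.RobinsonRank
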