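/-
A criterion for `p`-groups through the principal block.

* `isPGroup_of_sum_sq`: if `O_{p'}(G) = 1` and the squares of the degrees in the principal block sum
  to the order of a Sylow `p`-subgroup, then `G` is a `p`-group.
-/
import Cfsg.Agent.Lib.ModRep.Augmentation
import Cfsg.Agent.Lib.ModRep.Basic
import Cfsg.Agent.Lib.Blocks.WeakOrth
import Cfsg.Agent.Lib.Cores.Basic
import Cfsg.Agent.Lib.Transfer.Residual
import Cfsg.Agent.Lib.BrauerPairs.Basic

set_option autoImplicit false
set_option linter.unusedSectionVars false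

open scoped ComplexConjugate Pointwise

namespace Cfsg.Agent.BlocksNormal

open Cfsg Cfsg.Agent.Blocks Cfsg.Agent.BrauerPairs

variable {G : Type*} [Group G] [Fintype G] {p : ℕ} [Fact p.Prime] {M : Ideal AlgInt}

theorem isPGroup_of_sum_sq (hM : IsPModular p M) (hO : pPrimeCore p G = ⊥) (R : Sylow p G)
    (h : ∑ᶠ θ ∈ principalBlock M G, (θ : G → ℂ) 1 * (θ : G → ℂ) 1 = (Nat.card (R : Subgroup G) : ℂ)) :
    IsPGroup p G := by
  classical
  letI := ModRep.resField hM
  haveI := res_charP hM
  have := Fintype.ofFinite (IrrCharacter G)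
  have := Fintype.ofFinite (R : Subgroup G)
  have hp : p.Prime := Fact.out
  set B := principalBlock M G with hBdef
  have h1B : oneIrr G ∈ B := Blocks.sameBlock_refl hM _
  have hB : IsPBlock M B := ⟨oneIrr G, rfl⟩
  set f := blockCoeff B with hfdef
  have hfR : ∀ x, MemLocalRing M (f x) := memR_blockCoeff hM hB
  have hfcl : IsClassFunction G f := Blocks.isClassFunction_blockCoeff B
  have hfsum : ∀ x, f x = (Nat.card G : ℂ)⁻¹ *
      ∑ χ ∈ B.toFinset, (χ : G → ℂ) 1 * conj ((χ : G → ℂ) x) := fun x => by
    rw [hfdef, blockCoeff, finsum_mem_eq_toFinset_sum]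
  have hidx : ((R : Subgroup G).index : ℂ) ≠ 0 := Nat.cast_ne_zero.mpr Subgroup.index_ne_zero_of_finite
  have hf1 : f 1 = ((R : Subgroup G).index : ℂ)⁻¹ := by
    have e : ∑ χ ∈ B.toFinset, (χ : G → ℂ) 1 * conj ((χ : G → ℂ) 1) = (Nat.card (R : Subgroup G) : ℂ) := by
      rw [← h, finsum_mem_eq_toFinset_sum]
      exact Finset.sum_congr rfl fun χ _ => by
        rw [Char.IsCharacter.conj_apply_one (Char.IsIrrCharacter.isCharacter χ.2)]
    rw [hfsum, e, ← Subgroup.card_mul_index (R : Subgroup G), Nat.cast_mul]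
    have : (Nat.card (R : Subgroup G) : ℂ) ≠ 0 := Nat.cast_ne_zero.mpr Nat.card_pos.ne'
    field_simp
  have hf10 : f 1 ≠ 0 := by rw [hf1]; exact inv_ne_zero hidx
  have hfconj : ∀ x, conj (f x) = f x⁻¹ := fun x => by
    rw [hfsum, hfsum]
    simp only [map_mul, map_inv₀, Complex.conj_natCast, map_sum, Complex.conj_conj,
      fun χ : IrrCharacter G => Char.IsCharacter.conj_apply_one (Char.IsIrrCharacter.isCharacter χ.2)]
    congr 1
    refine Finset.sum_congr rfl fun χ _ => ?_
    rw [Char.IsCharacter.apply_inv (Char.IsIrrCharacter.isCharacter χ.2), Complex.conj_conj]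
  have hcf1 : conj (f 1) = f 1 := by rw [hfconj, inv_one]
  have hsing : ∀ u ∈ (R : Subgroup G), u ≠ 1 → f u = 0 := by
    intro u hu hu1
    rw [hfdef, blockCoeff_eq_ofOmega]
    refine ofOmega_singular_eq_zero hM (blockInd_mem_intRing hM hB) ?_
    obtain ⟨j, hj⟩ := IsPGroup.iff_orderOf.mp R.2 ⟨u, hu⟩
    rw [← Subgroup.orderOf_coe] at hj
    rw [hj]
    refine dvd_pow_self p fun h0 => hu1 ?_
    rw [h0, pow_zero, orderOf_eq_one_iff] at hj
    exact hj
  have hconv : conv f f = f := by
    rw [hfdef, blockCoeff_eq_ofOmega, ← ofOmega_mul, blockInd_mul_self]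
  have horth : ∀ a b, ∑ x, f (x * a⁻¹) * conj (f (x * b⁻¹)) = f (b * a⁻¹) := by
    intro a b
    conv_rhs => rw [← hconv, conv_eq_sum]
    refine Fintype.sum_equiv (Equiv.mulRight a⁻¹) _ _ fun x => ?_
    rw [Equiv.coe_mulRight, hfconj]
    congr 1
    rw [mul_inv_rev, mul_inv_rev, inv_inv, inv_inv]
    refine classFunction_eq_of_isConj hfcl (isConj_iff.mpr ⟨a * x⁻¹ * 1, ?_⟩) |>.trans rfl
    group
  -- the shifts by `R` span all shifts
  set q : G → ↥(R : Subgroup G) → ℂ := fun g u => f ((u : G) * g⁻¹) / f 1 with hq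
  set D : G → G → ℂ := fun g x => f (x * g⁻¹) - ∑ u : (R : Subgroup G), q g u * f (x * (u : G)⁻¹) with hD
  have hRorth : ∀ u v : (R : Subgroup G), ∑ x, f (x * (u : G)⁻¹) * conj (f (x * (v : G)⁻¹)) =
      if u = v then f 1 else 0 := fun u v => by
    rw [horth]
    split_ifs with huv
    · rw [huv, mul_inv_cancel]
    · exact hsing _ (mul_mem v.2 (inv_mem u.2)) fun e => huv (Subtype.ext (mul_inv_eq_one.mp e).symm)
  have hnorm : ∀ g, ∑ x, D g x * conj (D g x) =
      f 1 - (∑ u : (R : Subgroup G), f ((u : G) * g⁻¹) * conj (f ((u : G) * g⁻¹))) / f 1 := by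
    intro g
    have e : ∀ x, D g x * conj (D g x) = f (x * g⁻¹) * conj (f (x * g⁻¹))
        - ∑ u : (R : Subgroup G), conj (q g u) * (f (x * g⁻¹) * conj (f (x * (u : G)⁻¹)))
        - ∑ u : (R : Subgroup G), q g u * (f (x * (u : G)⁻¹) * conj (f (x * g⁻¹)))
        + ∑ u : (R : Subgroup G), ∑ v : (R : Subgroup G),
            q g u * conj (q g v) * (f (x * (u : G)⁻¹) * conj (f (x * (v : G)⁻¹))) := fun x => by
      simp only [hD, map_sub, map_sum, map_mul]
      rw [sub_mul, mul_sub, mul_sub, Finset.mul_sum, Finset.sum_mul, Finset.sum_mul_sum, sub_add]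
      congr 1
      · congr 1
        exact Finset.sum_congr rfl fun u _ => by ring
      · congr 1
        · exact Finset.sum_congr rfl fun u _ => by ring
        · exact Finset.sum_congr rfl fun u _ => Finset.sum_congr rfl fun v _ => by ring
    rw [Finset.sum_congr rfl fun x _ => e x]
    simp only [Finset.sum_add_distrib, Finset.sum_sub_distrib, Finset.sum_comm (s := (Finset.univ : Finset G)),
      ← Finset.mul_sum, hRorth, mul_ite, mul_zero, Finset.sum_ite_eq, Finset.mem_univ, if_true]
    simp only [horth, mul_inv_cancel]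
    simp only [hq, map_div₀, hcf1]
    rw [Finset.sum_div, sub_add, ← Finset.sum_sub_distrib, sub_sub, ← Finset.sum_add_distrib]
    congr 1
    refine Finset.sum_congr rfl fun u _ => ?_
    rw [show f (g * (u : G)⁻¹) = conj (f ((u : G) * g⁻¹)) by rw [hfconj, mul_inv_rev, inv_inv]]
    field_simp
    ring
  have htotal : ∑ g, ∑ x, D g x * conj (D g x) = 0 := by
    rw [Finset.sum_congr rfl fun g _ => hnorm g, Finset.sum_sub_distrib, Finset.sum_const,
      Finset.card_univ, nsmul_eq_mul, ← Finset.sum_div, Finset.sum_comm]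
    have e : ∀ u : (R : Subgroup G), ∑ g, f ((u : G) * g⁻¹) * conj (f ((u : G) * g⁻¹)) = f 1 := fun u => by
      have h1 := horth 1 1
      simp only [inv_one, mul_one] at h1
      rw [← h1]
      exact Fintype.sum_equiv ((Equiv.inv G).trans (Equiv.mulLeft (u : G))) _ _ fun g => rfl
    rw [Finset.sum_congr rfl fun u _ => e u, Finset.sum_const, Finset.card_univ, nsmul_eq_mul,
      mul_div_assoc, div_self hf10, mul_one, hf1, ← Nat.card_eq_fintype_card,
      ← Nat.card_eq_fintype_card, ← Subgroup.card_mul_index (R : Subgroup G), Nat.cast_mul,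
      mul_inv_cancel_right₀ hidx, sub_self]
  have hD0 : ∀ g x, D g x = 0 := by
    intro g x
    have h0 : ((∑ g, ∑ x, Complex.normSq (D g x) : ℝ) : ℂ) = 0 := by
      rw [← htotal]
      push_cast
      simp only [Complex.mul_conj]
    have h1 := (Finset.sum_eq_zero_iff_of_nonneg fun g _ =>
      Finset.sum_nonneg fun x _ => Complex.normSq_nonneg _).mp (Complex.ofReal_eq_zero.mp h0) g
      (Finset.mem_univ g)
    exact Complex.normSq_eq_zero.mp ((Finset.sum_eq_zero_iff_of_nonneg fun x _ =>
      Complex.normSq_nonneg _).mp h1 x (Finset.mem_univ x))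
  -- reduce modulo the maximal ideal
  set e := blk M B with hedef
  have hec : ∀ x, e.coeff x = res M (f x) := fun x => coeff_red f x
  have hee : e * e = e := blk_mul_self hM hB
  have hcentral : ∀ g : G, MonoidAlgebra.single g (1 : Res M) * e = e * MonoidAlgebra.single g 1 := by
    intro g
    ext x
    rw [MonoidAlgebra.coeff_single_mul_apply, MonoidAlgebra.coeff_mul_single_apply, one_mul, mul_one,
      hec, hec]
    refine congrArg _ (classFunction_eq_of_isConj hfcl (isConj_iff.mpr ⟨g, ?_⟩))
    group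
  have hqR : ∀ g u, MemLocalRing M (q g u) := fun g u => by
    simp only [hq, hf1, div_inv_eq_mul]
    exact memR_mul hM (hfR _) (memR_natCast hM _)
  let a : G → MonoidAlgebra (Res M) G := fun g =>
    ∑ u : (R : Subgroup G), MonoidAlgebra.single (u : G) (res M (q g u))
  have heg : ∀ g : G, e * MonoidAlgebra.single g 1 = e * a g := by
    intro g
    ext x
    simp only [a, Finset.mul_sum, MonoidAlgebra.coeff_sum, Finsupp.finsetSum_apply,
      MonoidAlgebra.coeff_mul_single_apply, hec, mul_one]
    have h1 := sub_eq_zero.mp (hD0 g x)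
    rw [h1, res_sum hM _ fun u _ => memR_mul hM (hqR g u) (hfR _)]
    exact Finset.sum_congr rfl fun u _ => by rw [res_mul hM (hqR g u) (hfR _), mul_comm]
  let ε : MonoidAlgebra (Res M) G →ₐ[Res M] Res M := MonoidAlgebra.lift (Res M) (Res M) G 1
  have hε : ∀ g (r : Res M), ε (MonoidAlgebra.single g r) = r := fun g r => by simp [ε]
  have hεsum : ∀ z : MonoidAlgebra (Res M) G, ε z = ∑ x, z.coeff x := fun z => by
    induction z using MonoidAlgebra.induction_linear with
    | zero => simp
    | add y z hy hz => simp [map_add, hy, hz, Finset.sum_add_distrib]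
    | single g r => simp [hε, MonoidAlgebra.coeff_single, Finsupp.single_apply]
  have hεe : ε e = 1 := by
    rw [hεsum, Finset.sum_congr rfl fun x _ => hec x, ← res_sum hM _ fun x _ => hfR x,
      BrauerPairs.sum_blockCoeff h1B, res_one hM]
  -- elements of order prime to `p` act trivially on the block
  have hreg : ∀ g : G, ¬ p ∣ orderOf g → e * MonoidAlgebra.single g 1 = e := by
    intro g hg
    set o := orderOf g
    have hpow : ∀ j : ℕ, e * MonoidAlgebra.single (g ^ j) 1 = e * a g ^ j := by
      intro j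
      induction j with
      | zero => simp [MonoidAlgebra.one_def]
      | succ j ih =>
        calc e * MonoidAlgebra.single (g ^ (j + 1)) 1
            = e * MonoidAlgebra.single (g ^ j) 1 * MonoidAlgebra.single g 1 := by
              rw [mul_assoc, MonoidAlgebra.single_mul_single, mul_one, pow_succ]
          _ = MonoidAlgebra.single (g ^ j) 1 * (e * MonoidAlgebra.single g 1) := by
              rw [← hcentral, mul_assoc]
          _ = e * MonoidAlgebra.single (g ^ j) 1 * a g := by
              rw [heg, ← mul_assoc, hcentral]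
          _ = _ := by rw [ih, mul_assoc, pow_succ]
    have hεa : ε (a g) = 1 := by
      have := congrArg ε (heg g)
      rwa [map_mul, map_mul, hεe, hε, one_mul, one_mul, eq_comm] at this
    have hnil : IsNilpotent (a g - 1) := by
      refine ModRep.isNilpotent_of_suppIn R.2 _ (fun x hx => ?_) ?_
      · simp only [a, MonoidAlgebra.one_def, MonoidAlgebra.coeff_sub, Finsupp.sub_apply,
          MonoidAlgebra.coeff_sum, Finsupp.finsetSum_apply, MonoidAlgebra.coeff_single,
          Finsupp.single_apply]
        rw [if_neg fun h1 : (1 : G) = x => hx (h1 ▸ one_mem _), sub_zero]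
        exact Finset.sum_eq_zero fun u _ => if_neg fun h1 : (u : G) = x => hx (h1 ▸ u.2)
      · rw [← hεsum, map_sub, hεa, map_one, sub_self]
    set S : MonoidAlgebra (Res M) G := ∑ i ∈ Finset.range o, ∑ l ∈ Finset.range i, a g ^ l
    have hc : (∑ i ∈ Finset.range o, a g ^ i) = (o : MonoidAlgebra (Res M) G) + (a g - 1) * S := by
      simp only [S, Finset.mul_sum]
      conv_rhs => rw [Finset.sum_congr rfl fun i (_ : i ∈ Finset.range o) =>
        (Finset.mul_sum _ _ _).symm.trans (mul_geom_sum (a g) i)]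
      rw [Finset.sum_sub_distrib, Finset.sum_const, Finset.card_range, nsmul_one, add_sub_cancel]
    have hS : Commute (a g - 1) S :=
      (Commute.sum_right _ _ _ fun i _ => Commute.sum_right _ _ _ fun l _ =>
        ((Commute.refl (a g)).pow_right l).sub_left (Commute.one_left _))
    have hou : IsUnit (o : MonoidAlgebra (Res M) G) := by
      rw [← map_natCast (algebraMap (Res M) (MonoidAlgebra (Res M) G))]
      refine (IsUnit.map _ (isUnit_iff_ne_zero.mpr fun h0 => hg ?_))
      exact (CharP.cast_eq_zero_iff (Res M) p o).mp h0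
    have hunit : IsUnit (∑ i ∈ Finset.range o, a g ^ i) := by
      rw [hc]
      exact (hS.isNilpotent_mul_right hnil).isUnit_add_left_of_commute hou (Nat.commute_cast _ _)
    have h0 : e * (a g - 1) * (∑ i ∈ Finset.range o, a g ^ i) = 0 := by
      rw [mul_assoc, mul_geom_sum, mul_sub, ← hpow o, pow_orderOf_eq_one, mul_one,
        ← MonoidAlgebra.one_def, mul_one, sub_self]
    have h2 := (IsUnit.mul_left_eq_zero hunit).mp h0
    rw [mul_sub, mul_one, sub_eq_zero] at h2
    rw [heg, h2]
  -- the kernel
  let K : Subgroup G :=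
    { carrier := {g | e * MonoidAlgebra.single g (1 : Res M) = e}
      one_mem' := by show _ * _ = _; rw [← MonoidAlgebra.one_def, mul_one]
      mul_mem' := fun {x y} hx hy => by
        show _ * _ = _
        rw [← mul_one (1 : Res M), ← MonoidAlgebra.single_mul_single, ← mul_assoc]
        rw [show e * MonoidAlgebra.single x (1 : Res M) = e from hx]
        exact hy
      inv_mem' := fun {x} hx => by
        show _ * _ = _
        conv_lhs => rw [← show e * MonoidAlgebra.single x (1 : Res M) = e from hx]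
        rw [mul_assoc, MonoidAlgebra.single_mul_single, mul_inv_cancel, mul_one,
          ← MonoidAlgebra.one_def, mul_one] }
  have hKn : K.Normal := ⟨fun k hk n => by
    show e * MonoidAlgebra.single (n * k * n⁻¹) (1 : Res M) = e
    rw [show MonoidAlgebra.single (n * k * n⁻¹) (1 : Res M) = MonoidAlgebra.single n 1 *
      MonoidAlgebra.single k 1 * MonoidAlgebra.single n⁻¹ 1 by simp [MonoidAlgebra.single_mul_single],
      ← mul_assoc, ← mul_assoc, ← hcentral, mul_assoc (MonoidAlgebra.single n 1),
      show e * MonoidAlgebra.single k (1 : Res M) = e from hk, hcentral, mul_assoc,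
      MonoidAlgebra.single_mul_single, mul_inv_cancel, mul_one, ← MonoidAlgebra.one_def, mul_one]⟩
  have hKR : ∀ u ∈ K, u ∈ (R : Subgroup G) → u = 1 := by
    intro u hu huR
    by_contra hne
    have h1 := congrArg (fun z : MonoidAlgebra (Res M) G => z.coeff 1)
      (show e * MonoidAlgebra.single u (1 : Res M) = e from hu)
    simp only [MonoidAlgebra.coeff_mul_single_apply, one_mul, mul_one, hec] at h1
    rw [hsing u⁻¹ (inv_mem huR) (inv_ne_one.mpr hne), res_zero hM] at h1
    have h2 := res_mul hM (hfR 1) (memR_natCast hM (R : Subgroup G).index)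
    rw [← h1, zero_mul, hf1, inv_mul_cancel₀ hidx, res_one hM] at h2
    exact one_ne_zero h2
  have hKp : ¬ p ∣ Nat.card K := by
    intro hd
    obtain ⟨x, hx⟩ := exists_prime_orderOf_dvd_card' p hd
    have hxp : IsPGroup p (Subgroup.zpowers (x : G)) := IsPGroup.of_card (n := 1) (by
      rw [Nat.card_zpowers, Subgroup.orderOf_coe, hx, pow_one])
    obtain ⟨S, hS'⟩ := hxp.exists_le_sylow
    obtain ⟨c, hc⟩ := MulAction.exists_smul_eq G S R
    have h1 : c * (x : G) * c⁻¹ ∈ (R : Subgroup G) := by
      rw [← hc, Sylow.coe_subgroup_smul, Subgroup.mem_pointwise_smul_iff_inv_smul_mem, ← map_inv,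
        MulAut.smul_def, MulAut.conj_apply, inv_inv]
      simpa [mul_assoc] using hS' (Subgroup.mem_zpowers (x : G))
    have h2 := hKR _ (hKn.conj_mem _ x.2 c) h1
    rw [mul_inv_eq_one, mul_eq_left] at h2
    exact hp.ne_one (by rw [← hx, ← Subgroup.orderOf_coe, h2, orderOf_one])
  have hK1 : K = ⊥ := le_bot_iff.mp (hO ▸ Cores.le_pPrimeCore hKn
    ((hp.coprime_iff_not_dvd.mpr hKp).symm))
  refine IsPGroup.iff_orderOf.mpr fun g => ?_
  obtain ⟨x, y, rfl, -, -, hk, hco⟩ := Transfer.exists_pPart_mul (p := p) g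
  have hy : y = 1 := by
    have : y ∈ K := hreg y ((hp.coprime_iff_not_dvd).mp hco.symm)
    rwa [hK1, Subgroup.mem_bot] at this
  rwa [hy, mul_one]

end Cfsg.Agent.BlocksNormal
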