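import Cfsg.Agent.Lib.BlocksNormal.Deflate
import Cfsg.Agent.Lib.BlocksNormal.Elem
import Cfsg.Agent.Lib.BlocksNormal.Count
import Cfsg.Agent.Lib.BrauerPairs.Subpair
import Cfsg.Agent.Lib.BrauerPairs.Normal
import Cfsg.Agent.Lib.Char.PRegular

/-!
# Defect groups are intersections of two Sylow subgroups

* `sum_conj_invariant_mem`: orbit counting for sums of functions invariant under conjugation.
* `exists_regular_sylow_inter`: in the normaliser of a defect group, a regular element with a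
  trivial Sylow intersection modulo the defect group.
* `defectGroup_eq_inter`: a defect group `D ≤ P` is `P ⊓ x P x⁻¹` for some regular `x` with Sylow
  `p`-subgroup `D` of its centraliser.
-/

set_option autoImplicit false

open scoped ComplexConjugate

namespace Cfsg.Agent.BlocksNormal

open Cfsg Cfsg.Agent.Blocks

open scoped Classical in
theorem sum_conj_invariant_mem {K : Type*} [Group K] [Fintype K] (R : Subgroup K) (F : K → ℂ)
    (S : AddSubmonoid ℂ) (hF : ∀ t ∈ R, ∀ z, F (t * z * t⁻¹) = F z)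
    (hdiv : ∀ z, F z / (Nat.card ↥(R ⊓ Subgroup.centralizer ({z} : Set K)) : ℂ) ∈ S) :
    (∑ z, F z) / (Nat.card R : ℂ) ∈ S := by
  letI : MulAction R K :=
    { smul := fun t z => (t : K) * z * (t : K)⁻¹
      one_smul := fun z => show ((1 : R) : K) * z * ((1 : R) : K)⁻¹ = z by simp
      mul_smul := fun a b z => show ((a * b : R) : K) * z * ((a * b : R) : K)⁻¹ =
        (a : K) * ((b : K) * z * (b : K)⁻¹) * (a : K)⁻¹ by push_cast; group }
  rw [← Finset.sum_fiberwise Finset.univ
    (fun a => (Quotient.mk (MulAction.orbitRel R K) a : MulAction.orbitRel.Quotient R K)) F,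
    Finset.sum_div]
  refine S.sum_mem fun q _ => ?_
  obtain ⟨b, rfl⟩ := Quotient.exists_rep q
  have hset : (Finset.univ.filter fun a : K =>
      (Quotient.mk (MulAction.orbitRel R K) a) = Quotient.mk _ b)
      = (MulAction.orbit R b).toFinset := by
    ext a
    simp only [Finset.mem_filter, Finset.mem_univ, true_and, Set.mem_toFinset, Quotient.eq,
      MulAction.orbitRel_apply]
  have hconst : ∀ a ∈ (MulAction.orbit R b).toFinset, F a = F b := by
    intro a ha
    obtain ⟨u, rfl⟩ := Set.mem_toFinset.mp ha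
    exact hF u u.2 b
  have hstab : MulAction.stabilizer R b = (Subgroup.centralizer ({b} : Set K)).subgroupOf R := by
    ext t
    rw [MulAction.mem_stabilizer_iff, Subgroup.mem_subgroupOf, Blocks.mem_centralizer_singleton]
    exact mul_inv_eq_iff_eq_mul
  have hcard : (MulAction.orbit R b).toFinset.card *
      Nat.card ↥(R ⊓ Subgroup.centralizer ({b} : Set K)) = Nat.card R := by
    rw [Set.toFinset_card, ← Nat.card_eq_fintype_card,
      Nat.card_congr (MulAction.orbitEquivQuotientStabilizer R b), hstab,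
      ← Nat.card_congr (Subgroup.subgroupOfEquivOfLe
        (inf_le_left : R ⊓ Subgroup.centralizer ({b} : Set K) ≤ R)).toEquiv,
      Subgroup.inf_subgroupOf_left]
    exact Subgroup.index_mul_card _
  rw [hset, Finset.sum_congr rfl hconst, Finset.sum_const, nsmul_eq_mul]
  convert hdiv b using 1
  rw [← hcard, Nat.cast_mul, mul_div_mul_left]
  exact Nat.cast_ne_zero.mpr (Finset.card_pos.mpr
    ⟨b, Set.mem_toFinset.mpr (MulAction.mem_orbit_self b)⟩).ne'

variable {G : Type*} [Group G] [Fintype G] {p : ℕ} [Fact p.Prime] {M : Ideal AlgInt}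

/-- With a normal defect group `Q`, some regular element seen by the idempotent meets a given Sylow
subgroup of the quotient trivially. -/
theorem exists_regular_sylow_inter (hM : IsPModular p M) {b : Set (IrrCharacter G)}
    (hb : IsPBlock M b) {Q : Subgroup G} [Q.Normal] (hQ : IsDefectGroup p M b Q)
    (S : Sylow p (G ⧸ Q)) :
    ∃ x : G, ¬ MemLocalIdeal M (blockCoeff b x) ∧
      ∀ t ∈ (S : Subgroup (G ⧸ Q)), (x : G ⧸ Q) * t * (x : G ⧸ Q)⁻¹ ∈ (S : Subgroup (G ⧸ Q)) →
        t = 1 := by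
  classical
  have hp : p.Prime := Fact.out
  have := Fintype.ofFinite (G ⧸ Q)
  have := Fintype.ofFinite (IrrCharacter (G ⧸ Q))
  have hQp := isPGroup_defectGroup hM hQ
  obtain ⟨ψ, hψ, hψQ⟩ := exists_mem_trivOn hM hb Q hQp
  obtain ⟨φ, hφ⟩ := CentralChar.exists_deflation Q ψ hψQ
  have hsing := blockOf_deflation_singleton hM hQ hψ hφ
  by_contra hcon
  push Not at hcon
  set π := QuotientGroup.mk' Q
  set f := pushFun π (blockCoeff b) with hfdef
  have hπ : Function.Surjective π := QuotientGroup.mk'_surjective Q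
  have hf : IsClassFunction (G ⧸ Q) f := isClassFunction_pushFun hπ (isClassFunction_blockCoeff b)
  have hfR : ∀ y, MemLocalRing M (f y) := memR_pushFun hM π (memR_blockCoeff hM hb)
  set g := blockCoeff ({φ} : Set (IrrCharacter (G ⧸ Q))) with hgdef
  have hsingB : IsPBlock M ({φ} : Set (IrrCharacter (G ⧸ Q))) := ⟨φ, hsing.symm⟩
  have hgc : IsClassFunction (G ⧸ Q) g := isClassFunction_blockCoeff _
  have hgval : ∀ y, g y = (Nat.card (G ⧸ Q) : ℂ)⁻¹ * ((φ : G ⧸ Q → ℂ) 1 * (φ : G ⧸ Q → ℂ) y⁻¹) := by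
    intro y
    simp only [g, blockCoeff, finsum_mem_singleton,
      ← Char.IsCharacter.apply_inv (Char.IsIrrCharacter.isCharacter φ.2)]
  set a := (Nat.card (G ⧸ Q)).factorization p with ha
  have hdef := (singleton_iff_not_dvd hM φ).mpr hsing
  obtain ⟨n, hn⟩ := charDegree_dvd_card φ
  rw [hn, Nat.mul_div_cancel_left _ (charDegree_pos φ)] at hdef
  have hva : (charDegree (φ : G ⧸ Q → ℂ)).factorization p = a := by
    rw [ha, hn, Nat.factorization_mul (charDegree_pos φ).ne' (fun h : n = 0 => hdef (by rw [h]; exact dvd_zero p))]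
    simp [Nat.factorization_eq_zero_of_not_dvd hdef]
  have hn0 : (n : ℂ) ≠ 0 := Nat.cast_ne_zero.mpr fun h => hdef (h ▸ dvd_zero p)
  have hd0 : (φ : G ⧸ Q → ℂ) 1 ≠ 0 := irr_one_ne_zero φ
  have hgval' : ∀ y, g y = (n : ℂ)⁻¹ * (φ : G ⧸ Q → ℂ) y⁻¹ := by
    intro y
    rw [hgval, hn, Nat.cast_mul, charDegree_cast]
    field_simp
  have hω : omega (φ : G ⧸ Q → ℂ) f = 1 := by
    rw [hfdef, ← omega_comp, show (fun x : G => (φ : G ⧸ Q → ℂ) (π x)) = (ψ : G → ℂ) from
      (funext hφ).symm, blockCoeff_eq_ofOmega, omega_ofOmega, blockInd_of_mem hψ]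
  have hconv : Blocks.conv f g = g := by
    refine eq_of_omega_eq (isClassFunction_conv hf hgc) hgc fun η => ?_
    rw [omega_conv hf hgc, hgdef, blockCoeff_eq_ofOmega, omega_ofOmega]
    by_cases hη : η ∈ ({φ} : Set (IrrCharacter (G ⧸ Q)))
    · rw [Set.mem_singleton_iff.mp hη, hω, one_mul]
    · rw [blockInd_of_notMem hη, mul_zero]
  set h : G ⧸ Q → ℂ := fun x => ∑ u : (S : Subgroup (G ⧸ Q)), g (x⁻¹ * u) with hhdef
  have hsumS : ∑ x, f x * h x = g 1 := by
    have h1 : ∑ u : (S : Subgroup (G ⧸ Q)), g u = g 1 := by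
      rw [Finset.sum_eq_single (1 : (S : Subgroup (G ⧸ Q)))]
      · simp
      · intro u _ hu
        rw [hgval, apply_eq_zero_of_singleton hM hsing (y := (u : G ⧸ Q)⁻¹), mul_zero, mul_zero]
        obtain ⟨k, hk⟩ := IsPGroup.iff_orderOf.mp S.2 u
        rw [orderOf_inv, Subgroup.orderOf_coe, hk]
        refine dvd_pow_self p fun h0 => hu ?_
        rwa [h0, pow_zero, orderOf_eq_one_iff] at hk
      · simp
    rw [← h1]
    refine Eq.trans ?_ (Finset.sum_congr rfl fun u _ => congrFun hconv (u : G ⧸ Q))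
    simp only [hhdef, conv_eq_sum, Finset.mul_sum]
    exact Finset.sum_comm
  have hinv : ∀ t ∈ (S : Subgroup (G ⧸ Q)), ∀ z, f (t * z * t⁻¹) * h (t * z * t⁻¹) = f z * h z := by
    intro t ht z
    rw [hf z t]
    congr 1
    simp only [hhdef]
    refine Fintype.sum_equiv (MulAut.conj (⟨t, ht⟩ : (S : Subgroup (G ⧸ Q)))⁻¹).toEquiv _ _ fun u => ?_
    show g _ = g (z⁻¹ * (t⁻¹ * u * t⁻¹⁻¹))
    rw [← hgc ((t * z * t⁻¹)⁻¹ * u) t⁻¹]
    congr 1
    group
  let I : AddSubmonoid ℂ :=
    { carrier := {z | MemLocalIdeal M z}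
      zero_mem' := memI_zero hM
      add_mem' := fun ha hb => memI_add hM ha hb }
  let Rr : AddSubmonoid ℂ :=
    { carrier := {z | MemLocalRing M z}
      zero_mem' := memR_zero hM
      add_mem' := fun ha hb => memR_add hM ha hb }
  have hgdiv : ∀ (z : G ⧸ Q) (R : Subgroup (G ⧸ Q)), IsPGroup p R →
      R ≤ Subgroup.centralizer ({z} : Set (G ⧸ Q)) → MemLocalRing M (g z / (Nat.card R : ℂ)) := by
    intro z R hR hRz
    have h1 := Char.isIntegral_regular_value_div hp φ.2 (charDegree_cast φ).symm z⁻¹ R hR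
      (fun r hr => by
        rw [mem_centralizer_singleton]
        exact (Commute.inv_right (mem_centralizer_singleton.mp (hRz hr))))
    rw [hva, ha, Nat.sub_self, pow_zero, Nat.cast_one, one_mul] at h1
    rw [hgval', mul_div_assoc]
    exact memR_mul hM (memR_natCast_inv hM hdef) (memR_of_isIntegral hM h1)
  have hhdiv : ∀ (y : G ⧸ Q) (R : Subgroup (G ⧸ Q)), R ≤ (S : Subgroup (G ⧸ Q)) →
      (∀ t ∈ R, y * t * y⁻¹ ∈ (S : Subgroup (G ⧸ Q))) → MemLocalRing M (h y / (Nat.card R : ℂ)) := by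
    intro y R hRS hRy
    let F : G ⧸ Q → ℂ := fun z => if y * z ∈ (S : Subgroup (G ⧸ Q)) then g z else 0
    have hsum : ∑ z, F z = h y := by
      simp only [F, ← Finset.sum_filter, hhdef]
      refine Finset.sum_bij' (fun z hz => (⟨y * z, (Finset.mem_filter.mp hz).2⟩ :
          (S : Subgroup (G ⧸ Q)))) (fun u _ => y⁻¹ * u) (fun _ _ => Finset.mem_univ _)
        (fun u _ => by simp) (fun z _ => by simp) (fun u _ => by simp) fun z _ => by simp
    rw [← hsum]
    refine sum_conj_invariant_mem R F Rr (fun t ht z => ?_) fun z => ?_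
    · simp only [F]
      refine if_congr ?_ (hgc z t) rfl
      rw [show y * (t * z * t⁻¹) = (y * t * y⁻¹) * (y * z) * t⁻¹ by group]
      rw [Subgroup.mul_mem_cancel_right _ (Subgroup.inv_mem _ (hRS ht)),
        Subgroup.mul_mem_cancel_left _ (hRy t ht)]
    · show MemLocalRing M _
      simp only [F]
      split_ifs
      · exact hgdiv z _ ((S.2.to_le hRS).to_le inf_le_left) inf_le_right
      · rw [zero_div]
        exact memR_zero hM
  have hterm : ∀ y : G ⧸ Q, MemLocalIdeal M (f y * h y /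
      (Nat.card ↥((S : Subgroup (G ⧸ Q)) ⊓ Subgroup.centralizer ({y} : Set (G ⧸ Q))) : ℂ)) := by
    intro y
    set C := (S : Subgroup (G ⧸ Q)) ⊓ Subgroup.centralizer ({y} : Set (G ⧸ Q)) with hCdef
    have hCy : ∀ t ∈ C, y * t * y⁻¹ = t := fun t ht => by
      rw [← mem_centralizer_singleton.mp ht.2, mul_inv_cancel_right]
    by_cases hfI : MemLocalIdeal M (f y)
    · rw [mul_div_assoc]
      exact memI_mul_right hM hfI (hhdiv y C inf_le_left fun t ht => by rw [hCy t ht]; exact ht.1)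
    obtain ⟨x, hxy, hx⟩ : ∃ x : G, π x = y ∧ ¬ MemLocalIdeal M (blockCoeff b x) := by
      by_contra hne
      push Not at hne
      refine hfI (memI_sum hM _ fun x _ => ?_)
      split_ifs with he
      · exact hne x he
      · exact memI_zero hM
    subst hxy
    obtain ⟨t, ht, ht', ht1⟩ := hcon x hx
    have hC1 : C = ⊥ := by
      rw [eq_bot_iff]
      intro w hw
      obtain ⟨t', rfl⟩ := hπ w
      have hxC : x ∈ Subgroup.centralizer (Q : Set G) := by
        by_contra hne
        exact hx (by rw [BrauerPairs.blockCoeff_eq_zero_of_normal hM hQp hb hne]; exact memI_zero hM)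
      set T := C.comap π with hT
      have hTp : IsPGroup p T := (S.2.to_le inf_le_left).comap_of_ker_isPGroup π
        (by rw [QuotientGroup.ker_mk']; exact hQp)
      have hreg := pRegular_of_blockCoeff hM hb hx
      have hTC : T ≤ Subgroup.centralizer ({x} : Set G) := by
        intro r hr
        rw [mem_centralizer_singleton]
        have h1 : r * x * r⁻¹ = x := by
          refine (eq_of_regular_of_mem hp hQp hreg ?_ hxC ?_).symm
          · rwa [show orderOf (r * x * r⁻¹) = orderOf x from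
              orderOf_injective (MulAut.conj r).toMonoidHom (MulAut.conj r).injective x]
          · rw [← QuotientGroup.eq_one_iff]
            show π (x⁻¹ * (r * x * r⁻¹)) = 1
            rw [map_mul, map_mul, map_mul, map_inv, map_inv,
              mem_centralizer_singleton.mp (Subgroup.mem_comap.mp hr).2, mul_inv_cancel_right,
              inv_mul_cancel]
        exact mul_inv_eq_iff_eq_mul.mp h1
      obtain ⟨k, hk, hkQ⟩ := hQ
      obtain ⟨z, hz⟩ := minmax hM hb hψ (hk.2.2 ψ hψ) hx hTp hTC hkQ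
      rw [conjSub_eq_self_iff.mpr (by simp [Subgroup.normalizer_eq_top])] at hz
      rw [Subgroup.mem_bot]
      exact (QuotientGroup.eq_one_iff t').mpr (hz (Subgroup.mem_comap.mpr hw))
    rw [hC1, Subgroup.card_bot, Nat.cast_one, div_one]
    refine memI_mul_left hM (hfR _) ?_
    let R : Subgroup (G ⧸ Q) := Subgroup.zpowers t
    have hRS : R ≤ (S : Subgroup (G ⧸ Q)) := Subgroup.zpowers_le.mpr ht
    have hRy : ∀ r ∈ R, π x * r * (π x)⁻¹ ∈ (S : Subgroup (G ⧸ Q)) := by
      intro r hr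
      obtain ⟨i, rfl⟩ := Subgroup.mem_zpowers_iff.mp hr
      rw [← conj_zpow]
      exact Subgroup.zpow_mem _ ht' i
    obtain ⟨j, hj⟩ := (S.2.to_le hRS).exists_card_eq
    have hj0 : j ≠ 0 := fun h0 => ht1 (by
      rw [h0, pow_zero, Nat.card_zpowers, orderOf_eq_one_iff] at hj
      exact hj)
    have h1 := memI_mul_right hM ((memI_natCast hM (n := p ^ j)).mpr (dvd_pow_self p hj0))
      (hhdiv (π x) R hRS hRy)
    rwa [hj, mul_div_cancel₀ _ (Nat.cast_ne_zero.mpr (pow_pos hp.pos j).ne')] at h1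
  have hS := sum_conj_invariant_mem (S : Subgroup (G ⧸ Q)) (fun y => f y * h y) I hinv hterm
  change MemLocalIdeal M ((∑ y, f y * h y) / _) at hS
  rw [hsumS, hgval', inv_one, S.card_eq_multiplicity, ← ha, ← charDegree_cast] at hS
  obtain ⟨r, hr⟩ := Nat.ordProj_dvd (charDegree (φ : G ⧸ Q → ℂ)) p
  rw [hva] at hr
  have hr' : ¬ p ∣ r := fun hd => by
    obtain ⟨c, rfl⟩ := hd
    refine Nat.pow_succ_factorization_not_dvd (charDegree_pos φ).ne' hp ⟨c, ?_⟩
    rw [hva, pow_succ, mul_assoc]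
    exact hr
  rw [hr, Nat.cast_mul, Nat.cast_pow, mul_div_assoc,
    mul_div_cancel_left₀ _ (pow_ne_zero a (Nat.cast_ne_zero.mpr hp.ne_zero))] at hS
  have h2 := memI_mul_left hM (memR_natCast hM n) hS
  rw [← mul_assoc, mul_inv_cancel₀ hn0, one_mul] at h2
  exact hr' ((memI_natCast hM).mp h2)

theorem defectGroup_eq_inter (hM : IsPModular p M) {B : Set (IrrCharacter G)} (hB : IsPBlock M B)
    {D : Subgroup G} (hD : IsDefectGroup p M B D) (P : Sylow p G) (hDP : D ≤ P) :
    ∃ x : G, ¬ p ∣ orderOf x ∧ SylowIn p (Subgroup.centralizer ({x} : Set G)) D ∧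
      (P : Subgroup G) ⊓ conjSub x (P : Subgroup G) = D := by
  classical
  have hDp := isPGroup_defectGroup hM hD
  obtain ⟨b, hb, hbD, -⟩ := first_main_exists hM hDp hB hD
  set N := Subgroup.normalizer (D : Set G) with hN
  set Q := D.subgroupOf N with hQdef
  have := Fintype.ofFinite N
  have hDN : D ≤ N := Subgroup.le_normalizer
  haveI : Q.Normal := Subgroup.normal_in_normalizer
  obtain ⟨S, hS⟩ := ((P.2.comap_subtype (K := N)).map (QuotientGroup.mk' Q)).exists_le_sylow
  obtain ⟨x, hx, hxS⟩ := exists_regular_sylow_inter hM hb hbD S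
  have hreg := pRegular_of_blockCoeff hM hb hx
  have hQp := isPGroup_defectGroup hM hbD
  have hxC : x ∈ Subgroup.centralizer (Q : Set N) := by
    by_contra hne
    exact hx (by rw [BrauerPairs.blockCoeff_eq_zero_of_normal hM hQp hb hne]; exact memI_zero hM)
  have hxD : (x : G) ∈ Subgroup.centralizer (D : Set G) :=
    Subgroup.mem_centralizer_iff.mpr fun u hu => congrArg Subtype.val
      (Subgroup.mem_centralizer_iff.mp hxC ⟨u, hDN hu⟩ (Subgroup.mem_subgroupOf.mpr hu))
  refine ⟨x, by rwa [Subgroup.orderOf_coe], ?_, ?_⟩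
  · apply sylowIn_of_sylowIn_normalizer
    refine sylowIn_iff.mpr ⟨le_inf (le_centralizer_singleton.mpr hxD) hDN, hDp,
      fun R hRK hR hDR => ?_⟩
    obtain ⟨ψ, hψ⟩ := isPBlock_nonempty hM hb
    obtain ⟨k, hk, hkQ⟩ := hbD
    obtain ⟨z, hz⟩ := minmax hM hb hψ (hk.2.2 ψ hψ) hx (Q := R.subgroupOf N)
      (hR.of_equiv (Subgroup.subgroupOfEquivOfLe (hRK.trans inf_le_right)).symm)
      (fun r hr => mem_centralizer_singleton.mpr (Subtype.ext
        (mem_centralizer_singleton.mp (hRK (Subgroup.mem_subgroupOf.mp hr)).1))) hkQ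
    rw [conjSub_eq_self_iff.mpr (by simp [Subgroup.normalizer_eq_top])] at hz
    refine le_antisymm (fun r hr => ?_) hDR
    exact Subgroup.mem_subgroupOf.mp
      (hz (Subgroup.mem_subgroupOf.mpr hr : (⟨r, (hRK hr).2⟩ : N) ∈ R.subgroupOf N))
  · set R0 := (P : Subgroup G) ⊓ conjSub (x : G) (P : Subgroup G)
    have hDR : D ≤ R0 := fun u hu => by
      refine ⟨hDP hu, mem_conjSub.mpr ?_⟩
      rw [mul_assoc, Subgroup.mem_centralizer_iff.mp hxD u hu, inv_mul_cancel_left]
      exact hDP hu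
    by_contra hne
    have hlt := BrauerPairs.lt_inf_normalizer (P.2.to_le inf_le_left) (lt_of_le_of_ne hDR (Ne.symm hne))
    obtain ⟨t, ⟨⟨htP, htx⟩, htN⟩, htD⟩ := SetLike.exists_of_lt hlt
    replace htx := mem_conjSub.mp (htx : t ∈ conjSub (x : G) (P : Subgroup G))
    set t' : N := ⟨t, htN⟩
    set t₂ : N := x⁻¹ * t' * x
    have h2 : (t₂ : N ⧸ Q) ∈ (S : Subgroup (N ⧸ Q)) := hS ⟨t₂, htx, rfl⟩
    have h1 : (t' : N ⧸ Q) ∈ (S : Subgroup (N ⧸ Q)) := hS ⟨t', htP, rfl⟩
    have h3 := hxS _ h2 (by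
      rw [← QuotientGroup.mk_mul, ← QuotientGroup.mk_inv, ← QuotientGroup.mk_mul]
      simpa [t₂, mul_assoc] using h1)
    rw [show (t₂ : N ⧸ Q) = (x : N ⧸ Q)⁻¹ * t' * x from rfl] at h3
    have h4 : (t' : N ⧸ Q) = 1 := by
      have h5 := mul_eq_one_iff_eq_inv.mp h3
      rwa [mul_eq_left] at h5
    exact htD (Subgroup.mem_subgroupOf.mp ((QuotientGroup.eq_one_iff t').mp h4))

end Cfsg.Agent.BlocksNormal
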